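import Cfsg.Agent.Lib.Compute.LightCert
import Cfsg.Agent.Lib.Compute.AutSpec

/-!
Codes of permutations of 100 points: equalities, a backtrack for centralisers along pairs of base points, and
closed lists.
-/

set_option autoImplicit false
set_option maxRecDepth 100000

namespace Cfsg.Agent.HSUniq.Finish

open Cfsg.Agent.PermCert
open Cfsg.Agent.PermAut (Fwd fwd_rep)

theorem eq_of_codes {a b : ℕ} {α β : Equiv.Perm (Fin 100)} (ha : Fwd 7 (a, α)) (hb : Fwd 7 (b, β)) (e : a = b) :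
    α = β := Equiv.ext fun i => Fin.ext ((ha i).symm.trans (by subst e; exact hb i))

theorem fwd_mul {a b : ℕ} {α β : Equiv.Perm (Fin 100)} (ha : Fwd 7 (a, α)) (hb : Fwd 7 (b, β)) :
    Fwd 7 (comp 7 100 a b, α * β) := by
  intro i
  show get 7 (comp 7 100 a b) i = ((α * β) i : ℕ)
  rw [get_comp _ _ _ _ _ i.2, show get 7 b i = (β i : ℕ) from hb i]
  exact ha (β i)

theorem fwd_one : Fwd 7 (idCode 7 100, (1 : Equiv.Perm (Fin 100))) := fun i => get_idCode 7 100 i (by norm_num) i.2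

theorem comp_eq_comp {a b c d : ℕ} {α β γ δ : Equiv.Perm (Fin 100)} (ha : Fwd 7 (a, α)) (hb : Fwd 7 (b, β))
    (hc : Fwd 7 (c, γ)) (hd : Fwd 7 (d, δ)) (h : α * β = γ * δ) : comp 7 100 a b = comp 7 100 c d := by
  refine pack_congr 7 100 fun i hi => ?_
  rw [show get 7 b i = (β ⟨i, hi⟩ : ℕ) from hb ⟨i, hi⟩, show get 7 d i = (δ ⟨i, hi⟩ : ℕ) from hd ⟨i, hi⟩,
    show get 7 a (β ⟨i, hi⟩ : ℕ) = (α (β ⟨i, hi⟩) : ℕ) from ha _,
    show get 7 c (δ ⟨i, hi⟩ : ℕ) = (γ (δ ⟨i, hi⟩) : ℕ) from hc _, ← Equiv.Perm.mul_apply, h]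
  rfl

theorem comp_eq_id {a b : ℕ} {α β : Equiv.Perm (Fin 100)} (ha : Fwd 7 (a, α)) (hb : Fwd 7 (b, β))
    (h : α * β = 1) : comp 7 100 a b = idCode 7 100 := by
  refine comp_eq_idCode fun i hi => ?_
  rw [show get 7 b i = (β ⟨i, hi⟩ : ℕ) from hb ⟨i, hi⟩,
    show get 7 a (β ⟨i, hi⟩ : ℕ) = (α (β ⟨i, hi⟩) : ℕ) from ha _, ← Equiv.Perm.mul_apply, h]
  rfl

/-- A product of two codes commutes with `x` at the points of a base. -/
def commAt (x pre q : ℕ) : Bool :=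
  [7, 90, 1, 91, 5].all fun i => Nat.beq (get 7 pre (get 7 q (get 7 x i))) (get 7 x (get 7 pre (get 7 q i)))

theorem commAt_spec {x pre q : ℕ} {X π τ : Equiv.Perm (Fin 100)} (hX : Fwd 7 (x, X)) (hπ : Fwd 7 (pre, π))
    (hτ : Fwd 7 (q, τ)) (h : π * τ * X = X * (π * τ)) : commAt x pre q = true := by
  have key : ∀ i, i < 100 → get 7 pre (get 7 q (get 7 x i)) = get 7 x (get 7 pre (get 7 q i)) := by
    intro i hi
    rw [show get 7 x i = (X ⟨i, hi⟩ : ℕ) from hX ⟨i, hi⟩, show get 7 q i = (τ ⟨i, hi⟩ : ℕ) from hτ ⟨i, hi⟩,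
      show get 7 q (X ⟨i, hi⟩ : ℕ) = (τ (X ⟨i, hi⟩) : ℕ) from hτ _,
      show get 7 pre (τ (X ⟨i, hi⟩) : ℕ) = (π (τ (X ⟨i, hi⟩)) : ℕ) from hπ _,
      show get 7 pre (τ ⟨i, hi⟩ : ℕ) = (π (τ ⟨i, hi⟩) : ℕ) from hπ _,
      show get 7 x (π (τ ⟨i, hi⟩) : ℕ) = (X (π (τ ⟨i, hi⟩)) : ℕ) from hX _, ← Equiv.Perm.mul_apply,
      ← Equiv.Perm.mul_apply, h]
    rfl
  simp [commAt, key 7, key 90, key 1, key 91, key 5]

/-- All codes commuting with `x` along a chain whose base consists of pairs `b, x b`. -/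
def walk (x : ℕ) : List CLevel → ℕ → Option (ℕ × ℕ) → List ℕ
  | [], pre, _ => [pre]
  | [(_, _, T)], pre, none =>
    T.flatMap fun t => bif commAt x pre t.2.1.1 then [comp 7 100 pre t.2.1.1] else []
  | (b, _, T) :: L, pre, none =>
    T.flatMap fun t => walk x L pre (some (get 7 x (get 7 pre (get 7 t.2.1.1 b)), t.2.1.1))
  | (_, _, T) :: L, pre, some (p, q) =>
    match T.find? (fun t => Nat.beq (get 7 pre (get 7 q t.1)) p) with
    | none => []
    | some t => walk x L (comp 7 100 (comp 7 100 pre q) t.2.1.1) none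

/-- The base consists of pairs `b, x b`. -/
def pairOK (x : ℕ) : List CLevel → Bool
  | (b, _, _) :: (c, S, T) :: L => Nat.beq (get 7 x b) c && pairOK x L
  | _ => true

theorem walk_spec {x : ℕ} {X : Equiv.Perm (Fin 100)} (hX : Fwd 7 (x, X)) :
    ∀ (L : List CLevel), LightSpec 7 100 L → pairOK x L = true → ∀ {pre : ℕ} {π : Equiv.Perm (Fin 100)},
      Fwd 7 (pre, π) → ∀ {h g : Equiv.Perm (Fin 100)}, h ∈ lightSet 7 100 L → g = π * h → g * X = X * g →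
        ∃ c ∈ walk x L pre none, Fwd 7 (c, g)
  | [], _, _, pre, π, hπ, h, g, hh, hg, hc => by
    simp only [lightSet, Set.mem_singleton_iff] at hh
    subst hh
    rw [mul_one] at hg
    subst hg
    exact ⟨pre, by simp [walk], hπ⟩
  | [(b, S, T)], hs, _, pre, π, hπ, h, g, hh, hg, hc => by
    obtain ⟨t, ht, τ, hτ, r, hr, rfl⟩ := hh
    simp only [lightSet, Set.mem_singleton_iff] at hr
    subst hr
    rw [mul_one] at hg
    subst hg
    refine ⟨comp 7 100 pre t.2.1.1, ?_, fwd_mul hπ (fwd_rep hτ)⟩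
    simp only [walk, List.mem_flatMap]
    exact ⟨t, ht, by simp [commAt_spec hX hπ (fwd_rep hτ) hc]⟩
  | (b, S, T) :: (c, S', T') :: L, hs, hp, pre, π, hπ, h, g, hh, hg, hc => by
    simp only [pairOK, Bool.and_eq_true, Nat.beq_eq] at hp
    obtain ⟨t, ht, τ, hτ, r, hr, rfl⟩ := hh
    have hr' := hr
    obtain ⟨t', ht', τ', hτ', r', hr'', rfl⟩ := hr'
    have hn1 := fwd_mul hπ (fwd_rep hτ)
    have hgb : (g ⟨b, hs.2.1⟩ : ℕ) = get 7 (comp 7 100 pre t.2.1.1) b := by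
      rw [show get 7 (comp 7 100 pre t.2.1.1) b = ((π * τ) ⟨b, hs.2.1⟩ : ℕ) from hn1 ⟨b, hs.2.1⟩, hg,
        ← mul_assoc, Equiv.Perm.mul_apply, topMon_fix hs (lightSet_subset hs.1 hr)]
    have hgc : (g ⟨c, hs.1.2.1⟩ : ℕ) = get 7 x (get 7 (comp 7 100 pre t.2.1.1) b) := by
      rw [← hgb, show (⟨c, hs.1.2.1⟩ : Fin 100) = X ⟨b, hs.2.1⟩ from Fin.ext (hp.1.symm.trans (hX ⟨b, hs.2.1⟩)),
        ← Equiv.Perm.mul_apply, hc, Equiv.Perm.mul_apply]
      exact (hX _).symm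
    have hkey := tfst_apply hs.1 ht' hτ' hr''
    have hpt : ∀ i : Fin 100, get 7 pre (get 7 t.2.1.1 i) = get 7 (comp 7 100 pre t.2.1.1) i := fun i =>
      (get_comp _ _ _ _ _ i.2).symm
    have hval : get 7 (comp 7 100 pre t.2.1.1) t'.1 = get 7 x (get 7 (comp 7 100 pre t.2.1.1) b) := by
      rw [← hgc, ← hkey, hg]
      exact (hn1 _).trans (by simp only [Equiv.Perm.mul_apply])
    have hkb : ∀ v ∈ T', get 7 pre (get 7 t.2.1.1 v.1) = get 7 (comp 7 100 pre t.2.1.1) v.1 := by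
      intro v hv
      obtain ⟨⟨σv, -, hσv⟩, hkv⟩ := hs.1.2.2.2.1 v hv
      have e1 : v.1 = (σv ⟨c, hs.1.2.1⟩ : ℕ) := by rw [← (hσv ⟨c, hs.1.2.1⟩).1]; exact hkv.symm
      rw [e1]
      exact hpt _
    have hb : get 7 pre (get 7 t.2.1.1 b) = get 7 (comp 7 100 pre t.2.1.1) b := hpt ⟨b, hs.2.1⟩
    obtain ⟨u, hu⟩ : ∃ u, T'.find? (fun v => Nat.beq (get 7 pre (get 7 t.2.1.1 v.1))
        (get 7 x (get 7 pre (get 7 t.2.1.1 b)))) = some u := by
      rw [← Option.isSome_iff_exists, List.find?_isSome]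
      exact ⟨t', ht', by rw [Nat.beq_eq, hb, hkb t' ht', hval]⟩
    have hut : u = t' := by
      have hm := List.mem_of_find?_eq_some hu
      have h1 := List.find?_some hu
      rw [Nat.beq_eq, hb, hkb u hm, ← hval] at h1
      obtain ⟨⟨σu, -, hσu⟩, hku⟩ := hs.1.2.2.2.1 u hm
      refine List.inj_on_of_nodup_map hs.1.2.2.2.2.2.2 hm ht' ?_
      have e1 : u.1 = (σu ⟨c, hs.1.2.1⟩ : ℕ) := by rw [← (hσu ⟨c, hs.1.2.1⟩).1]; exact hku.symm
      rw [e1, ← hkey] at h1 ⊢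
      rw [show get 7 (comp 7 100 pre t.2.1.1) (σu ⟨c, hs.1.2.1⟩ : ℕ) = ((π * τ) (σu ⟨c, hs.1.2.1⟩) : ℕ) from hn1 _,
        show get 7 (comp 7 100 pre t.2.1.1) ((τ' * r') ⟨c, hs.1.2.1⟩ : ℕ) =
          ((π * τ) ((τ' * r') ⟨c, hs.1.2.1⟩) : ℕ) from hn1 _] at h1
      rw [(π * τ).injective (Fin.ext h1)]
    subst hut
    obtain ⟨d, hd, hd'⟩ := walk_spec hX L hs.1.1 hp.2 (fwd_mul hn1 (fwd_rep hτ')) hr''
      (show g = π * τ * τ' * r' by rw [hg]; group) hc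
    refine ⟨d, ?_, hd'⟩
    simp only [walk, List.mem_flatMap]
    exact ⟨t, ht, by rw [hu]; exact hd⟩

/-- A list of codes contains the identity and is closed under left multiplication by generators. -/
def closedOK (gens : List Elt) (L : List ℕ) : Bool :=
  gens.all (validElt 7 100) && L.any (fun d => Nat.beq d (idCode 7 100)) &&
    gens.all fun g => L.all fun c => L.any fun d => Nat.beq d (comp 7 100 g.1 c)

theorem closedOK_spec {gens : List Elt} {L : List ℕ} (h : closedOK gens L = true) {σ : Equiv.Perm (Fin 100)}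
    (hσ : σ ∈ genGroup 7 100 gens) : ∃ c ∈ L, Fwd 7 (c, σ) := by
  simp only [closedOK, Bool.and_eq_true, List.all_eq_true, List.any_eq_true, Nat.beq_eq] at h
  obtain ⟨⟨hv, d, hd, e⟩, hmul⟩ := h
  rw [genGroup, ← Subgroup.mem_toSubmonoid, Subgroup.closure_toSubmonoid_of_finite] at hσ
  induction hσ using Submonoid.closure_induction_left with
  | one => exact ⟨d, hd, e ▸ fwd_one⟩
  | mul_left x hx y _ ih =>
    obtain ⟨c, hc, hf⟩ := ih
    obtain ⟨g, hg, rfl⟩ := List.mem_map.1 hx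
    obtain ⟨d', hd', e'⟩ := hmul g hg c hc
    exact ⟨d', hd', e' ▸ fwd_mul (fwd_rep (rep_toPerm (hv g hg))) hf⟩

/-- An involution with a fixed point and a moved point. -/
def fixInvol (c : ℕ) : Bool :=
  ((List.range 100).all fun i => Nat.beq (get 7 c (get 7 c i)) i) && ((List.range 100).any fun i => Nat.beq (get 7 c i) i) &&
    (List.range 100).any fun i => !Nat.beq (get 7 c i) i

end Cfsg.Agent.HSUniq.Finish
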