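import Cfsg.Agent.Lib.HSUniq.HHom
import Cfsg.Agent.Lib.HSUniq.FinishBasic
import Cfsg.Agent.Lib.SporPerm.HSModel

/-!
Elements of the group on 100 points satisfying the relations of both local models, and generating it.
-/

set_option autoImplicit false
set_option maxRecDepth 100000
set_option Elab.async false

namespace Cfsg.Agent.HSUniq.Img

open Cfsg.Agent.PermCert
open Cfsg.Agent.PermAut (Fwd fwd_rep bwd_rep)
open Cfsg.Agent.HSUniq.Finish (eq_of_codes fwd_mul fwd_one)

/-- A code of the element of order four. -/
def vE : Elt :=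
  (3848583886145255920207620788917559884249283697493698119768742734599096327035565351221801116020271866234962715099076967914570445272834019687718323805328185375335351046649433329983645045166885633002944458149289864, 3582109335557854806006761113567265434656204828954360308691305010638884596025429281559061151836752379965870200975082423386421607614587261537773100535927786738635456182902068401137457621292693058426284873224251012)

/-- The element of order four -/
noncomputable def vP : Equiv.Perm (Fin 100) := toPerm 7 100 vE

/-- A code of the element of order seven. -/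
def gE : Elt :=
  (2250185696813869862119329868027267479098282226021273430959854946358079895667922007447810910801277795409022093621617600276741301021113942518657459505822488342552822245379662372841374279990540740685195956938956438, 3847425924504315640453330469460539801358127872995193430389234619798428174391345061633951417568207410659407619499390460653164109907534557831478138823360219366723263948623364436483429229737820300395481538062882575)

/-- The element of order seven -/
noncomputable def gP : Equiv.Perm (Fin 100) := toPerm 7 100 gE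

/-- A code of the element of order three. -/
def sE : Elt :=
  (3310623820804604839906854640271813998384157562198530210890119646949368640639255967374507989856859623479254925441872312067363114572567931319353384488078878707164220733014598284078574516976058646949848573487285583, 2729838181971235895047362245097738914807100844163888692704340145660493331075616039169311129146040841538694291808008740937273974018470569169776563383119441775336552113042784114096923271521104750294463410415736646)

/-- The element of order three -/
noncomputable def sP : Equiv.Perm (Fin 100) := toPerm 7 100 sE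

/-- A code of the involution of the four group. -/
def wE : Elt :=
  (2972234330518668104757927885357594491982221198162142332216628941671426032969679508160049862237845968626659053486085796315911247118426039205063014467750314296252653159795944291454034338189393520149231231087709525, 2972234330518668104757927885357594491982221198162142332216628941671426032969679508160049862237845968626659053486085796315911247118426039205063014467750314296252653159795944291454034338189393520149231231087709525)

/-- The involution of the four group -/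
noncomputable def wP : Equiv.Perm (Fin 100) := toPerm 7 100 wE

/-- A code of the involution of the centraliser. -/
def yE : Elt :=
  (3603941686839588763919778861019414767250038449102916355660203072621186949161238254469829891281783451195192194099345898695360815592507040561311114525838439764207726361918887600922022428388704180493660211163129092, 3603941686839588763919778861019414767250038449102916355660203072621186949161238254469829891281783451195192194099345898695360815592507040561311114525838439764207726361918887600922022428388704180493660211163129092)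

/-- The involution of the centraliser -/
noncomputable def yP : Equiv.Perm (Fin 100) := toPerm 7 100 yE

theorem elts_ok : ([vE, gE, sE, wE, yE].all fun e => validElt 7 100 e && sift 7 100 SporPerm.hsLevels e.1) = true := by
  decide +kernel

theorem elt_ok {e : Elt} (he : e ∈ [vE, gE, sE, wE, yE]) :
    validElt 7 100 e = true ∧ sift 7 100 SporPerm.hsLevels e.1 = true := by
  simpa using List.all_eq_true.1 elts_ok e he

theorem fwd_e {e : Elt} (he : e ∈ [vE, gE, sE, wE, yE]) :
    Fwd 7 (e.1, toPerm 7 100 e) ∧ Fwd 7 (e.2, (toPerm 7 100 e)⁻¹) :=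
  ⟨fwd_rep (rep_toPerm (elt_ok he).1), bwd_rep (rep_toPerm (elt_ok he).1)⟩

theorem mem_e {e : Elt} (he : e ∈ [vE, gE, sE, wE, yE]) :
    toPerm 7 100 e ∈ genGroup 7 100 SporPerm.hsGens :=
  cert_mem SporPerm.hs_cert (elt_ok he).1 (elt_ok he).2

/-- The product of two codes. -/
def mulE (a b : ℕ) : ℕ := comp 7 100 a b

/-- The code of a power. -/
def powC (c n : ℕ) : ℕ := (mulE c)^[n] (idCode 7 100)

theorem fwd_mulE {a b : ℕ} {α β : Equiv.Perm (Fin 100)} (ha : Fwd 7 (a, α)) (hb : Fwd 7 (b, β)) :
    Fwd 7 (mulE a b, α * β) := fwd_mul ha hb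

theorem fwd_powC {c : ℕ} {σ : Equiv.Perm (Fin 100)} (h : Fwd 7 (c, σ)) (n : ℕ) : Fwd 7 (powC c n, σ ^ n) := by
  induction n with
  | zero => rw [pow_zero]; exact fwd_one
  | succ n ih =>
    rw [pow_succ', powC, Function.iterate_succ_apply']
    exact fwd_mulE h ih

/-- The code of an element of the module. -/
def mvecE (a : ℕ) : ℕ :=
  mulE (mulE (powC vE.1 (a / 16)) (powC (mulE (mulE gE.1 vE.1) gE.2) (a / 4 % 4)))
    (powC (mulE (mulE (powC gE.1 2) vE.1) (powC gE.2 2)) (a % 4))

theorem fwd_mvec (a : ℕ) : Fwd 7 (mvecE a, mvec vP gP a) := by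
  have hv := fwd_e (e := vE) (by simp)
  have hg := fwd_e (e := gE) (by simp)
  rw [mvec, ← inv_pow]
  exact fwd_mulE (fwd_mulE (fwd_powC hv.1 _) (fwd_powC (fwd_mulE (fwd_mulE hg.1 hv.1) hg.2) _))
    (fwd_powC (fwd_mulE (fwd_mulE (fwd_powC hg.1 _) hv.1) (fwd_powC hg.2 _)) _)

/-- The code of an element of the linear group. -/
def sigE (c : ℕ) : ℕ :=
  if c < 21 then mulE (powC gE.1 (c / 3)) (powC sE.1 (c % 3))
  else mulE (mulE (powC gE.1 (c / 21 - 1)) wE.1) (mulE (powC gE.1 (c % 21 / 3)) (powC sE.1 (c % 21 % 3)))

theorem fwd_sig (c : ℕ) : Fwd 7 (sigE c, sig gP sP wP c) := by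
  have hg := fwd_e (e := gE) (by simp)
  have hs := fwd_e (e := sE) (by simp)
  have hw := fwd_e (e := wE) (by simp)
  unfold sigE sig frob
  split
  · exact fwd_mulE (fwd_powC hg.1 _) (fwd_powC hs.1 _)
  · exact fwd_mulE (fwd_mulE (fwd_powC hg.1 _) hw.1) (fwd_mulE (fwd_powC hg.1 _) (fwd_powC hs.1 _))

/-- The code of an element of the second local subgroup. -/
def emME (c : ℕ) : ℕ := mulE (mvecE (c / 168)) (sigE (c % 168))

theorem fwd_emM (c : ℕ) : Fwd 7 (emME c, emM vP gP sP wP c) := fwd_mulE (fwd_mvec _) (fwd_sig _)

/-- The code of a coset representative. -/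
def xRepE (n : ℕ) : ℕ := if n = 0 then idCode 7 100 else mulE (emME (toM (preList.getD n 0))) yE.1

/-- The code of an element of the centraliser. -/
def eHE (c : ℕ) : ℕ := mulE (xRepE (c / 1536)) (emME (toM (c % 1536)))

theorem fwd_eH (c : ℕ) : Fwd 7 (eHE c, eH vP gP sP wP yP c) := by
  have hy := fwd_e (e := yE) (by simp)
  have hx : ∀ n, Fwd 7 (xRepE n, xRep vP gP sP wP yP n) := fun n => by
    unfold xRepE xRep
    split
    · exact fwd_one
    · exact fwd_mulE (fwd_emM _) hy.1
  exact fwd_mulE (hx _) (fwd_emM _)

/-- A code of the element of order three permuting the four group. -/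
def rEc : ℕ := emME rM

theorem fwd_r : Fwd 7 (rEc, emM vP gP sP wP rM) := fwd_emM _

theorem mrel : MRel vP gP sP wP := by
  obtain ⟨hv, hv'⟩ := fwd_e (e := vE) (by simp)
  obtain ⟨hg, hg'⟩ := fwd_e (e := gE) (by simp)
  obtain ⟨hs, hs'⟩ := fwd_e (e := sE) (by simp)
  obtain ⟨hw, hw'⟩ := fwd_e (e := wE) (by simp)
  have hg2 : Fwd 7 (powC gE.2 2, (gP ^ 2)⁻¹) := inv_pow gP 2 ▸ fwd_powC hg' 2
  have hg3 : Fwd 7 (powC gE.2 3, (gP ^ 3)⁻¹) := inv_pow gP 3 ▸ fwd_powC hg' 3
  have h1 := fwd_mulE (fwd_mulE hg hv) hg'
  have h2 := fwd_mulE (fwd_mulE (fwd_powC hg 2) hv) hg2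
  refine ⟨⟨?_, ?_, ?_, ?_, ?_, ?_⟩, ?_, ?_, ?_, ?_, ?_, ?_, ?_⟩
  · exact eq_of_codes (fwd_powC hg 7) fwd_one (by decide +kernel)
  · exact eq_of_codes (fwd_powC hs 3) fwd_one (by decide +kernel)
  · exact eq_of_codes (fwd_mulE hs hg) (fwd_mulE (fwd_powC hg 2) hs) (by decide +kernel)
  · exact eq_of_codes (fwd_mulE hw hw) fwd_one (by decide +kernel)
  · exact eq_of_codes (fwd_mulE hw hs) (fwd_mulE (fwd_powC hs 2) hw) (by decide +kernel)
  · exact eq_of_codes (fwd_mulE (fwd_mulE hw hg) hw)
      (fwd_mulE (fwd_mulE (fwd_powC hg 6) hw) (fwd_powC hg 6)) (by decide +kernel)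
  · exact eq_of_codes (fwd_powC hv 4) fwd_one (by decide +kernel)
  · exact eq_of_codes (fwd_mulE hv h1) (fwd_mulE h1 hv) (by decide +kernel)
  · exact eq_of_codes (fwd_mulE hv h2) (fwd_mulE h2 hv) (by decide +kernel)
  · exact eq_of_codes (fwd_mulE (fwd_mulE (fwd_powC hg 3) hv) hg3)
      (fwd_mulE (fwd_mulE hv (fwd_powC h1 3)) (fwd_powC h2 2)) (by decide +kernel)
  · exact eq_of_codes (fwd_mulE hs hv) (fwd_mulE hv hs) (by decide +kernel)
  · exact eq_of_codes (fwd_mulE hw hv) (fwd_mulE (fwd_powC hv 3) hw) (by decide +kernel)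
  · exact eq_of_codes (fwd_mulE hw h1) (fwd_mulE h2 hw) (by decide +kernel)

theorem th_codes : allUpTo (fun i => Nat.beq (mulE yE.1 (emME (toM (stGens.getD i 0))))
    (mulE (emME (toM (stImgs.getD i 0))) yE.1)) 5 = true := by decide +kernel

theorem hrel : HRel vP gP sP wP yP := by
  obtain ⟨hy, -⟩ := fwd_e (e := yE) (by simp)
  refine ⟨mrel, eq_of_codes (fwd_mulE hy hy) fwd_one (by decide +kernel), fun i hi => ?_, ?_⟩
  · exact eq_of_codes (fwd_mulE hy (fwd_emM _)) (fwd_mulE (fwd_emM _) hy)
      (Nat.eq_of_beq_eq_true (allUpTo_spec th_codes (k := i) hi))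
  · have hu := fwd_mulE hy (fwd_emM (toM (preList.getD 2 0)))
    exact eq_of_codes (fwd_mulE (fwd_mulE hu hu) hu) (fwd_emM (toM rhoI)) (by decide +kernel)

theorem fourth : (emM vP gP sP wP rM * eH vP gP sP wP yP 1548) ^ 4 = 1 :=
  eq_of_codes (fwd_powC (fwd_mulE fwd_r (fwd_eH 1548)) 4) fwd_one (by decide +kernel)

/-- The code of a product of letters, where `7680` is the element of order three. -/
def wordE : List ℕ → ℕ
  | [] => idCode 7 100
  | x :: l => mulE (if x = 7680 then rEc else eHE x) (wordE l)

/-- A product of letters. -/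
noncomputable def wordP : List ℕ → Equiv.Perm (Fin 100)
  | [] => 1
  | x :: l => (if x = 7680 then emM vP gP sP wP rM else eH vP gP sP wP yP x) * wordP l

theorem fwd_word : ∀ l, Fwd 7 (wordE l, wordP l)
  | [] => fwd_one
  | x :: l => by
    refine fwd_mulE ?_ (fwd_word l)
    split
    · exact fwd_r
    · exact fwd_eH x

/-- The generators as words. -/
def genWords : List (List ℕ) :=
  [[21, 169, 1536, 7680, 169, 5, 169, 1548, 7680, 1548, 5, 7680, 584], [1536, 169, 7680, 5, 1548, 7680, 1548, 169, 5, 7680, 1536, 7680, 7292]]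

theorem gens_ok : allUpTo (fun i => validElt 7 100 (SporPerm.hsGens.getD i (0, 0)) &&
    Nat.beq (SporPerm.hsGens.getD i (0, 0)).1 (wordE (genWords.getD i [])) &&
    (genWords.getD i []).all (fun x => Nat.ble x 7680)) 2 = true ∧ SporPerm.hsGens.length = 2 := by
  decide +kernel

theorem word_mem {K : Subgroup (Equiv.Perm (Fin 100))} (hr : emM vP gP sP wP rM ∈ K)
    (he : ∀ c, c < 7680 → eH vP gP sP wP yP c ∈ K) : ∀ l : List ℕ, (∀ x ∈ l, x ≤ 7680) → wordP l ∈ K
  | [], _ => K.one_mem
  | x :: l, h => by
    refine K.mul_mem ?_ (word_mem hr he l fun z hz => h z (List.mem_cons_of_mem _ hz))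
    split
    · exact hr
    · exact he x (by have := h x List.mem_cons_self; omega)

theorem elts_mem : vP ∈ genGroup 7 100 SporPerm.hsGens ∧ gP ∈ genGroup 7 100 SporPerm.hsGens ∧
    sP ∈ genGroup 7 100 SporPerm.hsGens ∧ wP ∈ genGroup 7 100 SporPerm.hsGens ∧
    yP ∈ genGroup 7 100 SporPerm.hsGens :=
  ⟨mem_e (by simp), mem_e (by simp), mem_e (by simp), mem_e (by simp), mem_e (by simp)⟩

/-- The elements generate the group on 100 points. -/
theorem gen_top : Subgroup.closure (insert (emM vP gP sP wP rM) (eH vP gP sP wP yP '' {c | c < 7680})) =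
    genGroup 7 100 SporPerm.hsGens := by
  obtain ⟨mv, mg, ms, mw, my⟩ := elts_mem
  refine le_antisymm ?_ ?_
  · have mM : ∀ c, emM vP gP sP wP c ∈ genGroup 7 100 SporPerm.hsGens := fun c => by
      unfold emM mvec sig frob
      split <;> repeat' first | apply mul_mem | apply pow_mem | apply inv_mem | assumption
    refine (Subgroup.closure_le _).2 ?_
    rintro _ (rfl | ⟨c, -, rfl⟩)
    · exact mM _
    · refine mul_mem ?_ (mM _)
      unfold xRep
      split
      · exact one_mem _
      · exact mul_mem (mM _) my
  · refine (Subgroup.closure_le _).2 ?_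
    intro σ hσ
    obtain ⟨e, he, rfl⟩ := List.mem_map.1 hσ
    obtain ⟨i, hi, rfl⟩ := List.mem_iff_getElem.1 he
    have h := allUpTo_spec gens_ok.1 (k := i) (by have := gens_ok.2; omega)
    rw [List.getD_eq_getElem _ _ hi] at h
    simp only [Bool.and_eq_true, Nat.beq_eq, List.all_eq_true, Nat.ble_eq] at h
    rw [eq_of_codes (fwd_rep (rep_toPerm h.1.1)) (fwd_word _) h.1.2]
    exact word_mem (Subgroup.subset_closure (Or.inl rfl))
      (fun c hc => Subgroup.subset_closure (Or.inr ⟨c, hc, rfl⟩)) _ h.2

end Cfsg.Agent.HSUniq.Img
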