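import Cfsg.Agent.Lib.HSUniq.FinishSmall
import Cfsg.Agent.Lib.SporPerm.HSModel
import Mathlib.Algebra.Group.ConjFinite

/-!
A subgroup isomorphic to HS that contains the centraliser, of order 7680, of one of its involutions is the
whole group.
-/

set_option autoImplicit false
set_option maxRecDepth 100000

namespace Cfsg.Agent.HSUniq

open Finish

attribute [local irreducible] Finish.uM Finish.yM

section Counting

variable {G : Type*} [Group G] [Finite G]

theorem finish_card_conj (t : G) :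
    Nat.card {x : G // IsConj t x} * Nat.card (Subgroup.centralizer ({t} : Set G)) = Nat.card G := by
  rw [← Subgroup.card_mul_index (Subgroup.centralizer ({t} : Set G)), mul_comm, Nat.mul_right_inj Nat.card_pos.ne',
    Subgroup.index_eq_card]
  refine Nat.card_congr ?_
  refine Equiv.trans ?_ ((MulAction.orbitEquivQuotientStabilizer (ConjAct G) t).trans (Subgroup.quotientEquivOfEq ?_))
  · exact Equiv.subtypeEquivRight fun x => by
      rw [ConjAct.mem_orbit_conjAct]; exact ⟨IsConj.symm, IsConj.symm⟩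
  · ext g; simp [MulAction.mem_stabilizer_iff, Subgroup.mem_centralizer_singleton_iff, ConjAct.smul_def,
      mul_inv_eq_iff_eq_mul]
    exact Subgroup.mem_centralizer_singleton_iff.symm

theorem finish_mem_conj {a x g : G} :
    g ∈ Subgroup.centralizer ({a * x * a⁻¹} : Set G) ↔ a⁻¹ * g * a ∈ Subgroup.centralizer ({x} : Set G) := by
  simp only [Subgroup.mem_centralizer_singleton_iff]
  constructor <;> intro h
  · calc a⁻¹ * g * a * x = a⁻¹ * (g * (a * x * a⁻¹)) * a := by group
      _ = a⁻¹ * (a * x * a⁻¹ * g) * a := by rw [h]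
      _ = x * (a⁻¹ * g * a) := by group
  · calc g * (a * x * a⁻¹) = a * (a⁻¹ * g * a * x) * a⁻¹ := by group
      _ = a * (x * (a⁻¹ * g * a)) * a⁻¹ := by rw [h]
      _ = a * x * a⁻¹ * g := by group

theorem finish_card_cent_conj (a x : G) :
    Nat.card (Subgroup.centralizer ({a * x * a⁻¹} : Set G)) = Nat.card (Subgroup.centralizer ({x} : Set G)) :=
  Nat.card_congr ⟨fun g => ⟨a⁻¹ * g * a, finish_mem_conj.1 g.2⟩,
    fun g => ⟨a * g * a⁻¹, finish_mem_conj.2 (by simpa [mul_assoc] using g.2)⟩,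
    fun g => Subtype.ext (by simp [mul_assoc]), fun g => Subtype.ext (by simp [mul_assoc])⟩

/-- A proper subgroup with small fibres over the other cosets meets a set in too few elements. -/
theorem finish_coset_count (H : Subgroup G) {I : Type*} [Finite I] (v : I → G) (m : ℕ)
    (h0 : Nat.card {x : I // v x ∈ H} ≤ m) (hI : Nat.card I = m * H.index) (hm : 0 < m)
    (small : ∀ j : I, v j ∉ H → Nat.card {x : I // v x * (v j)⁻¹ ∈ H} < m) : H = ⊤ := by
  classical
  by_contra hH
  let π : I → Quotient (QuotientGroup.rightRel H) := fun x => Quotient.mk _ (v x)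
  have hπ : ∀ x y : I, π x = π y ↔ v y * (v x)⁻¹ ∈ H := fun x y => by
    rw [Quotient.eq, QuotientGroup.rightRel_apply]
  haveI : Fintype (Quotient (QuotientGroup.rightRel H)) := Fintype.ofFinite _
  haveI : Fintype I := Fintype.ofFinite _
  have hQ : Fintype.card (Quotient (QuotientGroup.rightRel H)) = H.index := by
    rw [← Nat.card_eq_fintype_card, Nat.card_congr (QuotientGroup.quotientRightRelEquivQuotientLeftRel H)]; rfl
  have hindex : 2 ≤ H.index := by
    have h0 := H.index_ne_zero_of_finite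
    have : H.index ≠ 1 := fun e => hH (Subgroup.index_eq_one.1 e)
    omega
  let q₀ : Quotient (QuotientGroup.rightRel H) := Quotient.mk _ 1
  have hsum : Nat.card I = ∑ q, Nat.card {x : I // π x = q} := by
    rw [← Nat.card_sigma, Nat.card_congr (Equiv.sigmaFiberEquiv π)]
  rw [← Finset.add_sum_erase _ _ (Finset.mem_univ q₀), hI] at hsum
  have hq₀ : Nat.card {x : I // π x = q₀} ≤ m := by
    refine (Nat.card_congr (Equiv.subtypeEquivRight fun x => ?_)).trans_le h0
    rw [Quotient.eq, QuotientGroup.rightRel_apply, one_mul, inv_mem_iff]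
  have hle : ∀ q ∈ Finset.univ.erase q₀, Nat.card {x : I // π x = q} ≤ m - 1 := by
    intro q hq
    rcases isEmpty_or_nonempty {x : I // π x = q} with he | ⟨⟨j, hj⟩⟩
    · simp [Nat.card_of_isEmpty]
    · have hjH : v j ∉ H := fun hm' => Finset.ne_of_mem_erase hq (hj ▸ (by
        rw [Quotient.eq, QuotientGroup.rightRel_apply, one_mul]; exact H.inv_mem hm'))
      refine Nat.le_sub_one_of_lt ((Nat.card_congr (Equiv.subtypeEquivRight fun x => ?_)).trans_lt (small j hjH))
      rw [← hj, eq_comm, hπ]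
  have hbound := Finset.sum_le_card_nsmul _ _ _ hle
  rw [Finset.card_erase_of_mem (Finset.mem_univ _), Finset.card_univ, hQ, smul_eq_mul] at hbound
  obtain ⟨k, hk⟩ : ∃ k, H.index = k + 2 := ⟨H.index - 2, by omega⟩
  obtain ⟨n, rfl⟩ : ∃ n, m = n + 1 := ⟨m - 1, by omega⟩
  rw [hk] at hsum hbound
  simp only [Nat.add_sub_cancel, show k + 2 - 1 = k + 1 by omega] at hbound hsum
  nlinarith

end Counting

section Embedded

variable {G : Type*} [Group G] [Finite G] {G0 : Subgroup G} (f : ↥MH →* G) (finj : Function.Injective f)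
  (fmem : ∀ σ, f σ ∈ G0) (fsurj : ∀ x ∈ G0, ∃ σ, f σ = x)

include finj fmem fsurj in
/-- Centralisers inside the subgroup. -/
theorem finish_card_local (σ : ↥MH) : Nat.card ↥(G0 ⊓ Subgroup.centralizer ({f σ} : Set G)) =
    Nat.card ↥(MH ⊓ Subgroup.centralizer ({(σ : Equiv.Perm (Fin 100))} : Set (Equiv.Perm (Fin 100)))) := by
  have hm : ∀ τ : ↥(MH ⊓ Subgroup.centralizer ({(σ : Equiv.Perm (Fin 100))} : Set (Equiv.Perm (Fin 100)))),
      f ⟨τ.1, τ.2.1⟩ ∈ G0 ⊓ Subgroup.centralizer ({f σ} : Set G) := by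
    intro τ
    refine ⟨fmem _, Subgroup.mem_centralizer_singleton_iff.2 ?_⟩
    rw [← map_mul, ← map_mul]
    exact congrArg f (Subtype.ext (Subgroup.mem_centralizer_singleton_iff.1 τ.2.2))
  refine (Nat.card_eq_of_bijective (fun τ => ⟨f ⟨τ.1, τ.2.1⟩, hm τ⟩) ⟨?_, ?_⟩).symm
  · intro a b e
    exact Subtype.ext (congrArg Subtype.val (finj (congrArg Subtype.val e)) :)
  · rintro ⟨x, hx, hxc⟩
    obtain ⟨τ, rfl⟩ := fsurj x hx
    refine ⟨⟨τ, τ.2, Subgroup.mem_centralizer_singleton_iff.2 ?_⟩, Subtype.ext rfl⟩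
    have h := Subgroup.mem_centralizer_singleton_iff.1 hxc
    rw [← map_mul, ← map_mul] at h
    exact congrArg Subtype.val (finj h)

include finj fmem fsurj in
theorem finish_card_u {σ : ↥MH} {a : Equiv.Perm (Fin 100)} (ha : a ∈ MH)
    (h : a * (σ : Equiv.Perm (Fin 100)) * a⁻¹ = uM) :
    Nat.card ↥(G0 ⊓ Subgroup.centralizer ({f σ} : Set G)) = 2880 := by
  rw [finish_card_local f finj fmem fsurj, ← card_CU, CU, ← h]
  refine Nat.card_congr ⟨fun g => ⟨a * g * a⁻¹, MH.mul_mem (MH.mul_mem ha g.2.1) (MH.inv_mem ha), ?_⟩,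
    fun g => ⟨a⁻¹ * g * a, MH.mul_mem (MH.mul_mem (MH.inv_mem ha) g.2.1) ha, finish_mem_conj.1 g.2.2⟩,
    fun g => Subtype.ext (by simp [mul_assoc]), fun g => Subtype.ext (by simp [mul_assoc])⟩
  exact finish_mem_conj.2 (by simpa [mul_assoc] using g.2.2)

theorem finish_fix_conj {σ τ : ↥MH} (hσ : IsFix σ) (hτ : IsFix τ) : ∃ c : ↥MH, c * σ * c⁻¹ = τ := by
  rcases invol_cases σ.2 hσ.1 hσ.2.1 with ⟨a, -, h⟩ | ⟨a, ha, h⟩
  · exact absurd hσ (not_isFix_of_conj_uM h)
  rcases invol_cases τ.2 hτ.1 hτ.2.1 with ⟨b, -, h'⟩ | ⟨b, hb, h'⟩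
  · exact absurd hτ (not_isFix_of_conj_uM h')
  refine ⟨⟨b⁻¹ * a, mul_mem (inv_mem hb) ha⟩, Subtype.ext ?_⟩
  show b⁻¹ * a * (σ : Equiv.Perm (Fin 100)) * (b⁻¹ * a)⁻¹ = τ
  calc _ = b⁻¹ * (a * (σ : Equiv.Perm (Fin 100)) * a⁻¹) * b := by group
    _ = b⁻¹ * (b * (τ : Equiv.Perm (Fin 100)) * b⁻¹) * b := by rw [h, ← h']
    _ = _ := by group

include finj fmem fsurj in
theorem finish_top_of_embed (t : G) (ht : orderOf t = 2) (hC : Subgroup.centralizer ({t} : Set G) ≤ G0)
    (hcard : Nat.card (Subgroup.centralizer ({t} : Set G)) = 7680) : G0 = ⊤ := by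
  classical
  have t2 : t * t = 1 := by rw [← pow_two, ← ht, pow_orderOf_eq_one]
  have t1 : t ≠ 1 := fun e => by rw [e, orderOf_one] at ht; exact absurd ht (by norm_num)
  obtain ⟨σt, hσt⟩ := fsurj t (hC (Subgroup.mem_centralizer_singleton_iff.2 rfl))
  have hfixt : IsFix (σt : Equiv.Perm (Fin 100)) := by
    have h2 : (σt : Equiv.Perm (Fin 100)) * σt = 1 :=
      congrArg Subtype.val (finj (show f (σt * σt) = f 1 by rw [map_mul, map_one, hσt, t2]))
    have h1 : (σt : Equiv.Perm (Fin 100)) ≠ 1 := fun e => t1 (by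
      rw [← hσt, show σt = 1 from Subtype.ext e, map_one])
    rcases invol_cases σt.2 h2 h1 with ⟨a, ha, h⟩ | ⟨a, -, h⟩
    · have := finish_card_u f finj fmem fsurj ha h
      rw [hσt, inf_eq_right.2 hC, hcard] at this
      exact absurd this (by norm_num)
    · have := isFix_conj yM_isFix a⁻¹
      rwa [show a⁻¹ * yM * a⁻¹⁻¹ = σt by rw [← h]; group] at this
  have hY : ∀ σ : ↥MH, IsFix σ → Subgroup.centralizer ({f σ} : Set G) ≤ G0 ∧
      Nat.card (Subgroup.centralizer ({f σ} : Set G)) = 7680 := by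
    intro σ hσ
    obtain ⟨c, rfl⟩ := finish_fix_conj hfixt hσ
    rw [map_mul, map_mul, map_inv, hσt]
    refine ⟨fun g hg => ?_, by rw [finish_card_cent_conj, hcard]⟩
    have h := hC (finish_mem_conj.1 hg)
    have := mul_mem (mul_mem (fmem c) h) (inv_mem (fmem c))
    simpa [mul_assoc] using this
  have embedded : ∀ (g : G) (σ : ↥MH), IsFix σ → g * f σ * g⁻¹ ∈ G0 → g ∈ G0 := by
    intro g σ hσ hg
    obtain ⟨τ, hτ⟩ := fsurj _ hg
    have hs : f σ * f σ = 1 := by rw [← map_mul, show σ * σ = 1 from Subtype.ext hσ.1, map_one]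
    have h2 : (τ : Equiv.Perm (Fin 100)) * τ = 1 := congrArg Subtype.val (finj (show f (τ * τ) = f 1 by
      rw [map_mul, map_one, hτ, conj_mul, hs]; group))
    have h1 : (τ : Equiv.Perm (Fin 100)) ≠ 1 := fun e => by
      rw [show τ = 1 from Subtype.ext e, map_one] at hτ
      exact hσ.2.1 (congrArg Subtype.val (finj ((conj_eq_one_iff.1 hτ.symm).trans (map_one f).symm)))
    rcases invol_cases τ.2 h2 h1 with ⟨a, ha, h⟩ | ⟨a, -, h⟩
    · have hd : Nat.card ↥(G0 ⊓ Subgroup.centralizer ({f τ} : Set G)) ∣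
          Nat.card (Subgroup.centralizer ({f τ} : Set G)) := Subgroup.card_dvd_of_le inf_le_right
      rw [finish_card_u f finj fmem fsurj ha h, hτ, finish_card_cent_conj, (hY σ hσ).2] at hd
      exact absurd hd (by norm_num)
    · have hτf : IsFix (τ : Equiv.Perm (Fin 100)) := by
        have := isFix_conj yM_isFix a⁻¹
        rwa [show a⁻¹ * yM * a⁻¹⁻¹ = τ by rw [← h]; group] at this
      obtain ⟨c, hc⟩ := finish_fix_conj hσ hτf
      have hm : (f c)⁻¹ * g ∈ G0 := (hY σ hσ).1 (Subgroup.mem_centralizer_singleton_iff.2 (by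
        have e : g * f σ * g⁻¹ = f c * f σ * (f c)⁻¹ := by rw [← hτ, ← hc]; simp
        calc (f c)⁻¹ * g * f σ = (f c)⁻¹ * (g * f σ * g⁻¹) * g := by group
          _ = (f c)⁻¹ * (f c * f σ * (f c)⁻¹) * g := by rw [e]
          _ = f σ * ((f c)⁻¹ * g) := by group))
      simpa [← mul_assoc] using mul_mem (fmem c) hm
  -- the centraliser of the involution without fixed points
  obtain ⟨u, hu⟩ : ∃ u : G, f ⟨uM, uM_mem⟩ = u := ⟨_, rfl⟩
  obtain ⟨y, hy⟩ : ∃ y : G, f ⟨yM, yM_mem⟩ = y := ⟨_, rfl⟩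
  have u2 : u * u = 1 := by
    rw [← hu, ← map_mul, show (⟨uM, uM_mem⟩ : ↥MH) * ⟨uM, uM_mem⟩ = 1 from Subtype.ext uM_sq, map_one]
  have y2 : y * y = 1 := by
    rw [← hy, ← map_mul, show (⟨yM, yM_mem⟩ : ↥MH) * ⟨yM, yM_mem⟩ = 1 from Subtype.ext yM_sq, map_one]
  have hyfix : IsFix ((⟨yM, yM_mem⟩ : ↥MH) : Equiv.Perm (Fin 100)) := yM_isFix
  have hyu : y * u = u * y := by
    rw [← hy, ← hu, ← map_mul, ← map_mul]
    exact congrArg f (Subtype.ext yM_comm)
  have hcu : Nat.card ↥(G0 ⊓ Subgroup.centralizer ({u} : Set G)) = 2880 :=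
    hu ▸ finish_card_u f finj fmem fsurj (one_mem MH) (by simp)
  have hXle : Subgroup.centralizer ({u} : Set G) ≤ G0 := by
    let X := Subgroup.centralizer ({u} : Set G)
    have memX : ∀ {g : G}, g ∈ X ↔ g * u = u * g := Subgroup.mem_centralizer_singleton_iff
    have hyX : y ∈ X := memX.2 hyu
    suffices h : G0.subgroupOf X = ⊤ from Subgroup.subgroupOf_eq_top.1 h
    let I := {x : X // IsConj (⟨y, hyX⟩ : X) x}
    have hcY : Nat.card (G0.subgroupOf X) = 2880 := by
      rw [← hcu]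
      exact Nat.card_congr ⟨fun x => ⟨x.1.1, x.2, x.1.2⟩, fun x => ⟨⟨x.1, x.2.2⟩, x.2.1⟩, fun _ => rfl, fun _ => rfl⟩
    have hcX : Nat.card (Subgroup.centralizer ({(⟨y, hyX⟩ : X)} : Set X)) = 64 := by
      rw [← card_CUY]
      have hm : ∀ τ : ↥CUY, f ⟨τ.1, τ.2.1.1⟩ ∈ X := fun τ => by
        rw [memX, ← hu, ← map_mul, ← map_mul]
        exact congrArg f (Subtype.ext (mem_CU.1 τ.2.1).2)
      have hm' : ∀ τ : ↥CUY, (⟨_, hm τ⟩ : X) ∈ Subgroup.centralizer ({(⟨y, hyX⟩ : X)} : Set X) := fun τ => by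
        refine Subgroup.mem_centralizer_singleton_iff.2 (Subtype.ext ?_)
        show f _ * y = y * f _
        rw [← hy, ← map_mul, ← map_mul]
        exact congrArg f (Subtype.ext (Subgroup.mem_centralizer_singleton_iff.1 τ.2.2))
      refine (Nat.card_eq_of_bijective (fun τ => ⟨⟨_, hm τ⟩, hm' τ⟩) ⟨?_, ?_⟩).symm
      · intro a b e
        exact Subtype.ext (congrArg Subtype.val (finj (congrArg (fun w => ((w.1 : X) : G)) e)) :)
      · rintro ⟨⟨x, hx⟩, hxy⟩
        have e : x * y = y * x := congrArg Subtype.val (Subgroup.mem_centralizer_singleton_iff.1 hxy)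
        obtain ⟨τ, rfl⟩ := fsurj x (embedded x ⟨yM, yM_mem⟩ hyfix (by
          rw [hy, e, mul_inv_cancel_right, ← hy]; exact fmem _))
        rw [memX, ← hu, ← map_mul, ← map_mul] at hx
        rw [← hy, ← map_mul, ← map_mul] at e
        exact ⟨⟨τ, mem_CU.2 ⟨τ.2, congrArg Subtype.val (finj hx)⟩,
          Subgroup.mem_centralizer_singleton_iff.2 (congrArg Subtype.val (finj e) :)⟩, rfl⟩
    have hI : Nat.card I = 45 * (G0.subgroupOf X).index := by
      have h := finish_card_conj (⟨y, hyX⟩ : X)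
      rw [hcX, ← (G0.subgroupOf X).card_mul_index, hcY] at h
      show Nat.card {x : X // IsConj (⟨y, hyX⟩ : X) x} = _
      omega
    have hyY : (⟨y, hyX⟩ : X) ∈ G0.subgroupOf X := Subgroup.mem_subgroupOf.2 (hy ▸ fmem _)
    refine finish_coset_count (G0.subgroupOf X) (fun x : I => x.1) 45 ?_ hI (by norm_num) ?_
    · -- the conjugates inside
      have h := finish_card_conj (⟨⟨y, hyX⟩, hyY⟩ : G0.subgroupOf X)
      have hc : Nat.card (Subgroup.centralizer
          ({(⟨⟨y, hyX⟩, hyY⟩ : G0.subgroupOf X)} : Set (G0.subgroupOf X))) = 64 := by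
        rw [← hcX]
        refine Nat.card_congr ⟨fun w => ⟨w.1.1, Subgroup.mem_centralizer_singleton_iff.2
            (congrArg Subtype.val (Subgroup.mem_centralizer_singleton_iff.1 w.2) :)⟩,
          fun w => ⟨⟨w.1, ?_⟩, Subgroup.mem_centralizer_singleton_iff.2
            (Subtype.ext (Subgroup.mem_centralizer_singleton_iff.1 w.2))⟩, fun _ => rfl, fun _ => rfl⟩
        have e : (w.1 : G) * y = y * w.1 := congrArg Subtype.val (Subgroup.mem_centralizer_singleton_iff.1 w.2)
        exact Subgroup.mem_subgroupOf.2 (embedded _ ⟨yM, yM_mem⟩ hyfix (by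
          rw [hy, e, mul_inv_cancel_right, ← hy]; exact fmem _))
      rw [hc, hcY] at h
      refine le_trans (Nat.card_le_card_of_injective (β := {z // IsConj (⟨⟨y, hyX⟩, hyY⟩ : G0.subgroupOf X) z})
        (fun x => ⟨⟨x.1.1, x.2⟩, ?_⟩) fun a b e => ?_) (by omega)
      · obtain ⟨g, hg⟩ := isConj_iff.1 x.1.2
        have hgG : (g : G) ∈ G0 := embedded g ⟨yM, yM_mem⟩ hyfix (by
          rw [hy]
          have := x.2
          rw [Subgroup.mem_subgroupOf, ← hg] at this
          exact this)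
        exact isConj_iff.2 ⟨⟨g, hgG⟩, Subtype.ext hg⟩
      · exact Subtype.ext (Subtype.ext (congrArg (fun w => (w.1 : X)) e :))
    · -- the other fibres
      intro j hj
      have hsq : ∀ x : I, (x.1 : G) * (x.1 : G) = 1 := fun x => by
        obtain ⟨g, hg⟩ := isConj_iff.1 x.2
        rw [← hg]
        show (g : G) * y * (g : G)⁻¹ * ((g : G) * y * (g : G)⁻¹) = 1
        rw [conj_mul, y2]; group
      have jX : (j.1 : G) * u = u * j.1 := memX.1 j.1.2
      have juj : (j.1 : G) * u * (j.1 : G)⁻¹ = u := by rw [jX, mul_inv_cancel_right]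
      let DM : Subgroup ↥MH := (X ⊓ G0.comap (MulAut.conj (j.1 : G)).toMonoidHom).comap f
      have hsub : Nat.card DM < 90 := by
        rw [← Subgroup.card_map_of_injective MH.subtype_injective]
        refine free_small ?_ ⟨⟨uM, uM_mem⟩, ⟨?_, ?_⟩, rfl⟩ ?_
        · rintro _ ⟨σ, hσ, rfl⟩
          refine mem_CU.2 ⟨σ.2, ?_⟩
          have h := memX.1 hσ.1
          rw [← hu, ← map_mul, ← map_mul] at h
          exact congrArg Subtype.val (finj h)
        · rw [hu]; exact memX.2 rfl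
        · show (j.1 : G) * f ⟨uM, uM_mem⟩ * (j.1 : G)⁻¹ ∈ G0
          rw [hu, juj, ← hu]; exact fmem _
        · rintro _ ⟨σ, hσ, rfl⟩ hf
          exact hj (Subgroup.mem_subgroupOf.2 (embedded _ σ hf hσ.2))
      have hmem : ∀ (x : {x : I // x.1 * j.1⁻¹ ∈ G0.subgroupOf X}) (b : Bool),
          ∃ σ : DM, f σ.1 = (x.1.1 : G) * (j.1 : G)⁻¹ * (bif b then u else 1) := by
        rintro ⟨x, hx⟩ b
        have hx' : (x.1 : G) * (j.1 : G)⁻¹ ∈ G0 := Subgroup.mem_subgroupOf.1 hx
        have hb : (bif b then u else 1) ∈ G0 ∧ (bif b then u else 1) ∈ X ∧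
            (j.1 : G) * (bif b then u else 1) * (j.1 : G)⁻¹ ∈ G0 := by
          cases b
          · exact ⟨one_mem _, one_mem _, by simp⟩
          · exact ⟨hu ▸ fmem _, memX.2 rfl, by rw [cond_true, juj, ← hu]; exact fmem _⟩
        obtain ⟨σ, hσ⟩ := fsurj _ (mul_mem hx' hb.1)
        refine ⟨⟨σ, ?_, ?_⟩, hσ⟩
        · show f σ ∈ X
          rw [hσ]; exact X.mul_mem (X.mul_mem x.1.2 (X.inv_mem j.1.2)) hb.2.1
        · show (j.1 : G) * f σ * (j.1 : G)⁻¹ ∈ G0
          rw [hσ]
          have e : (j.1 : G) * ((x.1 : G) * (j.1 : G)⁻¹ * (bif b then u else 1)) * (j.1 : G)⁻¹ =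
              ((x.1 : G) * (j.1 : G)⁻¹)⁻¹ * ((j.1 : G) * (bif b then u else 1) * (j.1 : G)⁻¹) := by
            have hi : (x.1 : G)⁻¹ = x.1 := inv_eq_of_mul_eq_one_right (hsq x)
            have hj2 : (j.1 : G)⁻¹ = j.1 := inv_eq_of_mul_eq_one_right (hsq j)
            rw [mul_inv_rev, inv_inv, hi]
            calc _ = (j.1 : G) * (x.1 : G) * ((j.1 : G)⁻¹ * (bif b then u else 1) * (j.1 : G)⁻¹) := by group
              _ = _ := by rw [hj2]
          rw [e]
          exact mul_mem (inv_mem hx') hb.2.2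
      choose σ hσ using hmem
      have hinj : Function.Injective
          fun p : {x : I // x.1 * j.1⁻¹ ∈ G0.subgroupOf X} × Bool => σ p.1 p.2 := by
        have key : ∀ x x' : I, (x.1 : G) * (j.1 : G)⁻¹ * u = (x'.1 : G) * (j.1 : G)⁻¹ → False := by
          intro x x' e
          have e1 : (x.1 : G) * u = x'.1 := by
            have : (j.1 : G)⁻¹ * u = u * (j.1 : G)⁻¹ := by
              rw [eq_mul_inv_iff_mul_eq, mul_assoc, ← jX, inv_mul_cancel_left]
            rw [mul_assoc, this, ← mul_assoc] at e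
            exact mul_right_cancel e
          obtain ⟨g, hg⟩ := isConj_iff.1 x.2
          obtain ⟨g', hg'⟩ := isConj_iff.1 x'.2
          rw [← hg, ← hg'] at e1
          change (g : G) * y * (g : G)⁻¹ * u = (g' : G) * y * (g' : G)⁻¹ at e1
          have gu : (g : G)⁻¹ * u = u * (g : G)⁻¹ := memX.1 (inv_mem g.2)
          have e2 : ((g : G)⁻¹ * g') * y * ((g : G)⁻¹ * g')⁻¹ = y * u := by
            calc _ = (g : G)⁻¹ * ((g' : G) * y * (g' : G)⁻¹) * g := by group
              _ = (g : G)⁻¹ * ((g : G) * y * ((g : G)⁻¹ * u)) * g := by rw [← e1]; group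
              _ = (g : G)⁻¹ * ((g : G) * y * (u * (g : G)⁻¹)) * g := by rw [gu]
              _ = y * u := by group
          obtain ⟨η, hη⟩ := fsurj _ (embedded ((g : G)⁻¹ * g') ⟨yM, yM_mem⟩ hyfix (by
            rw [hy, e2, ← hy, ← hu, ← map_mul]; exact fmem _))
          have e3 : f (η * ⟨yM, yM_mem⟩ * η⁻¹) = f (⟨yM, yM_mem⟩ * ⟨uM, uM_mem⟩) := by
            rw [map_mul, map_mul, map_inv, hη, map_mul, hy, hu]; exact e2
          obtain ⟨i, hi⟩ := (isFix_conj yM_isFix (η : Equiv.Perm (Fin 100))).2.2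
          rw [show (η : Equiv.Perm (Fin 100)) * yM * (η : Equiv.Perm (Fin 100))⁻¹ = yM * uM from
            congrArg Subtype.val (finj e3)] at hi
          exact yu_fpf i hi
        rintro ⟨x, b⟩ ⟨x', b'⟩ e
        have e0 := (hσ x b).symm.trans ((congrArg (fun w : DM => f w.1) e).trans (hσ x' b'))
        cases b <;> cases b' <;> simp only [cond_true, cond_false, mul_one] at e0
        · rw [show x = x' from Subtype.ext (Subtype.ext (Subtype.ext (mul_right_cancel e0)))]
        · exact (key x'.1 x.1 e0.symm).elim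
        · exact (key x.1 x'.1 e0).elim
        · rw [show x = x' from Subtype.ext (Subtype.ext (Subtype.ext (mul_right_cancel (mul_right_cancel e0))))]
      have h2 := Nat.card_le_card_of_injective _ hinj
      rw [Nat.card_prod, Nat.card_eq_fintype_card (α := Bool), Fintype.card_bool] at h2
      show Nat.card {x : I // x.1 * j.1⁻¹ ∈ G0.subgroupOf X} < 45
      omega
  have hcu' : Nat.card (Subgroup.centralizer ({u} : Set G)) = 2880 := by rwa [inf_eq_right.2 hXle] at hcu
  -- a conjugate outside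
  refine eq_top_iff.2 fun g _ => embedded g σt hfixt ?_
  rw [hσt]
  by_contra hs
  obtain ⟨s, hs'⟩ : ∃ s, g * t * g⁻¹ = s := ⟨_, rfl⟩
  rw [hs'] at hs
  have s2 : s * s = 1 := by rw [← hs', conj_mul, t2]; group
  have hncs : ∀ d : G, d * s * d⁻¹ ≠ u := fun d e => by
    rw [← e, finish_card_cent_conj, ← hs', finish_card_cent_conj, hcard] at hcu'
    exact absurd hcu' (by norm_num)
  obtain ⟨d, hd⟩ : ∃ d, s * u = d := ⟨_, rfl⟩
  have hsd : s * d * s = d⁻¹ := by
    rw [← hd, mul_inv_rev, inv_eq_of_mul_eq_one_right s2, inv_eq_of_mul_eq_one_right u2]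
    calc s * (s * u) * s = s * s * (u * s) := by group
      _ = u * s := by rw [s2, one_mul]
  have hud : u = s * d := by rw [← hd, ← mul_assoc, s2, one_mul]
  have hspow : ∀ m : ℕ, s * d ^ m * s = (d ^ m)⁻¹ := fun m => by
    induction m with
    | zero => simp [s2]
    | succ m ih =>
      calc s * d ^ (m + 1) * s = s * d ^ m * (s * s) * d * s := by rw [s2, pow_succ]; group
        _ = (s * d ^ m * s) * (s * d * s) := by group
        _ = (d ^ (m + 1))⁻¹ := by rw [ih, hsd, ← mul_inv_rev, ← pow_succ']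
  have hn : 0 < orderOf d := orderOf_pos d
  have hone := pow_orderOf_eq_one d
  rcases Nat.even_or_odd' (orderOf d) with ⟨m, hm | hm⟩
  · -- the central involution of the dihedral group
    rw [hm, two_mul, pow_add] at hone
    obtain ⟨z, hz⟩ : ∃ z, d ^ m = z := ⟨_, rfl⟩
    have hzs : z * s = s * z := by
      have := hspow m
      rw [hz] at this hone
      rw [inv_eq_of_mul_eq_one_right hone] at this
      calc z * s = s * z * s * s := by rw [this]
        _ = s * z := by rw [mul_assoc _ s, s2, mul_one]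
    have hzd : z * d = d * z := by rw [← hz, ← pow_succ, ← pow_succ']
    have hzu : z * u = u * z := by
      rw [hud, ← mul_assoc, hzs, mul_assoc, hzd, ← mul_assoc]
    rw [hz] at hone
    obtain ⟨τ, hτ⟩ := fsurj z (hXle (Subgroup.mem_centralizer_singleton_iff.2 hzu))
    have h2 : (τ : Equiv.Perm (Fin 100)) * τ = 1 := congrArg Subtype.val (finj (show f (τ * τ) = f 1 by
      rw [map_mul, map_one, hτ, hone]))
    have h1 : (τ : Equiv.Perm (Fin 100)) ≠ 1 := fun e => by
      rw [show τ = 1 from Subtype.ext e, map_one, ← hz] at hτ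
      have := orderOf_le_of_pow_eq_one (by omega : 0 < m) hτ.symm
      omega
    refine hs ?_
    rcases invol_cases τ.2 h2 h1 with ⟨a, ha, h⟩ | ⟨a, -, h⟩
    · have e : f ⟨a, ha⟩ * z * (f ⟨a, ha⟩)⁻¹ = u := by
        rw [← hτ, ← hu, ← map_inv, ← map_mul, ← map_mul]
        exact congrArg f (Subtype.ext h)
      have := hXle (show f ⟨a, ha⟩ * s * (f ⟨a, ha⟩)⁻¹ ∈ _ from by
        rw [← e]
        refine finish_mem_conj.2 (Subgroup.mem_centralizer_singleton_iff.2 ?_)
        simpa [mul_assoc] using hzs.symm)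
      simpa [mul_assoc] using mul_mem (mul_mem (inv_mem (fmem ⟨a, ha⟩)) this) (fmem ⟨a, ha⟩)
    · refine (hY τ ?_).1 (Subgroup.mem_centralizer_singleton_iff.2 (by rw [hτ]; exact hzs.symm))
      have := isFix_conj yM_isFix a⁻¹
      rwa [show a⁻¹ * yM * a⁻¹⁻¹ = τ by rw [← h]; group] at this
  · -- conjugate generators
    refine hncs (d ^ m) ?_
    rw [hud]
    have h := hspow m
    calc d ^ m * s * (d ^ m)⁻¹ = d ^ m * s * (s * d ^ m * s) := by rw [h]
      _ = d ^ m * d ^ m * s := by rw [← mul_assoc, ← mul_assoc, mul_assoc _ s s, s2, mul_one]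
      _ = d⁻¹ * s := by
        rw [← pow_add, show d ^ (m + m) = d⁻¹ from eq_inv_of_mul_eq_one_left (by
          rw [← pow_succ, show m + m + 1 = 2 * m + 1 by omega, ← hm, pow_orderOf_eq_one])]
      _ = s * d := by rw [← hsd, mul_assoc, s2, mul_one]

end Embedded

/-- **A subgroup isomorphic to HS with the centraliser of an involution is everything.** -/
theorem top_of_iso {G : Type*} [Group G] [Finite G] (G0 : Subgroup G) (phi : ↥G0 ≃* ↥Cfsg.Spor.HS) (t : G)
    (ht : orderOf t = 2) (hC : Subgroup.centralizer ({t} : Set G) ≤ G0)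
    (hcard : Nat.card (Subgroup.centralizer ({t} : Set G)) = 7680) : G0 = ⊤ := by
  obtain ⟨e⟩ : Nonempty (↥Cfsg.Spor.HS ≃* ↥MH) := SporPerm.hs_equiv
  have finj : Function.Injective (G0.subtype.comp (phi.trans e).symm.toMonoidHom) :=
    G0.subtype_injective.comp (phi.trans e).symm.injective
  refine finish_top_of_embed _ finj (fun σ => ((phi.trans e).symm σ).2) (fun x hx => ?_) t ht hC hcard
  exact ⟨(phi.trans e) ⟨x, hx⟩, by simp⟩

end Cfsg.Agent.HSUniq
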