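import Cfsg.Agent.Lib.HSUniq.Interface
import Cfsg.Agent.Lib.HSUniq.Cases.Bad

/-!
The value of the last relation: the fourth power centralises a subgroup of order `16` that is its own
centraliser, and the nontrivial value is contradictory.
-/

set_option autoImplicit false
set_option maxRecDepth 100000

namespace Cfsg.Agent.HSUniq

/-- A subgroup of order `16` normalised by the element `r * e 1548`. -/
def sList : List ℕ := [0, 1, 9, 14, 240, 241, 249, 254, 768, 769, 777, 782, 1008, 1009, 1017, 1022]

/-- Positions of the conjugates by `e 1548`. -/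
def sPos : List ℕ := [0, 41, 1, 40, 131, 170, 130, 171, 128, 169, 129, 168, 3, 42, 2, 43]

/-- The permutation induced by `r * e 1548`. -/
def sPerm : List ℕ := [0, 11, 3, 8, 14, 5, 13, 6, 12, 7, 15, 4, 2, 9, 1, 10]

theorem s_check : allUpTo (fun n => Nat.blt (sList.getD n 0) 1536 && Nat.blt (sPos.getD n 0) 256 &&
    Nat.beq (mulC (cvList.getD (sPos.getD n 0) 0) 1548) (mulC 1548 (sList.getD n 0)) &&
    Nat.beq (alList.getD (sPos.getD n 0) 0) (sList.getD (sPerm.getD n 0) 0) && Nat.blt (sPerm.getD n 0) 16 &&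
    Nat.beq (sPerm.getD (sPerm.getD (sPerm.getD (sPerm.getD n 0) 0) 0) 0) n &&
    (!(Nat.beq (sPerm.getD n 0) n) || Nat.beq n 0 || Nat.beq n 5)) 16 = true ∧
    sList.getD 8 0 = tI ∧ sList.getD 5 0 = 241 ∧ mulC 241 241 = 0 := by decide +kernel

theorem self_cent : allUpTo (fun c => sList.contains c ||
    !(sList.all fun x => Nat.beq (mulC c x) (mulC x c))) 7680 = true := by decide +kernel

variable {G : Type*} [Group G] {v g s w y : G}

/-- The last relation holds. -/
theorem HRel.fourth (h : HRel v g s w y)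
    (inj : ∀ a b, a < 7680 → b < 7680 → eH v g s w y a = eH v g s w y b → a = b)
    (himg : ∀ x, x * eH v g s w y tI = eH v g s w y tI * x → ∃ c, c < 7680 ∧ eH v g s w y c = x) :
    (rE v g s w * eH v g s w y 1548) ^ 4 = 1 := by
  have hR := h.rules
  set e := eH v g s w y with he
  set r := rE v g s w with hr
  obtain ⟨hs, h8, h5, h241⟩ := s_check
  have facts : ∀ n, n < 16 → sList.getD n 0 < 7680 ∧ sPerm.getD n 0 < 16 ∧
      r * e 1548 * e (sList.getD n 0) = e (sList.getD (sPerm.getD n 0) 0) * (r * e 1548) := fun n hn => by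
    have hk := allUpTo_spec hs hn
    simp only [Bool.and_eq_true, Nat.blt_eq, Nat.beq_eq] at hk
    obtain ⟨⟨⟨⟨⟨⟨h1, h2⟩, h3⟩, h4⟩, h6⟩, -⟩, -⟩ := hk
    have hcv := allUpTo_spec rules_check h2
    simp only [Bool.and_eq_true, Nat.blt_eq] at hcv
    refine ⟨by omega, h6, ?_⟩
    rw [mul_assoc, ← hR.hom _ _ (by norm_num) (by omega), ← h3, hR.hom _ _ (by omega) (by norm_num), ← mul_assoc,
      hR.conj _ h2, h4, mul_assoc]
  have comm : ∀ n, n < 16 → (r * e 1548) ^ 4 * e (sList.getD n 0) = e (sList.getD n 0) * (r * e 1548) ^ 4 := by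
    intro n hn
    obtain ⟨-, m1, q1⟩ := facts n hn
    obtain ⟨-, m2, q2⟩ := facts _ m1
    obtain ⟨-, m3, q3⟩ := facts _ m2
    obtain ⟨-, m4, q4⟩ := facts _ m3
    have hk := allUpTo_spec hs hn
    simp only [Bool.and_eq_true, Nat.blt_eq, Nat.beq_eq] at hk
    set a := r * e 1548
    have c1 : SemiconjBy a (e (sList.getD n 0)) _ := q1
    have c4 := ((SemiconjBy.mul_left (q4 : SemiconjBy a _ _) (q3 : SemiconjBy a _ _)).mul_left
      (q2 : SemiconjBy a _ _)).mul_left c1
    rw [hk.1.2] at c4
    simpa [pow_succ, SemiconjBy] using c4.eq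
  obtain ⟨c, hc, ec⟩ := himg ((r * e 1548) ^ 4) (by have := comm 8 (by norm_num); rwa [h8] at this)
  have hmem : c ∈ sList := by
    have hk := allUpTo_spec self_cent hc
    simp only [Bool.or_eq_true, List.contains_iff_mem, Bool.not_eq_true'] at hk
    refine hk.resolve_right fun hall => ?_
    have : (sList.all fun x => Nat.beq (mulC c x) (mulC x c)) = true := by
      refine List.all_eq_true.2 fun x hx => ?_
      obtain ⟨n, hn, rfl⟩ := List.mem_iff_getElem.1 hx
      obtain ⟨hl, -, -⟩ := facts n hn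
      have q := comm n hn
      rw [← ec, ← hR.hom _ _ hc hl, ← hR.hom _ _ hl hc] at q
      rw [Nat.beq_eq, ← List.getD_eq_getElem _ 0 hn]
      exact inj _ _ (mulC_bound hc hl) (mulC_bound hl hc) q
    rw [hall] at this
    exact Bool.noConfusion this
  obtain ⟨n, hn, rfl⟩ := List.mem_iff_getElem.1 hmem
  rw [← List.getD_eq_getElem _ 0 hn] at hc ec
  change n < 16 at hn
  obtain ⟨hl, m1, q⟩ := facts n hn
  have hfix : sPerm.getD n 0 = n := by
    obtain ⟨hl', -, -⟩ := facts _ m1
    have q' : e (sList.getD (sPerm.getD n 0) 0) * (r * e 1548) = e (sList.getD n 0) * (r * e 1548) := by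
      rw [← q, ec]; exact Commute.self_pow _ 4
    have hinj : allUpTo (fun a => allUpTo (fun b => !(Nat.beq (sList.getD a 0) (sList.getD b 0)) || Nat.beq a b) 16) 16 = true := by
      decide +kernel
    have := allUpTo_spec (allUpTo_spec hinj m1) hn
    rw [inj _ _ hl' hl (mul_right_cancel q')] at this
    simpa using this
  have hk := allUpTo_spec hs hn
  simp only [Bool.and_eq_true, Bool.or_eq_true, Bool.not_eq_true', Nat.beq_eq] at hk
  obtain ⟨-, (hk | hk) | hk⟩ := hk
  · rw [hfix] at hk; simp at hk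
  · rw [← ec, hk, show sList.getD 0 0 = 0 from rfl, hR.e_zero]
  · exfalso
    subst hk
    rw [h5] at ec
    have e241 : e 241 * e 241 = 1 := hR.e_inv (by norm_num) (by norm_num) h241
    have h3 := h.cube
    have h5' := h.five
    rw [← he, ← hr] at h5'
    rw [← hr] at h3
    have hrels : ∀ i, i < Bad.P.rels.length → readW e r (Bad.P.rels.getD i []).reverse = 1 := by
      intro i hi
      change i < 4 at hi
      interval_cases i <;> simp [Bad.P, readW, letter]
      · simpa [mul_assoc] using h3
      · have e0 : e vI * r * e vI * r = 1 := by rw [hR.inv, inv_mul_cancel]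
        simpa [vI, mul_assoc] using e0
      · simpa [mul_assoc] using h5'
      · have q2 : (r * e 1548) ^ 4 * e 241 = 1 := by rw [← ec]; exact hR.e_inv (by norm_num) (by norm_num) h241
        simpa [pow_succ, mul_assoc] using q2
    have H := Bad.holds hR hrels 15 (by norm_num)
    have hfact : Bad.P.fact 15 = ⟨false, 0, 2, 0, 2, 9⟩ := rfl
    rw [Fact.Holds, hfact] at H
    simp only [cond_false, one_mul, hR.e_zero] at H
    have e9 : e 9 = e 0 := by rw [hR.e_zero]; exact (left_eq_mul.1 H)
    exact absurd (inj 9 0 (by norm_num) (by norm_num) e9) (by norm_num)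

end Cfsg.Agent.HSUniq
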