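import Cfsg.Agent.Lib.HSUniq.HHom
import Cfsg.Agent.Lib.HSUniq.Check

/-!
The relations of both local models give the rules of the certificates.
-/

set_option autoImplicit false
set_option maxRecDepth 30000

namespace Cfsg.Agent.HSUniq

variable {G : Type*} [Group G]

/-- The element of order three permuting the four group. -/
def rE (v g s w : G) : G := emM v g s w rM

/-- The checks in the second local model. -/
theorem rules_check : allUpTo (fun p => Nat.blt (cvList.getD p 0) 1536 && Nat.blt (alList.getD p 0) 1536 &&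
    Nat.beq (mulM rM (toM (cvList.getD p 0))) (mulM (toM (alList.getD p 0)) rM)) 256 = true := by
  decide +kernel

theorem small_check : mulM (mulM (mulM (toM vI) rM) (toM vI)) rM = 0 ∧ mulM (mulM rM rM) rM = 0 ∧
    mulM (mulM (mulM rM (toM 5)) (mulM rM (toM 5))) (mulM rM (toM 5)) = 0 := by decide +kernel

theorem inv_check : allUpTo (fun c => okC (invC c) && Nat.beq (mulC c (invC c)) 0) 7680 = true := by
  decide +kernel

theorem toM_lt {c : ℕ} (hc : c < 1536) : toM c < 10752 := by
  have h := allUpTo_spec toM_h (show c % 24 < 24 by omega)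
  simp only [Bool.and_eq_true, Nat.blt_eq] at h
  have := h.1.2
  unfold toM
  omega

theorem rM_lt : rM < 10752 := by decide

theorem eH_small (v g s w y : G) {c : ℕ} (hc : c < 1536) : eH v g s w y c = eB v g s w c := by
  rw [eH, Nat.div_eq_of_lt hc, Nat.mod_eq_of_lt hc, xRep, if_pos rfl, one_mul]

variable {v g s w y : G} (h : HRel v g s w y)
include h

theorem HRel.emM_zero : emM v g s w 0 = 1 := by
  have := h.eB_zero
  rwa [eB, show toM 0 = 0 by decide] at this

/-- The axioms of the certificates hold. -/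
theorem HRel.rules : Rules (eH v g s w y) (rE v g s w) := by
  refine ⟨fun a b ha hb => h.hom ha hb, fun p hp => ?_, ?_⟩
  · have hk := allUpTo_spec rules_check hp
    simp only [Bool.and_eq_true, Nat.blt_eq, Nat.beq_eq] at hk
    obtain ⟨⟨h1, h2⟩, h3⟩ := hk
    rw [eH_small v g s w y h1, eH_small v g s w y h2, eB, eB, rE, ← (h.m.hom rM_lt (toM_lt h1)).1,
      ← (h.m.hom (toM_lt h2) rM_lt).1, h3]
  · have hv : vI < 1536 := by decide
    rw [eH_small v g s w y hv, eB, rE]
    have a1 := h.m.hom (toM_lt hv) rM_lt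
    have a2 := h.m.hom a1.2 (toM_lt hv)
    have a3 := h.m.hom a2.2 rM_lt
    refine eq_inv_of_mul_eq_one_left ?_
    rw [← a1.1, ← a2.1, ← a3.1, small_check.1, h.emM_zero]

theorem HRel.cube : rE v g s w * rE v g s w * rE v g s w = 1 := by
  have a1 := h.m.hom rM_lt rM_lt
  have a2 := h.m.hom a1.2 rM_lt
  rw [rE, ← a1.1, ← a2.1, small_check.2.1, h.emM_zero]

theorem HRel.five : rE v g s w * eH v g s w y 5 * (rE v g s w * eH v g s w y 5) *
    (rE v g s w * eH v g s w y 5) = 1 := by
  have hc : (5 : ℕ) < 1536 := by norm_num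
  rw [eH_small v g s w y hc, eB, rE]
  have a1 := h.m.hom rM_lt (toM_lt hc)
  have a2 := h.m.hom a1.2 a1.2
  have a3 := h.m.hom a2.2 a1.2
  rw [← a1.1, ← a2.1, ← a3.1, small_check.2.2, h.emM_zero]

/-- The elements of the model have inverses among them. -/
theorem HRel.exists_inv {c : ℕ} (hc : c < 7680) : ∃ c', c' < 7680 ∧ eH v g s w y c * eH v g s w y c' = 1 := by
  have hk := allUpTo_spec inv_check hc
  simp only [okC, Bool.and_eq_true, Nat.blt_eq, Nat.beq_eq] at hk
  exact ⟨invC c, hk.1, h.rules.e_inv hc hk.1 hk.2⟩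



end Cfsg.Agent.HSUniq
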