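import Cfsg.Agent.Lib.HSUniq.Cases.MainCover
import Cfsg.Agent.Lib.HSUniq.Interface
import Cfsg.Agent.Lib.HSUniq.ModelHS
import Cfsg.Agent.Lib.Leech.SporGroups

/-!
The relations give a subgroup isomorphic to HS.
-/

set_option autoImplicit false
set_option maxRecDepth 100000

namespace Cfsg.Agent.HSUniq

open Cfsg.Agent.PermCert

/-- The subgroup generated by the centraliser model and the element of order three. -/
def genSub {G : Type*} [Group G] (v g s w y : G) : Subgroup G :=
  Subgroup.closure (insert (rE v g s w) (eH v g s w y '' {c | c < 7680}))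

theorem readW_prod {A B : Type*} [Group A] [Group B] (e : ℕ → A) (r : A) (e' : ℕ → B) (r' : B) (w : List ℕ) :
    readW (fun c => (e c, e' c)) (r, r') w = (readW e r w, readW e' r' w) := by
  induction w with
  | nil => rfl
  | cons x w ih =>
    rw [readW, readW, readW, ih]
    by_cases h : x = 7680 <;> simp [letter, h]

variable {G : Type*} [Group G] {v g s w y : G}

theorem HRel.rels_ok (h : HRel v g s w y) (h4 : (rE v g s w * eH v g s w y 1548) ^ 4 = 1) :
    ∀ i, i < Main.P.rels.length → readW (eH v g s w y) (rE v g s w) (Main.P.rels.getD i []).reverse = 1 := by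
  intro i hi
  have hl : Main.P.rels.length = 4 := rfl
  have h3 := h.cube
  have hv := h.rules.inv
  have h5 := h.five
  rw [hl] at hi
  interval_cases i <;> simp [Main.P, readW, letter]
  · simpa [mul_assoc] using h3
  · have e0 : eH v g s w y vI * rE v g s w * eH v g s w y vI * rE v g s w = 1 := by rw [hv, inv_mul_cancel]
    simpa [vI, mul_assoc] using e0
  · simpa [mul_assoc] using h5
  · simpa [pow_succ, mul_assoc] using h4

/-- The relations give a copy of HS. -/
theorem genSub_iso [Finite G] (h : HRel v g s w y) (h4 : (rE v g s w * eH v g s w y 1548) ^ 4 = 1)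
    (ht : eH v g s w y tI ≠ 1) : Nonempty (↥(genSub v g s w y) ≃* ↥Cfsg.Spor.HS) := by
  classical
  let MH : Subgroup (Equiv.Perm (Fin 100)) := genGroup 7 100 SporPerm.hsGens
  let eP := eH Img.vP Img.gP Img.sP Img.wP Img.yP
  let rP := rE Img.vP Img.gP Img.sP Img.wP
  let E : ℕ → G × Equiv.Perm (Fin 100) := fun c => (eH v g s w y c, eP c)
  let R : G × Equiv.Perm (Fin 100) := (rE v g s w, rP)
  have hR : Rules E R := ⟨fun a b ha hb => Prod.ext (h.rules.hom a b ha hb) (Img.hrel.rules.hom a b ha hb),
    fun p hp => Prod.ext (h.rules.conj p hp) (Img.hrel.rules.conj p hp),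
    Prod.ext h.rules.inv Img.hrel.rules.inv⟩
  have hrels : ∀ i, i < Main.P.rels.length → readW E R (Main.P.rels.getD i []).reverse = 1 := fun i hi => by
    rw [readW_prod, h.rels_ok h4 i hi, Img.hrel.rels_ok Img.fourth i hi]
    rfl
  obtain ⟨hfin, hcard⟩ := Main.card_le hR (Main.holds hR hrels) (Prod.ext h.cube Img.hrel.cube)
    (fun c hc => by
      have hk := allUpTo_spec inv_check hc
      simp only [okC, Bool.and_eq_true, Nat.blt_eq, Nat.beq_eq] at hk
      exact ⟨invC c, hk.1, hR.e_inv hc hk.1 hk.2⟩)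
  set S := Subgroup.closure (insert R (E '' {c | c < 7680})) with hS
  haveI : Finite S := hfin
  obtain ⟨eq0⟩ : Nonempty (↥Cfsg.Spor.HS ≃* ↥MH) := SporPerm.hs_equiv
  haveI : IsSimpleGroup ↥Cfsg.Spor.HS := Leech.isHS_spor.1
  haveI : Nontrivial ↥MH := eq0.injective.nontrivial
  haveI : IsSimpleGroup ↥MH := IsSimpleGroup.isSimpleGroup_of_surjective eq0.toMonoidHom eq0.surjective
  let p₁ : ↥S →* G := (MonoidHom.fst G _).comp S.subtype
  let p₂ : ↥S →* Equiv.Perm (Fin 100) := (MonoidHom.snd G _).comp S.subtype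
  have hr₁ : p₁.range = genSub v g s w y := by
    rw [MonoidHom.range_comp, Subgroup.range_subtype, hS, MonoidHom.map_closure, genSub, Set.image_insert_eq,
      Set.image_image]
    rfl
  have hr₂ : p₂.range = MH := by
    rw [MonoidHom.range_comp, Subgroup.range_subtype, hS, MonoidHom.map_closure, Set.image_insert_eq,
      Set.image_image]
    exact Img.gen_top
  have hMH : Nat.card MH = 5775 * 7680 := (cert_card SporPerm.hs_cert).trans SporPerm.hs_order
  have hinj₂ : Function.Injective p₂.rangeRestrict := by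
    haveI := Fintype.ofFinite S
    haveI := Fintype.ofFinite p₂.range
    refine (Fintype.bijective_iff_surjective_and_card _).2 ⟨p₂.rangeRestrict_surjective, ?_⟩ |>.injective
    rw [← Nat.card_eq_fintype_card, ← Nat.card_eq_fintype_card]
    refine le_antisymm (hcard.trans ?_) (Nat.card_le_card_of_surjective _ p₂.rangeRestrict_surjective)
    rw [hr₂, hMH]
  haveI : IsSimpleGroup p₂.range := by
    rw [hr₂]; infer_instance
  let f : ↥p₂.range ≃* ↥S := (MulEquiv.ofBijective p₂.rangeRestrict ⟨hinj₂, p₂.rangeRestrict_surjective⟩).symm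
  haveI : Nontrivial S := f.injective.nontrivial
  haveI : IsSimpleGroup S := IsSimpleGroup.isSimpleGroup_of_surjective f.toMonoidHom f.surjective
  have hinj₁ : Function.Injective p₁ := by
    rw [← MonoidHom.ker_eq_bot_iff]
    refine (IsSimpleGroup.eq_bot_or_eq_top_of_normal _ p₁.normal_ker).resolve_right fun hk => ht ?_
    have hm : (⟨E tI, Subgroup.subset_closure (Or.inr ⟨tI, (show tI < 7680 by decide), rfl⟩)⟩ : S) ∈ p₁.ker := by
      rw [hk]; trivial
    exact MonoidHom.mem_ker.1 hm
  exact ⟨(((MulEquiv.subgroupCongr hr₁).symm.trans (MonoidHom.ofInjective hinj₁).symm).trans f.symm).trans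
    ((MulEquiv.subgroupCongr hr₂).trans eq0.symm)⟩

end Cfsg.Agent.HSUniq
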