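import Cfsg.Agent.Lib.HSUniq.HExists
import Cfsg.Agent.Lib.HSUniq.Fourth
import Cfsg.Agent.Lib.HSUniq.Image
import Cfsg.Agent.Lib.HSUniq.Finish

/-!
From the coordinates of the second local subgroup to the group of Higman and Sims.
-/

set_option autoImplicit false
set_option maxRecDepth 30000

namespace Cfsg.Agent.HSUniq

variable {G : Type*} [Group G] [Finite G]

/-- **The group is HS.** -/
theorem isoHS_of_mdata {t : G} (ht : orderOf t = 2) {R : Subgroup G}
    {π : ↥(Subgroup.centralizer ({t} : Set G)) →* Equiv.Perm (Fin 5)} (hπ : CentQuot t R π)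
    (hR : Nat.card R = 64) {v g₀ s w : G}
    (hM : MData t R v g₀ s w rList ∨ MData t R v g₀ s w rList') : Cfsg.Spor.IsoHS G := by
  rcases hM with hM | hM
  swap
  · exact (hM.not_second hπ).elim
  obtain ⟨g, y, hM, hy, h⟩ := hM.exists_hrel hπ
  obtain ⟨inj, himg⟩ := hM.image_eH hπ hy h hR
  have etI : eH v g s w y tI = t := by
    rw [eH_small v g s w y (by decide), show tI = 768 from rfl, (eB_v v g s w).2.2.2, hM.vv]
  have h4 : (rE v g s w * eH v g s w y 1548) ^ 4 = 1 := h.fourth inj fun x hx =>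
    (himg x).1 (Subgroup.mem_centralizer_singleton_iff.2 (by rw [etI] at hx; exact hx))
  have ht1 : eH v g s w y tI ≠ 1 := by
    rw [etI]; rintro rfl; simp at ht
  obtain ⟨phi⟩ := genSub_iso h h4 ht1
  have hcard : Nat.card (Subgroup.centralizer ({t} : Set G)) = 7680 := by
    rw [← Nat.card_fin 7680]
    refine (Nat.card_congr (Equiv.ofBijective
      (fun c : Fin 7680 => (⟨_, (himg _).2 ⟨c, c.2, rfl⟩⟩ : Subgroup.centralizer ({t} : Set G)))
      ⟨fun a b e => ?_, fun z => ?_⟩)).symm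
    · exact Fin.ext (inj a b a.2 b.2 (congrArg Subtype.val e))
    · obtain ⟨c, hc, e⟩ := (himg z).1 z.2
      exact ⟨⟨c, hc⟩, Subtype.ext e⟩
  have htop : genSub v g s w y = ⊤ := by
    refine top_of_iso _ phi t ht (fun x hx => ?_) hcard
    obtain ⟨c, hc, rfl⟩ := (himg x).1 hx
    exact Subgroup.subset_closure (Or.inr ⟨c, hc, rfl⟩)
  exact ⟨((MulEquiv.subgroupCongr htop).trans Subgroup.topEquiv).symm.trans phi⟩

end Cfsg.Agent.HSUniq
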