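import Cfsg.Agent.Lib.HSUniq.FinishDefs

/-! Kernel checks for the involutions of the coded HS. -/

set_option autoImplicit false
set_option maxRecDepth 100000
set_option Elab.async false

namespace Cfsg.Agent.HSUniq.Finish

open Cfsg.Agent.PermCert

theorem pair_light : lightCert 7 100 SporPerm.hsGens pairDerived pairLevels = true := by decide +kernel

theorem pair_base : (Nat.beq (certOrder pairLevels) 44352000 && pairOK uCode.1 pairLevels) = true := by
  decide +kernel

theorem cen_light : lightCert 7 100 cenGens cenDerived cenLevels = true := by decide +kernel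

theorem syl_light : lightCert 7 100 sylGens sylDerived sylLevels = true := by decide +kernel

theorem small_orders : (Nat.beq (certOrder cenLevels) 2880 && Nat.beq (certOrder sylLevels) 512 &&
    Nat.beq sylTable.length 512) = true := by decide +kernel

theorem code_facts :
    (validElt 7 100 uCode && sift 7 100 SporPerm.hsLevels uCode.1 && validElt 7 100 yCode &&
      sift 7 100 SporPerm.hsLevels yCode.1 && fixInvol yCode.1 &&
      Nat.beq (comp 7 100 uCode.1 uCode.1) (idCode 7 100) &&
      ((List.range 100).all fun i => !Nat.beq (get 7 uCode.1 i) i) &&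
      Nat.beq (comp 7 100 yCode.1 uCode.1) (comp 7 100 uCode.1 yCode.1)) = true := by
  decide +kernel

theorem cen_facts : (cenGens.all fun g => validElt 7 100 g && sift 7 100 SporPerm.hsLevels g.1 &&
    Nat.beq (comp 7 100 g.1 uCode.1) (comp 7 100 uCode.1 g.1)) = true := by decide +kernel

theorem syl_gens : (sylGens.all fun g => validElt 7 100 g && sift 7 100 SporPerm.hsLevels g.1) = true := by
  decide +kernel

theorem syl_closed : closedOK sylGens (sylTable.map fun q => q.1) = true := by decide +kernel

theorem syl_ok : sylTable.all sylOK = true := by decide +kernel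

theorem common_facts : (Nat.beq commonList.length 64 && distinctKeys (commonList.map fun e => e.1) &&
    commonList.all fun e => validElt 7 100 e && sift 7 100 SporPerm.hsLevels e.1 &&
      Nat.beq (comp 7 100 e.1 uCode.1) (comp 7 100 uCode.1 e.1) &&
      Nat.beq (comp 7 100 e.1 yCode.1) (comp 7 100 yCode.1 e.1) &&
      Nat.beq (comp 7 100 e.1 (idCode 7 100)) e.1) = true := by decide +kernel

end Cfsg.Agent.HSUniq.Finish
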