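import Cfsg.Agent.Lib.HSUniq.FinishBasic
import Cfsg.Agent.Lib.HSUniq.FinishData
import Cfsg.Agent.Lib.SporPerm.HSData

/-! Tests on codes for the involutions of the coded HS. -/

set_option autoImplicit false
set_option maxRecDepth 100000
set_option Elab.async false

namespace Cfsg.Agent.HSUniq.Finish

open Cfsg.Agent.PermCert

/-- The code of a word in three codes. -/
def wordAt (a b c : ℕ) : List ℕ → ℕ
  | [] => idCode 7 100
  | [k] => bif Nat.beq k 0 then a else bif Nat.beq k 1 then b else c
  | k :: l => comp 7 100 (bif Nat.beq k 0 then a else bif Nat.beq k 1 then b else c) (wordAt a b c l)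

/-- Three steps of a code. -/
def step3 (g i : ℕ) : ℕ := get 7 g (get 7 g (get 7 g i))

/-- An element of order dividing fifteen has order dividing three or five; the fifteenth power is tested at
points first. -/
def fifteenOK (g : ℕ) : Bool :=
  ((List.range 100).any fun i => !Nat.beq (step3 g (step3 g (step3 g (step3 g (step3 g i))))) i) ||
    Nat.beq (comp 7 100 g (comp 7 100 g g)) (idCode 7 100) ||
      Nat.beq (comp 7 100 (comp 7 100 g (comp 7 100 g g)) (comp 7 100 g g)) (idCode 7 100)

/-- The test of a centraliser element. -/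
def leafOK (g : ℕ) : Bool :=
  fifteenOK g && (((List.range 100).any fun i => !Nat.beq (get 7 g (get 7 yCode.1 i)) (get 7 yCode.1 (get 7 g i))) ||
    commonList.any fun e => Nat.beq e.1 g)

/-- An element of the Sylow subgroup is no involution, or is conjugate to one of the two. -/
def sylOK (q : ℕ × Elt) : Bool :=
  Nat.beq q.1 (idCode 7 100) || !Nat.beq (comp 7 100 q.1 q.1) (idCode 7 100) ||
    (validElt 7 100 q.2 && sift 7 100 SporPerm.hsLevels q.2.1 &&
      (Nat.beq (comp 7 100 q.2.1 q.1) (comp 7 100 uCode.1 q.2.1) ||
        Nat.beq (comp 7 100 q.2.1 q.1) (comp 7 100 yCode.1 q.2.1)))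

/-- Two elements of the common centraliser outside the small set generate an involution with fixed points. -/
def hitOK (L : List Elt) : Bool :=
  L.all fun a => Nat.beq a.1 (idCode 7 100) || Nat.beq a.1 uCode.1 || fixInvol a.1 ||
    commonList.all fun b => Nat.beq b.1 (idCode 7 100) || Nat.beq b.1 uCode.1 || Nat.beq b.1 a.1 ||
      Nat.beq b.1 (comp 7 100 a.1 uCode.1) || fixInvol b.1 ||
        hitWords.any fun w => fixInvol (wordAt a.1 b.1 uCode.1 w)

end Cfsg.Agent.HSUniq.Finish
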