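import Cfsg.Agent.Lib.HSUniq.FinishLeaves

/-! Kernel checks for the involutions of the coded HS. -/

set_option autoImplicit false
set_option maxRecDepth 100000
set_option Elab.async false

namespace Cfsg.Agent.HSUniq.Finish

open Cfsg.Agent.PermCert

theorem hit_ok0 : hitOK (commonList.take 16) = true := by decide +kernel

theorem hit_ok1 : hitOK ((commonList.drop 16).take 16) = true := by decide +kernel

end Cfsg.Agent.HSUniq.Finish
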