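import Cfsg.Agent.Lib.HSUniq.FinishCert

/-! Kernel checks for the involutions of the coded HS. -/

set_option autoImplicit false
set_option maxRecDepth 100000
set_option Elab.async false

namespace Cfsg.Agent.HSUniq.Finish

open Cfsg.Agent.PermCert

theorem leaves_ok : (fun l => Nat.ble l.length 2880 && l.all leafOK)
    (walk uCode.1 pairLevels (idCode 7 100) none) = true := by
  decide +kernel

end Cfsg.Agent.HSUniq.Finish
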