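import Cfsg.Agent.Lib.HSUniq.FinishHitB
import Cfsg.Agent.Lib.SporPerm.HSModel
import Mathlib.GroupTheory.Sylow

/-!
Involutions of the coded HS: two classes, one centraliser of order 2880 and its subgroups without involutions
with fixed points.
-/

set_option autoImplicit false
set_option maxRecDepth 100000

namespace Cfsg.Agent.HSUniq.Finish

open Cfsg.Agent.PermCert
open Cfsg.Agent.PermAut (Fwd fwd_rep)

theorem wordAt_nil (a b c : ℕ) : wordAt a b c [] = idCode 7 100 := rfl

theorem wordAt_single (a b c k : ℕ) :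
    wordAt a b c [k] = bif Nat.beq k 0 then a else bif Nat.beq k 1 then b else c := rfl

theorem wordAt_cons (a b c k k' : ℕ) (l : List ℕ) : wordAt a b c (k :: k' :: l) =
    comp 7 100 (bif Nat.beq k 0 then a else bif Nat.beq k 1 then b else c) (wordAt a b c (k' :: l)) := rfl

attribute [local irreducible] uCode yCode cenGens cenDerived cenLevels sylGens sylDerived sylLevels sylTable commonList
  pairDerived pairLevels hitWords SporPerm.hsGens SporPerm.hsDerived SporPerm.hsLevels comp idCode walk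

/-- The coded HS. -/
abbrev MH : Subgroup (Equiv.Perm (Fin 100)) := genGroup 7 100 SporPerm.hsGens

theorem card_MH : Nat.card MH = 44352000 := (cert_card SporPerm.hs_cert).trans SporPerm.hs_order

theorem fwd_sq_one {c : ℕ} {σ : Equiv.Perm (Fin 100)} (hc : Fwd 7 (c, σ))
    (h : comp 7 100 c c = idCode 7 100) : σ * σ = 1 := eq_of_codes (fwd_mul hc hc) fwd_one h

/-- The involution without fixed points. -/
noncomputable def uM : Equiv.Perm (Fin 100) := toPerm 7 100 uCode

/-- The involution with fixed points. -/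
noncomputable def yM : Equiv.Perm (Fin 100) := toPerm 7 100 yCode

theorem fwd_uM : Fwd 7 (uCode.1, uM) := by
  have h := code_facts
  simp only [Bool.and_eq_true] at h
  exact fwd_rep (rep_toPerm h.1.1.1.1.1.1.1)

theorem fwd_yM : Fwd 7 (yCode.1, yM) := by
  have h := code_facts
  simp only [Bool.and_eq_true] at h
  exact fwd_rep (rep_toPerm h.1.1.1.1.1.2)

theorem uM_mem : uM ∈ MH := by
  have h := code_facts
  simp only [Bool.and_eq_true] at h
  exact cert_mem SporPerm.hs_cert h.1.1.1.1.1.1.1 h.1.1.1.1.1.1.2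

theorem yM_mem : yM ∈ MH := by
  have h := code_facts
  simp only [Bool.and_eq_true] at h
  exact cert_mem SporPerm.hs_cert h.1.1.1.1.1.2 h.1.1.1.1.2

theorem uM_sq : uM * uM = 1 := by
  have h := code_facts
  simp only [Bool.and_eq_true, Nat.beq_eq] at h
  exact fwd_sq_one fwd_uM h.1.1.2

theorem uM_fpf (i : Fin 100) : uM i ≠ i := by
  have h := code_facts
  simp only [Bool.and_eq_true] at h
  have h1 := List.all_eq_true.1 h.1.2 i (List.mem_range.2 i.2)
  intro e
  rw [show get 7 uCode.1 i = (uM i : ℕ) from fwd_uM i, e] at h1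
  simp at h1

theorem yM_comm : yM * uM = uM * yM := by
  have h := code_facts
  simp only [Bool.and_eq_true, Nat.beq_eq] at h
  exact eq_of_codes (fwd_mul fwd_yM fwd_uM) (fwd_mul fwd_uM fwd_yM) h.2

/-- An involution with a fixed point. -/
def IsFix (σ : Equiv.Perm (Fin 100)) : Prop := σ * σ = 1 ∧ σ ≠ 1 ∧ ∃ i, σ i = i

theorem isFix_of_code {c : ℕ} {σ : Equiv.Perm (Fin 100)} (hc : Fwd 7 (c, σ)) (h : fixInvol c = true) :
    IsFix σ := by
  simp only [fixInvol, Bool.and_eq_true, Bool.not_eq_true', List.any_eq_true, List.mem_range, Nat.beq_eq] at h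
  simp only [List.all_eq_true, List.mem_range, Nat.beq_eq] at h
  obtain ⟨⟨h1, i, hi, h3⟩, j, hj, h4⟩ := h
  refine ⟨Equiv.ext fun k => Fin.ext ?_, fun e => ?_, ⟨i, hi⟩, Fin.ext ((hc ⟨i, hi⟩).symm.trans h3)⟩
  · have h2 := h1 k k.2
    rwa [show get 7 c k = (σ k : ℕ) from hc k, show get 7 c (σ k : ℕ) = (σ (σ k) : ℕ) from hc _] at h2
  rw [show get 7 c j = (σ ⟨j, hj⟩ : ℕ) from hc ⟨j, hj⟩, e] at h4
  simp at h4

theorem yM_isFix : IsFix yM := by
  have h := code_facts
  simp only [Bool.and_eq_true] at h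
  exact isFix_of_code fwd_yM h.1.1.1.2

theorem yM_sq : yM * yM = 1 := yM_isFix.1

theorem yM_fix : ∃ i, yM i = i := yM_isFix.2.2

theorem yM_ne : yM ≠ 1 := yM_isFix.2.1

theorem yM_ne_uM : yM ≠ uM := by
  obtain ⟨i, hi⟩ := yM_fix
  exact fun e => uM_fpf i (e ▸ hi)

/-- **Two classes of involutions.** -/
theorem invol_cases {σ : Equiv.Perm (Fin 100)} (hσ : σ ∈ MH) (h2 : σ * σ = 1) (h1 : σ ≠ 1) :
    (∃ a ∈ MH, a * σ * a⁻¹ = uM) ∨ ∃ a ∈ MH, a * σ * a⁻¹ = yM := by
  haveI : Fact (Nat.Prime 2) := ⟨Nat.prime_two⟩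
  have hle : genGroup 7 100 sylGens ≤ MH := by
    refine (Subgroup.closure_le _).2 fun τ hτ => ?_
    obtain ⟨g, hg, rfl⟩ := List.mem_map.1 hτ
    have h := List.all_eq_true.1 syl_gens g hg
    rw [Bool.and_eq_true] at h
    exact cert_mem SporPerm.hs_cert h.1 h.2
  have hS : Nat.card (genGroup 7 100 sylGens) = 512 := by
    have h := small_orders
    simp only [Bool.and_eq_true, Nat.beq_eq] at h
    refine le_antisymm ?_ (h.1.2 ▸ light_card_le syl_light)
    choose f hf hff using fun x : genGroup 7 100 sylGens => closedOK_spec syl_closed x.2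
    refine (Nat.card_le_card_of_injective (fun x => (⟨f x, List.mem_toFinset.2 (hf x)⟩ :
      {c // c ∈ (sylTable.map fun q => q.1).toFinset})) fun a b e => ?_).trans ?_
    · exact Subtype.ext (eq_of_codes (hff a) (hff b) (Subtype.ext_iff.1 e :))
    · rw [Nat.card_eq_fintype_card, Fintype.card_coe]
      exact (List.toFinset_card_le _).trans (by rw [List.length_map, h.2])
  have hfac : (44352000 : ℕ).factorization 2 = 9 := by
    rw [show (44352000 : ℕ) = 2 ^ 9 * 86625 by norm_num, Nat.factorization_mul (by norm_num) (by norm_num),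
      Finsupp.add_apply, Nat.Prime.factorization_pow Nat.prime_two, Finsupp.single_eq_same,
      Nat.factorization_eq_zero_of_not_dvd (by norm_num : ¬ 2 ∣ 86625)]
  let S : Sylow 2 MH := Sylow.ofCard ((genGroup 7 100 sylGens).subgroupOf MH) (by
    rw [Nat.card_congr (Subgroup.subgroupOfEquivOfLe hle).toEquiv, hS, card_MH, hfac]; norm_num)
  have hp : IsPGroup 2 (Subgroup.zpowers (⟨σ, hσ⟩ : MH)) := IsPGroup.of_card (n := 1) (by
    rw [Nat.card_zpowers, pow_one]
    exact orderOf_eq_prime (by rw [pow_two]; exact Subtype.ext h2) fun e => h1 (congrArg Subtype.val e))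
  obtain ⟨P, hP⟩ := hp.exists_le_sylow
  obtain ⟨g, hg⟩ := MulAction.exists_smul_eq MH P S
  have hy : (g : Equiv.Perm (Fin 100)) * σ * (g : Equiv.Perm (Fin 100))⁻¹ ∈ genGroup 7 100 sylGens := by
    have h : g * ⟨σ, hσ⟩ * g⁻¹ ∈ (genGroup 7 100 sylGens).subgroupOf MH := by
      have h : ((g • P : Sylow 2 MH) : Subgroup MH) = (genGroup 7 100 sylGens).subgroupOf MH := by rw [hg]; rfl
      rw [← h]
      exact Subgroup.mem_map.2 ⟨_, hP (Subgroup.mem_zpowers _), rfl⟩
    exact Subgroup.mem_subgroupOf.1 h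
  obtain ⟨c, hc, hf⟩ := closedOK_spec syl_closed hy
  obtain ⟨q, hq, rfl⟩ := List.mem_map.1 hc
  have h := List.all_eq_true.1 syl_ok q hq
  simp only [sylOK, Bool.or_eq_true, Bool.and_eq_true, Bool.not_eq_true', Nat.beq_eq] at h
  rcases h with (h | h) | ⟨⟨hv, hs⟩, h⟩
  · exact absurd (conj_eq_one_iff.1 (eq_of_codes hf fwd_one h)) h1
  · exfalso
    have e : comp 7 100 q.1 q.1 = idCode 7 100 := comp_eq_id hf hf (by
      calc _ = (g : Equiv.Perm (Fin 100)) * (σ * σ) * (g : Equiv.Perm (Fin 100))⁻¹ := by group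
        _ = 1 := by rw [h2]; group)
    rw [e] at h
    simp at h
  · have hk := cert_mem SporPerm.hs_cert hv hs
    have hfk : Fwd 7 (q.2.1, toPerm 7 100 q.2) := fwd_rep (rep_toPerm hv)
    rcases h with h | h
    · refine Or.inl ⟨_, mul_mem hk g.2, ?_⟩
      rw [mul_inv_eq_iff_eq_mul, ← mul_assoc, ← eq_of_codes (fwd_mul hfk hf) (fwd_mul fwd_uM hfk) h]
      group
    · refine Or.inr ⟨_, mul_mem hk g.2, ?_⟩
      rw [mul_inv_eq_iff_eq_mul, ← mul_assoc, ← eq_of_codes (fwd_mul hfk hf) (fwd_mul fwd_yM hfk) h]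
      group

/-- The centraliser of the involution without fixed points. -/
noncomputable def CU : Subgroup (Equiv.Perm (Fin 100)) := MH ⊓ Subgroup.centralizer {uM}

theorem mem_CU {g : Equiv.Perm (Fin 100)} : g ∈ CU ↔ g ∈ MH ∧ g * uM = uM * g := by
  rw [CU, Subgroup.mem_inf, Subgroup.mem_centralizer_singleton_iff]

theorem exists_leaf {g : Equiv.Perm (Fin 100)} (hg : g ∈ CU) :
    ∃ c ∈ walk uCode.1 pairLevels (idCode 7 100) none, Fwd 7 (c, g) := by
  obtain ⟨hm, hc⟩ := mem_CU.1 hg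
  obtain ⟨hs, -, -, hsub⟩ := light_facts pair_light
  have hb := pair_base
  simp only [Bool.and_eq_true, Nat.beq_eq] at hb
  have heq : lightSet 7 100 pairLevels = (MH : Set (Equiv.Perm (Fin 100))) :=
    Set.eq_of_subset_of_ncard_le ((lightSet_subset hs).trans hsub)
      (by rw [ncard_lightSet hs, ← Nat.card_coe_set_eq, hb.1]; exact card_MH.le)
  exact walk_spec fwd_uM pairLevels hs hb.2 fwd_one (h := g) (heq ▸ hm) (one_mul g).symm hc

theorem card_CU : Nat.card CU = 2880 := by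
  refine le_antisymm ?_ ?_
  · have hl := leaves_ok
    simp only [Bool.and_eq_true, Nat.ble_eq] at hl
    choose f hf hff using fun x : CU => exists_leaf x.2
    refine (Nat.card_le_card_of_injective (fun x => (⟨f x, List.mem_toFinset.2 (hf x)⟩ :
      {c // c ∈ (walk uCode.1 pairLevels (idCode 7 100) none).toFinset})) fun a b e => ?_).trans ?_
    · exact Subtype.ext (eq_of_codes (hff a) (hff b) (Subtype.ext_iff.1 e :))
    · rw [Nat.card_eq_fintype_card, Fintype.card_coe]
      exact (List.toFinset_card_le _).trans hl.1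
  · have h := small_orders
    simp only [Bool.and_eq_true, Nat.beq_eq] at h
    refine le_trans (h.1.1 ▸ light_card_le cen_light) (Subgroup.card_le_of_le ?_)
    refine (Subgroup.closure_le _).2 fun τ hτ => ?_
    obtain ⟨g, hg, rfl⟩ := List.mem_map.1 hτ
    have h := List.all_eq_true.1 cen_facts g hg
    simp only [Bool.and_eq_true, Nat.beq_eq] at h
    have hf : Fwd 7 (g.1, toPerm 7 100 g) := fwd_rep (rep_toPerm h.1.1)
    exact mem_CU.2 ⟨cert_mem SporPerm.hs_cert h.1.1 h.1.2, eq_of_codes (fwd_mul hf fwd_uM) (fwd_mul fwd_uM hf) h.2⟩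

theorem fifteen {g : Equiv.Perm (Fin 100)} (hg : g ∈ CU) (h : g ^ 15 = 1) : g ^ 3 = 1 ∨ g ^ 5 = 1 := by
  obtain ⟨c, hc, hf⟩ := exists_leaf hg
  have hl := leaves_ok
  simp only [Bool.and_eq_true] at hl
  have hb := List.all_eq_true.1 hl.2 c hc
  rw [leafOK, Bool.and_eq_true] at hb
  have h3 : Fwd 7 (comp 7 100 c (comp 7 100 c c), g ^ 3) := by
    rw [show g ^ 3 = g * (g * g) by simp [pow_succ, mul_assoc]]
    exact fwd_mul hf (fwd_mul hf hf)
  have h5 : Fwd 7 (comp 7 100 (comp 7 100 c (comp 7 100 c c)) (comp 7 100 c c), g ^ 5) := by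
    rw [show g ^ 5 = g ^ 3 * (g * g) by simp [pow_succ, mul_assoc]]
    exact fwd_mul h3 (fwd_mul hf hf)
  simp only [fifteenOK, Bool.or_eq_true, List.any_eq_true, List.mem_range, Bool.not_eq_true', Nat.beq_eq] at hb
  rcases hb.1 with (⟨i, hi, h1⟩ | h1) | h1
  · exfalso
    have st : ∀ k : Fin 100, step3 c k = ((g ^ 3) k : ℕ) := fun k => by
      rw [step3, show get 7 c k = (g k : ℕ) from hf k, show get 7 c (g k : ℕ) = (g (g k) : ℕ) from hf _,
        show get 7 c (g (g k) : ℕ) = (g (g (g k)) : ℕ) from hf _]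
      rfl
    rw [show i = ((⟨i, hi⟩ : Fin 100) : ℕ) from rfl, st, st, st, st, st] at h1
    have e : (g ^ 3) ((g ^ 3) ((g ^ 3) ((g ^ 3) ((g ^ 3) ⟨i, hi⟩)))) = ⟨i, hi⟩ := by
      have := congrArg (fun π : Equiv.Perm (Fin 100) => π ⟨i, hi⟩)
        (show g ^ 3 * (g ^ 3 * (g ^ 3 * (g ^ 3 * g ^ 3))) = 1 by rw [← h, ← pow_add, ← pow_add, ← pow_add, ← pow_add])
      simpa only [Equiv.Perm.mul_apply, Equiv.Perm.one_apply] using this
    rw [e] at h1
    simp at h1
  · exact Or.inl (eq_of_codes h3 fwd_one h1)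
  · exact Or.inr (eq_of_codes h5 fwd_one h1)

/-- The common centraliser of the two involutions. -/
noncomputable def CUY : Subgroup (Equiv.Perm (Fin 100)) := CU ⊓ Subgroup.centralizer {yM}

theorem exists_common {g : Equiv.Perm (Fin 100)} (hg : g ∈ CUY) : ∃ e ∈ commonList, Fwd 7 (e.1, g) := by
  rw [CUY, Subgroup.mem_inf, Subgroup.mem_centralizer_singleton_iff] at hg
  obtain ⟨c, hc, hf⟩ := exists_leaf hg.1
  have hl := leaves_ok
  simp only [Bool.and_eq_true] at hl
  have hb := List.all_eq_true.1 hl.2 c hc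
  simp only [leafOK, Bool.and_eq_true, Bool.or_eq_true, Bool.not_eq_true', List.any_eq_true, List.mem_range,
    Nat.beq_eq] at hb
  rcases hb.2 with ⟨i, hi, h⟩ | ⟨e, he, h⟩
  · exfalso
    rw [show get 7 yCode.1 i = (yM ⟨i, hi⟩ : ℕ) from fwd_yM ⟨i, hi⟩, show get 7 c i = (g ⟨i, hi⟩ : ℕ) from hf ⟨i, hi⟩,
      show get 7 c (yM ⟨i, hi⟩ : ℕ) = (g (yM ⟨i, hi⟩) : ℕ) from hf _,
      show get 7 yCode.1 (g ⟨i, hi⟩ : ℕ) = (yM (g ⟨i, hi⟩) : ℕ) from fwd_yM _, ← Equiv.Perm.mul_apply,
      ← Equiv.Perm.mul_apply, hg.2] at h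
    simp at h
  · exact ⟨e, he, h ▸ hf⟩

theorem card_CUY : Nat.card CUY = 64 := by
  have h := common_facts
  simp only [Bool.and_eq_true, List.all_eq_true, Nat.beq_eq] at h
  obtain ⟨⟨hlen, hd⟩, hall⟩ := h
  have hnd := distinctKeys_spec _ hd
  have hcl : (commonList.map fun e => e.1).toFinset.card = 64 := by
    rw [List.toFinset_card_of_nodup hnd, List.length_map, hlen]
  refine le_antisymm ?_ ?_
  · choose f hf hff using fun x : CUY => exists_common x.2
    rw [← hcl, ← Fintype.card_coe, ← Nat.card_eq_fintype_card]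
    exact Nat.card_le_card_of_injective (fun x => (⟨(f x).1, List.mem_toFinset.2 (List.mem_map.2 ⟨_, hf x, rfl⟩)⟩ :
      {c // c ∈ (commonList.map fun e => e.1).toFinset}))
      fun a b e => Subtype.ext (eq_of_codes (hff a) (hff b) (Subtype.ext_iff.1 e :))
  · rw [← hcl, ← Fintype.card_coe, ← Nat.card_eq_fintype_card]
    have hex : ∀ c : {c // c ∈ (commonList.map fun e => e.1).toFinset}, ∃ σ : CUY, Fwd 7 (c.1, σ.1) := by
      rintro ⟨c, hc⟩
      rw [List.mem_toFinset, List.mem_map] at hc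
      obtain ⟨e, he, rfl⟩ := hc
      obtain ⟨⟨⟨⟨hv, hs⟩, hu⟩, hy⟩, -⟩ := hall e he
      have hf : Fwd 7 (e.1, toPerm 7 100 e) := fwd_rep (rep_toPerm hv)
      refine ⟨⟨toPerm 7 100 e, mem_CU.2 ⟨cert_mem SporPerm.hs_cert hv hs,
        eq_of_codes (fwd_mul hf fwd_uM) (fwd_mul fwd_uM hf) hu⟩, ?_⟩, hf⟩
      exact Subgroup.mem_centralizer_singleton_iff.2 (eq_of_codes (fwd_mul hf fwd_yM) (fwd_mul fwd_yM hf) hy)
    choose σ hσ using hex
    refine Nat.card_le_card_of_injective σ fun a b e => ?_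
    refine Subtype.ext ?_
    obtain ⟨a, ha'⟩ := a
    obtain ⟨b, hb'⟩ := b
    have ha := hσ ⟨a, ha'⟩
    rw [e] at ha
    have hb := hσ ⟨b, hb'⟩
    rw [List.mem_toFinset, List.mem_map] at ha' hb'
    obtain ⟨x, hx, rfl⟩ := ha'
    obtain ⟨y, hy, rfl⟩ := hb'
    show x.1 = y.1
    rw [← (hall x hx).2, ← (hall y hy).2]
    exact comp_eq_comp ha fwd_one hb fwd_one rfl

theorem fwd_wordAt {a b c : ℕ} {α β γ : Equiv.Perm (Fin 100)} (ha : Fwd 7 (a, α)) (hb : Fwd 7 (b, β))
    (hc : Fwd 7 (c, γ)) {K : Subgroup (Equiv.Perm (Fin 100))} (hα : α ∈ K) (hβ : β ∈ K) (hγ : γ ∈ K) :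
    ∀ l : List ℕ, ∃ σ ∈ K, Fwd 7 (wordAt a b c l, σ)
  | [] => ⟨1, one_mem _, by rw [wordAt_nil]; exact fwd_one⟩
  | [k] => by
    rw [wordAt_single]
    cases Nat.beq k 0
    · cases Nat.beq k 1
      · exact ⟨γ, hγ, hc⟩
      · exact ⟨β, hβ, hb⟩
    · exact ⟨α, hα, ha⟩
  | k :: k' :: l => by
    obtain ⟨σ, hσ, hf⟩ := fwd_wordAt ha hb hc hα hβ hγ (k' :: l)
    rw [wordAt_cons]
    cases Nat.beq k 0
    · cases Nat.beq k 1
      · exact ⟨γ * σ, mul_mem hγ hσ, fwd_mul hc hf⟩
      · exact ⟨β * σ, mul_mem hβ hσ, fwd_mul hb hf⟩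
    · exact ⟨α * σ, mul_mem hα hσ, fwd_mul ha hf⟩

theorem hit_all (a : Elt) (ha : a ∈ commonList) : hitOK [a] = true := by
  have key : ∀ L : List Elt, hitOK L = true → a ∈ L → hitOK [a] = true := by
    intro L hL hm
    unfold hitOK at hL ⊢
    rw [List.all_eq_true] at hL
    simp only [List.all_cons, List.all_nil, Bool.and_true]
    exact hL a hm
  rw [← List.take_append_drop 16 commonList, List.mem_append] at ha
  rcases ha with ha | ha
  · exact key _ hit_ok0 ha
  rw [← List.take_append_drop 16 (commonList.drop 16), List.mem_append, List.drop_drop] at ha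
  rcases ha with ha | ha
  · exact key _ hit_ok1 ha
  rw [← List.take_append_drop 16 (commonList.drop 32), List.mem_append, List.drop_drop] at ha
  rcases ha with ha | ha
  · exact key _ hit_ok2 ha
  · exact key _ hit_ok3 ha

/-- A subgroup of the common centraliser without involutions with fixed points has at most four elements. -/
theorem card_free_le {K : Subgroup (Equiv.Perm (Fin 100))} (hK : K ≤ CUY) (hu : uM ∈ K)
    (hfree : ∀ σ ∈ K, ¬ IsFix σ) : Nat.card K ≤ 4 := by
  classical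
  have hno : ∀ {c : ℕ} {σ : Equiv.Perm (Fin 100)}, Fwd 7 (c, σ) → σ ∈ K → fixInvol c = false := by
    intro c σ hc hσ
    by_contra h
    exact hfree σ hσ (isFix_of_code hc (by simpa using h))
  by_cases hex : ∃ σ ∈ K, σ ≠ 1 ∧ σ ≠ uM
  swap
  · push Not at hex
    refine (Nat.card_le_card_of_injective (fun x : K => (⟨x.1, ?_⟩ : ({1, uM} : Finset (Equiv.Perm (Fin 100)))))
      fun a b e => Subtype.ext (Subtype.ext_iff.1 e :)).trans ?_
    · by_cases h : x.1 = 1
      · simp [h]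
      · simp [hex x.1 x.2 h]
    · rw [Nat.card_eq_fintype_card, Fintype.card_coe]
      exact Finset.card_le_two.trans (by norm_num)
  obtain ⟨α, hα, hα1, hαu⟩ := hex
  have key : ∀ β ∈ K, β ∈ ({1, uM, α, α * uM} : Finset (Equiv.Perm (Fin 100))) := by
    intro β hβ
    obtain ⟨a, ha, hfa⟩ := exists_common (hK hα)
    obtain ⟨b, hb, hfb⟩ := exists_common (hK hβ)
    have h := hit_all a ha
    simp only [hitOK, List.all_cons, List.all_nil, Bool.and_true, List.all_eq_true, Bool.or_eq_true,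
      List.any_eq_true, Nat.beq_eq] at h
    simp only [Finset.mem_insert, Finset.mem_singleton]
    rcases h with ((h1 | h1) | h1) | h1
    · exact absurd (eq_of_codes hfa fwd_one h1) hα1
    · exact absurd (eq_of_codes hfa fwd_uM h1) hαu
    · rw [hno hfa hα] at h1; simp at h1
    rcases h1 b hb with ((((h2 | h2) | h2) | h2) | h2) | ⟨w, -, h2⟩
    · exact Or.inl (eq_of_codes hfb fwd_one h2)
    · exact Or.inr (Or.inl (eq_of_codes hfb fwd_uM h2))
    · exact Or.inr (Or.inr (Or.inl (eq_of_codes hfb hfa h2)))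
    · exact Or.inr (Or.inr (Or.inr (eq_of_codes hfb (fwd_mul hfa fwd_uM) h2)))
    · rw [hno hfb hβ] at h2; simp at h2
    · obtain ⟨σ, hσ, hfσ⟩ := fwd_wordAt hfa hfb fwd_uM hα hβ hu w
      rw [hno hfσ hσ] at h2; simp at h2
  refine (Nat.card_le_card_of_injective (fun x : K => (⟨x.1, key x.1 x.2⟩ :
    ({1, uM, α, α * uM} : Finset (Equiv.Perm (Fin 100))))) fun a b e => Subtype.ext (Subtype.ext_iff.1 e :)).trans ?_
  rw [Nat.card_eq_fintype_card, Fintype.card_coe]
  exact Finset.card_le_four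

end Cfsg.Agent.HSUniq.Finish
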