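import Cfsg.Agent.Lib.HSUniq.FinishModel
import Mathlib.GroupTheory.SpecificGroups.Cyclic
import Mathlib.Algebra.Group.Subgroup.Pointwise

/-!
A subgroup of the centraliser of the fixed-point-free involution without involutions with fixed points has
fewer than ninety elements.
-/

set_option autoImplicit false
set_option maxRecDepth 100000

namespace Cfsg.Agent.HSUniq.Finish

open Cfsg.Agent.PermCert
open Cfsg.Agent.PermAut (Fwd)

attribute [local irreducible] uCode yCode comp idCode

theorem yu_check : ((List.range 100).all fun i => !Nat.beq (get 7 (comp 7 100 yCode.1 uCode.1) i) i) = true := by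
  decide +kernel

theorem yu_fpf (i : Fin 100) : (yM * uM) i ≠ i := by
  have h := List.all_eq_true.1 yu_check i (List.mem_range.2 i.2)
  intro e
  rw [show get 7 (comp 7 100 yCode.1 uCode.1) i = ((yM * uM) i : ℕ) from fwd_mul fwd_yM fwd_uM i, e] at h
  simp at h

theorem isFix_conj {σ : Equiv.Perm (Fin 100)} (h : IsFix σ) (a : Equiv.Perm (Fin 100)) : IsFix (a * σ * a⁻¹) := by
  obtain ⟨i, hi⟩ := h.2.2
  exact ⟨by rw [conj_mul, h.1]; group, fun e => h.2.1 (conj_eq_one_iff.1 e), a i, by simp [hi]⟩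

theorem not_isFix_of_conj_uM {σ a : Equiv.Perm (Fin 100)} (h : a * σ * a⁻¹ = uM) : ¬ IsFix σ := fun hf => by
  obtain ⟨i, hi⟩ := (isFix_conj hf a).2.2
  rw [h] at hi
  exact uM_fpf i hi

theorem uM_ne : uM ≠ 1 := fun e => uM_fpf ⟨0, by norm_num⟩ (by rw [e]; rfl)

theorem uM_mem_CU : uM ∈ CU := mem_CU.2 ⟨uM_mem, rfl⟩

theorem orderOf_uM : orderOf uM = 2 := orderOf_eq_prime (by rw [pow_two, uM_sq]) uM_ne

/-- A `2`-subgroup of the centraliser without involutions with fixed points has at most four elements. -/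
theorem two_free_le {K : Subgroup (Equiv.Perm (Fin 100))} (hp : IsPGroup 2 K) (hK : K ≤ CU) (hu : uM ∈ K)
    (hfree : ∀ σ ∈ K, ¬ IsFix σ) : Nat.card K ≤ 4 := by
  haveI : Fact (Nat.Prime 2) := ⟨Nat.prime_two⟩
  have hle : CUY ≤ CU := inf_le_left
  have hfac : (2880 : ℕ).factorization 2 = 6 := by
    rw [show (2880 : ℕ) = 2 ^ 6 * 45 by norm_num, Nat.factorization_mul (by norm_num) (by norm_num),
      Finsupp.add_apply, Nat.Prime.factorization_pow Nat.prime_two, Finsupp.single_eq_same,
      Nat.factorization_eq_zero_of_not_dvd (by norm_num : ¬ 2 ∣ 45)]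
  let S : Sylow 2 CU := Sylow.ofCard (CUY.subgroupOf CU) (by
    rw [Nat.card_congr (Subgroup.subgroupOfEquivOfLe hle).toEquiv, card_CUY, card_CU, hfac]; norm_num)
  have hp' : IsPGroup 2 (K.subgroupOf CU) := hp.of_equiv (Subgroup.subgroupOfEquivOfLe hK).symm
  obtain ⟨P, hP⟩ := hp'.exists_le_sylow
  obtain ⟨g, hg⟩ := MulAction.exists_smul_eq CU P S
  set a : Equiv.Perm (Fin 100) := g.1 with ha
  have hau : a * uM = uM * a := (mem_CU.1 g.2).2
  let K' := K.map (MulAut.conj a).toMonoidHom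
  have hK' : K' ≤ CUY := by
    rintro x ⟨k, hk, rfl⟩
    have h : g * ⟨k, hK hk⟩ * g⁻¹ ∈ CUY.subgroupOf CU := by
      have h : ((g • P : Sylow 2 CU) : Subgroup CU) = CUY.subgroupOf CU := by rw [hg]; rfl
      rw [← h]
      exact Subgroup.mem_map.2 ⟨_, hP (Subgroup.mem_subgroupOf.2 hk), rfl⟩
    exact Subgroup.mem_subgroupOf.1 h
  have hc : Nat.card K' = Nat.card K := Subgroup.card_map_of_injective (MulAut.conj a).injective
  rw [← hc]
  refine card_free_le hK' ⟨uM, hu, ?_⟩ ?_
  · show a * uM * a⁻¹ = uM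
    rw [hau, mul_inv_cancel_right]
  · rintro _ ⟨k, hk, rfl⟩ hf
    refine hfree k hk ?_
    have h := isFix_conj hf a⁻¹
    rwa [MulEquiv.coe_toMonoidHom, MulAut.conj_apply,
      show a⁻¹ * (a * k * a⁻¹) * a⁻¹⁻¹ = k by group] at h

/-- **The bound for a subgroup without involutions with fixed points.** -/
theorem free_small {D : Subgroup (Equiv.Perm (Fin 100))} (hD : D ≤ CU) (hu : uM ∈ D)
    (hfree : ∀ σ ∈ D, ¬ IsFix σ) : Nat.card D < 90 := by
  classical
  by_contra hlt
  push Not at hlt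
  haveI : Fact (Nat.Prime 2) := ⟨Nat.prime_two⟩
  haveI : Fact (Nat.Prime 5) := ⟨by norm_num⟩
  have hdvd : Nat.card D ∣ 2880 := card_CU ▸ Subgroup.card_dvd_of_le hD
  -- the `2`-part
  have h8 : ¬ 8 ∣ Nat.card D := by
    intro h8
    have hz : IsPGroup 2 (Subgroup.zpowers (⟨uM, hu⟩ : D)) := IsPGroup.of_card (n := 1) (by
      rw [Nat.card_zpowers, pow_one, Subgroup.orderOf_mk, orderOf_uM])
    obtain ⟨P, hP⟩ := hz.exists_le_sylow
    have hcard : Nat.card ((P : Subgroup D).map D.subtype) = Nat.card (P : Subgroup D) :=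
      Subgroup.card_map_of_injective D.subtype_injective
    have h4 := two_free_le (K := (P : Subgroup D).map D.subtype) (P.2.map D.subtype)
      (fun x hx => by obtain ⟨d, -, rfl⟩ := Subgroup.mem_map.1 hx; exact hD d.2)
      ⟨⟨uM, hu⟩, hP (Subgroup.mem_zpowers _), rfl⟩
      (fun x hx => by obtain ⟨d, -, rfl⟩ := Subgroup.mem_map.1 hx; exact hfree d d.2)
    have h := P.pow_dvd_card_of_pow_dvd_card (n := 3) (by simpa using h8)
    have := Nat.le_of_dvd Nat.card_pos h
    omega
  have hcases : Nat.card D = 90 ∨ Nat.card D = 180 := by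
    have hb : Nat.card D ≤ 2880 := Nat.le_of_dvd (by norm_num) hdvd
    have h180 : Nat.card D ∣ 180 := by
      have hmem : Nat.card D ∈ Nat.divisors 2880 := Nat.mem_divisors.2 ⟨hdvd, by norm_num⟩
      generalize Nat.card D = n at hmem h8
      have : ∀ m ∈ Nat.divisors 2880, 8 ∣ m ∨ m ∣ 180 := by decide +kernel
      exact (this n hmem).resolve_left h8
    have : ∀ m ∈ Nat.divisors 180, m < 90 ∨ m = 90 ∨ m = 180 := by decide +kernel
    rcases this _ (Nat.mem_divisors.2 ⟨h180, by norm_num⟩) with h | h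
    · omega
    · exact h
  -- a subgroup of order five and an element of order three normalising it
  obtain ⟨P⟩ : Nonempty (Sylow 5 D) := inferInstance
  set N := Subgroup.normalizer ((P : Subgroup D) : Set D) with hNdef
  have h5 : Nat.card (P : Subgroup D) = 5 := by
    rw [P.card_eq_multiplicity]
    have : (Nat.card D).factorization 5 = 1 := by
      refine le_antisymm ?_ ((Nat.Prime.pow_dvd_iff_le_factorization (by norm_num) Nat.card_pos.ne').1 (by
        rcases hcases with e | e <;> rw [e] <;> norm_num))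
      by_contra h2
      have : 5 ^ 2 ∣ Nat.card D :=
        (Nat.Prime.pow_dvd_iff_le_factorization (by norm_num) Nat.card_pos.ne').2 (by omega)
      rcases hcases with e | e <;> rw [e] at this <;> norm_num at this
    rw [this, pow_one]
  have hmod := card_sylow_modEq_one 5 D
  rw [P.card_eq_index_normalizer] at hmod
  unfold Nat.ModEq at hmod
  have hN : Nat.card N * N.index = Nat.card D := N.card_mul_index
  have hu2 : 2 ∣ Nat.card N := by
    have huN : (⟨uM, hu⟩ : D) ∈ N := by
      refine Subgroup.mem_normalizer_iff.2 fun d => ?_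
      have e : (⟨uM, hu⟩ : D) * d * (⟨uM, hu⟩ : D)⁻¹ = d := by
        refine Subtype.ext ?_
        show uM * (d : Equiv.Perm (Fin 100)) * uM⁻¹ = d
        rw [← (mem_CU.1 (hD d.2)).2, mul_inv_cancel_right]
      rw [e]
    have := orderOf_dvd_natCard (⟨⟨uM, hu⟩, huN⟩ : N)
    rwa [Subgroup.orderOf_mk, Subgroup.orderOf_mk, orderOf_uM] at this
  have h5N : 5 ∣ Nat.card N := h5 ▸ Subgroup.card_dvd_of_le Subgroup.le_normalizer
  have h3 : 3 ∣ Nat.card N := by
    obtain ⟨k, hk⟩ : 10 ∣ Nat.card N := Nat.Coprime.mul_dvd_of_dvd_of_dvd (by norm_num) hu2 h5N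
    have hi : N.index ∣ 18 := by
      rcases hcases with e | e <;> rw [e, hk, mul_assoc] at hN
      · exact ⟨2 * k, by linarith⟩
      · exact ⟨k, by linarith⟩
    have hi' : ∀ m ∈ Nat.divisors 18, m % 5 = 1 → m = 1 ∨ m = 6 := by decide +kernel
    rcases hi' _ (Nat.mem_divisors.2 ⟨hi, by norm_num⟩) hmod with e | e <;> rw [e] at hN <;>
      rcases hcases with e' | e' <;> omega
  obtain ⟨c, hc⟩ := exists_prime_orderOf_dvd_card' (G := N) (hp := ⟨Nat.prime_three⟩) 3 h3
  haveI : IsCyclic (P : Subgroup D) := isCyclic_of_prime_card h5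
  let f := (P : Subgroup D).normalizerMonoidHom
  have hfc : f c = 1 := by
    rw [← orderOf_eq_one_iff]
    refine Nat.eq_one_of_dvd_coprimes (by norm_num : Nat.Coprime 3 4) (hc ▸ orderOf_map_dvd f c) ?_
    have h4 : Nat.card (MulAut (P : Subgroup D)) = 4 := by rw [IsCyclic.card_mulAut, h5]; rfl
    exact h4 ▸ orderOf_dvd_natCard (f c)
  have hcent : (c : D) ∈ Subgroup.centralizer ((P : Subgroup D) : Set D) := by
    have hk : c ∈ f.ker := hfc
    rw [Subgroup.normalizerMonoidHom_ker] at hk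
    exact hk
  obtain ⟨p, hp⟩ := exists_prime_orderOf_dvd_card' (G := (P : Subgroup D)) 5 (dvd_of_eq h5.symm)
  have hpc : Commute (p : D) (c : D) := Subgroup.mem_centralizer_iff.1 hcent p p.2
  have hc' : orderOf ((c : D) : Equiv.Perm (Fin 100)) = 3 := by rw [Subgroup.orderOf_coe, Subgroup.orderOf_coe, hc]
  have hp' : orderOf ((p : D) : Equiv.Perm (Fin 100)) = 5 := by rw [Subgroup.orderOf_coe, Subgroup.orderOf_coe, hp]
  have hcomm : Commute ((p : D) : Equiv.Perm (Fin 100)) ((c : D) : Equiv.Perm (Fin 100)) := hpc.map D.subtype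
  have h15 : orderOf (((p : D) : Equiv.Perm (Fin 100)) * ((c : D) : Equiv.Perm (Fin 100))) = 15 := by
    rw [hcomm.orderOf_mul_eq_mul_orderOf_of_coprime (by rw [hp', hc']; norm_num), hp', hc']
  rcases fifteen (hD (mul_mem (p : D).2 (c : D).2)) (h15 ▸ pow_orderOf_eq_one _) with h | h <;>
  · have := orderOf_dvd_of_pow_eq_one h
    rw [h15] at this
    norm_num at this

end Cfsg.Agent.HSUniq.Finish
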