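import Mathlib.GroupTheory.Perm.Basic
import Mathlib.Data.Fintype.Perm

/-!
Permutations of five points: the involution centralising a three-cycle, and its products with the involutions of a
subgroup fixing a point.
-/

set_option autoImplicit false
set_option maxRecDepth 100000
set_option maxSynthPendingDepth 10
set_option synthInstance.maxSize 2000

namespace Cfsg.Agent.HSUniq

theorem five_points : ∀ x : Equiv.Perm (Fin 5), x * x * x = 1 → x ≠ 1 →
    (∃ z : Equiv.Perm (Fin 5), z * z = 1 ∧ z ≠ 1 ∧ x * z = z * x) ∧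
    ∀ y : Equiv.Perm (Fin 5), y * y = 1 → y ≠ 1 → x * y = y * x →
    ∀ w : Equiv.Perm (Fin 5), w * w = 1 → w ≠ 1 → w * x * w = x * x → w * y = y * w ∧
    ∀ u : Equiv.Perm (Fin 5), u * u = 1 → u ≠ w → w * u = u * w →
      x * u * (x * u) ≠ 1 → x * u * (x * u) * (x * u * (x * u)) = 1 → y * u * (y * u) * (y * u) = 1 := by
  decide +kernel

end Cfsg.Agent.HSUniq
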