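import Cfsg.Agent.Lib.HSUniq.Relabel

/-!
After normalisation the centraliser satisfies the relations of its model and is the image of the model.
-/

set_option autoImplicit false
set_option maxRecDepth 30000

namespace Cfsg.Agent.HSUniq

variable {G : Type*} [Group G] {t : G} {R : Subgroup G} {v g s w : G}
  {π : ↥(Subgroup.centralizer ({t} : Set G)) →* Equiv.Perm (Fin 5)}

/-- The second candidate does not occur. -/
theorem MData.not_second (hM : MData t R v g s w rList') (hπ : CentQuot t R π) : False := by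
  obtain ⟨y, hy⟩ := hM.exists_yok wf_second facts_second hπ
  obtain ⟨th, i, j, rho, h⟩ := hM.exists_ydata wf_second facts_second hπ hy
  have := h.data.found wf_second
  rw [search_second] at this
  exact List.not_mem_nil this

/-- The possible parameters. -/
theorem MData.params_first (hM : MData t R v g s w rList) (hπ : CentQuot t R π) {y : G} (hy : YOk π s y) :
    ∃ th i j rho, YData v g s w y rData th i j rho ∧ th 384 = 1152 ∧ i = 0 ∧
      ((th 192 = 12 ∧ th 12 = 192) ∨ (th 192 = 972 ∧ th 12 = 12)) ∧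
      ((j = 0 ∧ (rho = 384 ∨ rho = 1152)) ∨ (j = 2 ∧ (rho = 0 ∨ rho = 768))) := by
  obtain ⟨th, i, j, rho, h⟩ := hM.exists_ydata wf_first facts_first hπ hy
  refine ⟨th, i, j, rho, h, ?_⟩
  have := h.data.found wf_first
  rw [search_first, show rData.gens.getD 1 0 = 192 from rfl, show rData.gens.getD 2 0 = 12 from rfl] at this
  simp only [List.mem_cons, List.cons.injEq, List.not_mem_nil, or_false, and_true] at this
  rcases this with h | h | h | h | h | h | h | h <;> simp [h]

theorem code_checks : rData.mem 384 = true ∧ rData.mem 192 = true ∧ rData.mem 12 = true ∧ rData.mem 768 = true ∧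
    mulB 384 192 = mulB 192 384 ∧ mulB 384 12 = mulB 12 384 ∧ mulB 768 1152 = 384 ∧ mulB 384 384 = 768 ∧
    mulB 1152 1152 = 768 ∧ mulB 768 768 = 0 := by decide +kernel

theorem inv_small : allUpTo (fun c => Nat.blt (invC c) 1536 && Nat.beq (mulB c (invC c)) 0) 1536 = true := by
  decide +kernel

theorem MData.y_mul (hM : MData t R v g s w rList) (hπ : CentQuot t R π) {y : G} (hy : YOk π s y) {c : ℕ}
    (hc : c = 384 ∨ c = 768) : YOk π s (y * eB v g s w c) := by
  have hm : rData.mem c = true := by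
    rcases hc with rfl | rfl
    exacts [code_checks.1, code_checks.2.2.2.1]
  have hlt : c < 1536 := hM.mem_lt wf_first hm
  have hcm := hM.eB_mem hlt
  have hs : eB v g s w c * s = s * eB v g s w c := by
    have hv : Commute v s := hM.m.cs.symm
    rcases hc with rfl | rfl
    · rw [(eB_v v g s w).1]; exact hv.eq
    · rw [(eB_v v g s w).2.2.2]; exact (hv.mul_left hv).eq
  have e : π ⟨y * eB v g s w c, mul_mem hy.mem hcm⟩ = π ⟨y, hy.mem⟩ := by
    rw [show (⟨y * eB v g s w c, _⟩ : ↥(Subgroup.centralizer ({t} : Set G))) = ⟨y, hy.mem⟩ * ⟨_, hcm⟩ from rfl,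
      map_mul, (hπ.ker ⟨_, hcm⟩).2 ((hM.mem_R wf_first hlt).2 hm), mul_one]
  exact ⟨mul_mem hy.mem hcm, by rw [mul_assoc, hs, ← mul_assoc, hy.comm, mul_assoc], by rw [e]; exact hy.sq,
    by rw [e]; exact hy.ne⟩

/-- **The relations of the centraliser hold after normalisation.** -/
theorem MData.exists_hrel (hM : MData t R v g s w rList) (hπ : CentQuot t R π) :
    ∃ g' y, MData t R v g' s w rList ∧ YOk π s y ∧ HRel v g' s w y := by
  obtain ⟨y, hy⟩ := hM.exists_yok wf_first facts_first hπ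
  obtain ⟨c384, c192, c12, c768, e192, e12, eb, ev, ev', ev''⟩ := code_checks
  -- the automorphism is the first one
  obtain ⟨g1, hM1, hth⟩ : ∃ g1, MData t R v g1 s w rList ∧
      y * eB v g1 s w 192 * y⁻¹ = eB v g1 s w 12 := by
    obtain ⟨th, i, j, rho, h, -, -, ho, -⟩ := hM.params_first hπ hy
    rcases ho with ⟨h1, h2⟩ | ⟨h1, h2⟩
    · exact ⟨g, hM, by rw [h.conj _ c192, h1]⟩
    · obtain ⟨hM', q192, q12⟩ := MData.relabel hM
      exact ⟨_, hM', by rw [q192, h.conj _ c192, h1, q12]⟩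
  clear hM
  have inj := fun a b (ha : a < 1536) (hb : b < 1536) => hM1.eB_inj (v := v) (g := g1) ha hb
  have hv := eB_v v g1 s w
  have e0 := hM1.m.eB_zero
  have c384' := hM1.m.eB_hom (show 384 < 1536 by norm_num) (show 192 < 1536 by norm_num)
  rw [e192, hM1.m.eB_hom (by norm_num) (by norm_num), hv.1] at c384'
  have wv : w * v * (w * v) = 1 := by
    calc w * v * (w * v) = v ^ 3 * w * (w * v) := by rw [← hM1.m.cw]
      _ = v ^ 3 * (w * w) * v := by group
      _ = 1 := by rw [hM1.m.l.w2, mul_one, ← pow_succ, hM1.m.v4]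
  -- the conjugate of `w`
  obtain ⟨y1, hy1, hth1, hw1⟩ : ∃ y1, YOk π s y1 ∧ y1 * eB v g1 s w 192 * y1⁻¹ = eB v g1 s w 12 ∧
      y1 * w * y1⁻¹ = w := by
    obtain ⟨th, i, j, rho, h, h384, -, -, hj⟩ := hM1.params_first hπ hy
    rcases hj with ⟨rfl, -⟩ | ⟨rfl, -⟩
    · exact ⟨y, hy, hth, by rw [h.yw, show vpC 0 = 0 from rfl, e0, one_mul]⟩
    · refine ⟨y * eB v g1 s w 384, hM1.y_mul hπ hy (Or.inl rfl), ?_, ?_⟩
      · rw [hv.1]
        calc y * v * eB v g1 s w 192 * (y * v)⁻¹ = y * (v * eB v g1 s w 192) * v⁻¹ * y⁻¹ := by group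
          _ = y * (eB v g1 s w 192 * v) * v⁻¹ * y⁻¹ := by rw [← c384']
          _ = _ := by rw [← hth]; group
      · rw [hv.1]
        have hv2 : y * eB v g1 s w 768 * y⁻¹ = eB v g1 s w 768 := by
          have q := h.conj _ c384
          rw [h384] at q
          rw [← ev, hM1.m.eB_hom (by norm_num) (by norm_num),
            show y * (eB v g1 s w 384 * eB v g1 s w 384) * y⁻¹ = y * eB v g1 s w 384 * y⁻¹ * (y * eB v g1 s w 384 * y⁻¹)
              by group, q, ← hM1.m.eB_hom (by norm_num) (by norm_num), ← hM1.m.eB_hom (by norm_num) (by norm_num),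
            ev', ev]
        have hwv : v * w * v⁻¹ = v * v * w := by
          have e1 : v * w = w * v⁻¹ := by
            calc v * w = (w * w) * (v * w) := by rw [hM1.m.l.w2, one_mul]
              _ = w * (w * v * (w * v)) * v⁻¹ := by group
              _ = _ := by rw [wv, mul_one]
          calc v * w * v⁻¹ = v * (w * v⁻¹) := by group
            _ = v * v * w := by rw [← e1]; group
        calc y * v * w * (y * v)⁻¹ = y * (v * w * v⁻¹) * y⁻¹ := by group
          _ = y * (v * v * w) * y⁻¹ := by rw [hwv]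
          _ = y * eB v g1 s w 768 * y⁻¹ * (y * w * y⁻¹) := by rw [hv.2.2.2]; group
          _ = eB v g1 s w 768 * (eB v g1 s w 768 * w) := by rw [hv2, h.yw, show vpC 2 = 768 from rfl]
          _ = _ := by rw [← mul_assoc, ← hM1.m.eB_hom (by norm_num) (by norm_num), ev'', e0, one_mul]
  clear hth hy
  -- the braid value
  obtain ⟨y2, hy2, hth2, hw2, hr2⟩ : ∃ y2, YOk π s y2 ∧ y2 * eB v g1 s w 192 * y2⁻¹ = eB v g1 s w 12 ∧
      y2 * w * y2⁻¹ = w ∧
      y2 * eB v g1 s w 169 * (y2 * eB v g1 s w 169) * (y2 * eB v g1 s w 169) = eB v g1 s w 384 := by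
    obtain ⟨th, i, j, rho, h, h384, -, -, hj⟩ := hM1.params_first hπ hy1
    have hj0 : j = 0 := by
      rcases hj with ⟨e, -⟩ | ⟨rfl, -⟩
      · exact e
      · have q := h.yw
        rw [hw1, eq_comm, mul_eq_right, ← e0] at q
        exact absurd (inj _ _ (by decide) (by norm_num) q) (by decide)
    obtain ⟨-, rfl | rfl⟩ := hj.resolve_right (fun e => absurd (hj0 ▸ e.1) (by norm_num))
    · exact ⟨y1, hy1, hth1, hw1, h.cube⟩
    · refine ⟨y1 * eB v g1 s w 768, hM1.y_mul hπ hy1 (Or.inr rfl), ?_⟩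
      have et : eB v g1 s w 768 = t := hv.2.2.2.trans hM1.vv
      have ct : ∀ x, x ∈ Subgroup.centralizer ({t} : Set G) → Commute t x := fun x hx =>
        (Subgroup.mem_centralizer_singleton_iff.1 hx).symm
      have c1 := ct _ hy1.mem
      have c2 := ct _ (hM1.eB_mem (show 169 < 1536 by norm_num))
      have c3 := ct _ (hM1.eB_mem (show 192 < 1536 by norm_num))
      have c4 := ct _ (hv.2.2.1 ▸ hM1.eB_mem (show 1 < 1536 by norm_num))
      refine ⟨?_, ?_, ?_⟩
      · rw [et, ← hth1, mul_inv_rev]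
        calc y1 * t * eB v g1 s w 192 * (t⁻¹ * y1⁻¹) = y1 * (t * eB v g1 s w 192) * t⁻¹ * y1⁻¹ := by group
          _ = _ := by rw [c3.eq]; group
      · rw [et, mul_inv_rev]
        calc y1 * t * w * (t⁻¹ * y1⁻¹) = y1 * (t * w) * t⁻¹ * y1⁻¹ := by group
          _ = y1 * w * y1⁻¹ := by rw [c4.eq]; group
          _ = w := hw1
      · rw [et]
        have tt : t * t = 1 := by rw [← et, ← hM1.m.eB_hom (by norm_num) (by norm_num), ev'', e0]
        have cz : Commute t (y1 * eB v g1 s w 169) := c1.mul_right c2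
        calc y1 * t * eB v g1 s w 169 * (y1 * t * eB v g1 s w 169) * (y1 * t * eB v g1 s w 169)
            = t * (y1 * eB v g1 s w 169) * (t * (y1 * eB v g1 s w 169)) * (t * (y1 * eB v g1 s w 169)) := by
              rw [show y1 * t = t * y1 from c1.symm.eq]; group
          _ = t * ((y1 * eB v g1 s w 169) * t) * (y1 * eB v g1 s w 169) * t * (y1 * eB v g1 s w 169) := by group
          _ = (t * t) * ((y1 * eB v g1 s w 169) * (y1 * eB v g1 s w 169) * t) * (y1 * eB v g1 s w 169) := by
              rw [← cz.eq]; group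
          _ = t * (y1 * eB v g1 s w 169 * (y1 * eB v g1 s w 169) * (y1 * eB v g1 s w 169)) := by
              rw [tt, one_mul, ← (cz.mul_right cz).eq]; group
          _ = _ := by rw [h.cube, ← et, ← hM1.m.eB_hom (by norm_num) (by norm_num), eb]
  -- the relations
  obtain ⟨th, i, j, rho, h, h384, rfl, ho, -⟩ := hM1.params_first hπ hy2
  have q := h.conj _ c192
  rw [hth2] at q
  obtain ⟨h12, h12'⟩ : th 192 = 12 ∧ th 12 = 192 := by
    refine ho.resolve_right fun e => ?_
    rw [e.1] at q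
    exact absurd (inj _ _ (by norm_num) (by norm_num) q) (by norm_num)
  refine ⟨g1, y2, hM1, hy2, hM1.m, by rw [h.ysq, show vpC 0 = 0 from rfl, e0], fun i hi => ?_, hr2⟩
  have key : ∀ {c d : ℕ}, y2 * eB v g1 s w c * y2⁻¹ = eB v g1 s w d →
      y2 * eB v g1 s w c = eB v g1 s w d * y2 := fun q => by rw [← q]; group
  change i < 5 at hi
  interval_cases i
  · exact key (by rw [show stGens.getD 0 0 = 384 from rfl, h.conj _ c384, h384]; rfl)
  · exact key (by rw [show stGens.getD 1 0 = 192 from rfl, h.conj _ c192, h12]; rfl)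
  · exact key (by rw [show stGens.getD 2 0 = 12 from rfl, h.conj _ c12, h12']; rfl)
  · rw [show stGens.getD 3 0 = 21 from rfl, show stImgs.getD 3 0 = 21 from rfl, hv.2.1]; exact hy2.comm
  · exact key (by
      rw [show stGens.getD 4 0 = 1 from rfl, show stImgs.getD 4 0 = 1 from rfl, hv.2.2.1]; exact hw2)

/-- The centraliser is the image of the model. -/
theorem MData.image_eH [Finite G] (hM : MData t R v g s w rList) (hπ : CentQuot t R π) {y : G} (hy : YOk π s y)
    (h : HRel v g s w y) (hR : Nat.card R = 64) :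
    (∀ a b, a < 7680 → b < 7680 → eH v g s w y a = eH v g s w y b → a = b) ∧
      ∀ x, x ∈ Subgroup.centralizer ({t} : Set G) ↔ ∃ c, c < 7680 ∧ eH v g s w y c = x := by
  classical
  let H := Subgroup.centralizer ({t} : Set G)
  have e0 := h.rules.e_zero
  have memH : ∀ c, c < 7680 → eH v g s w y c ∈ H := fun c hc => by
    refine mul_mem ?_ (hM.eB_mem (Nat.mod_lt _ (by norm_num)))
    unfold xRep
    split
    · exact one_mem _
    · exact mul_mem (hM.eB_mem (pre_lt (by omega))) hy.mem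
  let K : Subgroup H :=
    { carrier := {x | ∃ c, c < 7680 ∧ eH v g s w y c = (x : G)}
      one_mem' := ⟨0, by norm_num, e0⟩
      mul_mem' := by
        rintro x z ⟨a, ha, ea⟩ ⟨b, hb, eb⟩
        exact ⟨mulC a b, mulC_bound ha hb, by rw [h.hom ha hb, ea, eb]; rfl⟩
      inv_mem' := by
        rintro x ⟨a, ha, ea⟩
        obtain ⟨b, hb, e⟩ := h.exists_inv ha
        exact ⟨b, hb, by rw [Subgroup.coe_inv, ← ea]; exact eq_inv_of_mul_eq_one_right e⟩ }
  let B : Subgroup H :=
    { carrier := {x | ∃ c, c < 1536 ∧ eB v g s w c = (x : G)}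
      one_mem' := ⟨0, by norm_num, h.eB_zero⟩
      mul_mem' := by
        rintro x z ⟨a, ha, ea⟩ ⟨b, hb, eb⟩
        exact ⟨mulB a b, mulB_bound ha hb, by rw [h.eB_hom ha hb, ea, eb]; rfl⟩
      inv_mem' := by
        rintro x ⟨a, ha, ea⟩
        have hk := allUpTo_spec inv_small ha
        simp only [Bool.and_eq_true, Nat.blt_eq, Nat.beq_eq] at hk
        refine ⟨invC a, hk.1, ?_⟩
        rw [Subgroup.coe_inv, ← ea]
        exact eq_inv_of_mul_eq_one_right (by rw [← h.eB_hom ha hk.1, hk.2, h.eB_zero]) }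
  have hB : Nat.card B = 1536 := by
    rw [← Nat.card_fin 1536]
    refine (Nat.card_congr (Equiv.ofBijective
      (fun c : Fin 1536 => (⟨⟨_, hM.eB_mem c.2⟩, c, c.2, rfl⟩ : B)) ⟨fun a b e => ?_, fun z => ?_⟩)).symm
    · exact Fin.ext (hM.eB_inj a.2 b.2 (congrArg (fun q : B => ((q : H) : G)) e))
    · obtain ⟨⟨x, hx⟩, c, hc, e⟩ := z
      exact ⟨⟨c, hc⟩, Subtype.ext (Subtype.ext e)⟩
  have hBK : B ≤ K := fun x ⟨c, hc, e⟩ => ⟨c, by omega, by rw [eH_small v g s w y hc, e]⟩
  have hyK : (⟨y, hy.mem⟩ : H) ∈ K :=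
    ⟨1536, by norm_num, by
      rw [eH, Nat.div_self (by norm_num), Nat.mod_self, h.eB_zero, mul_one, xRep, if_neg (by norm_num),
        three_ok.2.2, h.eB_zero, one_mul]⟩
  have hRB : ∀ x : H, (x : G) ∈ R → x ∈ B := fun x hx => by
    obtain ⟨c, hc, e⟩ := hM.code_R wf_first hx
    exact ⟨c, hM.mem_lt wf_first hc, e⟩
  have hcardB : Nat.card (B.map π) = 24 := by
    have e := (π.comp B.subtype).ker.card_mul_index
    rw [Subgroup.index_ker, MonoidHom.range_comp, Subgroup.range_subtype, hB] at e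
    have hk : Nat.card (π.comp B.subtype).ker = 64 := by
      rw [← hR]
      exact Nat.card_congr ⟨fun z => ⟨((z : B) : H), (hπ.ker _).1 z.2⟩,
        fun z => ⟨⟨⟨z, hπ.le z.2⟩, hRB _ z.2⟩, (hπ.ker ⟨z, hπ.le z.2⟩).2 z.2⟩,
        fun z => rfl, fun z => rfl⟩
    rw [hk] at e
    omega
  have hynB : π ⟨y, hy.mem⟩ ∉ B.map π := by
    rintro ⟨⟨b, hb⟩, ⟨c, hc, ec⟩, e⟩
    obtain ⟨d, hd, ed⟩ := hM.code_R wf_first (hπ.mem_of_eq hy.mem hb e.symm)
    have hdl := hM.mem_lt wf_first hd
    set cd := mulB d c with hcd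
    have hcl : cd < 1536 := mulB_bound hdl hc
    have eyc : eB v g s w cd = y := by rw [hcd, h.eB_hom hdl hc, ed, ec]; simp
    have hfix : csC cd = cd := by
      refine hM.eB_inj (mulB_bound (mulB_bound (by norm_num) hcl) (by norm_num)) hcl ?_
      rw [hM.eB_cs hcl, eyc, ← hy.comm, mul_inv_cancel_right]
    have q := allUpTo_spec cb_check hcl
    rw [hfix] at q
    simp only [Nat.beq_refl, Bool.not_true, Bool.false_or, List.any_eq_true, Nat.beq_eq] at q
    obtain ⟨r, hr, k, hk, eq⟩ := q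
    obtain ⟨x1, -, hker⟩ := hM.image_facts wf_first facts_first hπ
    have hrm : rData.mem r = true := by
      have : ([0, 384, 768, 1152].all fun r => rData.mem r) = true := by decide +kernel
      exact List.all_eq_true.1 this r hr
    have hrl := hM.mem_lt wf_first hrm
    have hkl : k < 1536 := by simp only [List.mem_cons, List.not_mem_nil, or_false] at hk; omega
    set X := π ⟨eB v g s w k, hM.eB_mem hkl⟩ with hX
    have eY : π ⟨y, hy.mem⟩ = X := by
      rw [show (⟨y, hy.mem⟩ : H) = ⟨_, hM.eB_mem hrl⟩ * ⟨_, hM.eB_mem hkl⟩ from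
        Subtype.ext (show y = eB v g s w r * eB v g s w k by rw [← eyc, eq, h.eB_hom hrl hkl]), map_mul,
        (hker r hrl).2 hrm, one_mul]
    have y1 := hy.ne
    have y2 := hy.sq
    rw [eY] at y1 y2
    have hsq : π ⟨eB v g s w (mulB k k), hM.eB_mem (mulB_bound hkl hkl)⟩ = 1 := by
      rw [← y2, hX, ← map_mul]; congr 1; exact Subtype.ext (h.eB_hom hkl hkl)
    have hkk := (hker _ (mulB_bound hkl hkl)).1 hsq
    have : ([21, 22].all fun k => !(rData.mem (mulB k k))) = true := by decide +kernel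
    simp only [List.mem_cons, List.not_mem_nil, or_false] at hk
    rcases hk with rfl | rfl | rfl
    · exact y1 ((hker 0 hkl).2 (by decide +kernel))
    · simp [hkk] at this
    · simp [hkk] at this
  have htop : K = ⊤ := by
    have hle : B.map π ≤ K.map π := Subgroup.map_mono hBK
    have hlt : B.map π < K.map π := lt_of_le_of_ne hle fun e => hynB (e ▸ Subgroup.mem_map_of_mem π hyK)
    have h1 : 24 ∣ Nat.card (K.map π) := hcardB ▸ Subgroup.card_dvd_of_le hle
    have h2 : 24 < Nat.card (K.map π) := by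
      refine lt_of_le_of_ne (Nat.le_of_dvd Nat.card_pos h1) fun e => hlt.ne ?_
      exact Subgroup.eq_of_le_of_card_ge hle (by omega)
    have h3 : Nat.card (K.map π) ∣ 120 := by
      have := Subgroup.card_subgroup_dvd_card (K.map π)
      rwa [Nat.card_eq_fintype_card (α := Equiv.Perm (Fin 5)), Fintype.card_perm, Fintype.card_fin] at this
    have h4 : K.map π = ⊤ := by
      refine Subgroup.eq_top_of_le_card _ ?_
      rw [Nat.card_eq_fintype_card (α := Equiv.Perm (Fin 5)), Fintype.card_perm, Fintype.card_fin]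
      obtain ⟨m, hm⟩ := h1
      have := Nat.le_of_dvd (by norm_num) h3
      have hm5 : m ∣ 5 := by
        rw [hm, show 120 = 24 * 5 from rfl] at h3
        exact Nat.dvd_of_mul_dvd_mul_left (by norm_num) h3
      rcases (Nat.dvd_prime (by norm_num : Nat.Prime 5)).1 hm5 with rfl | rfl
      · omega
      · exact hm.symm ▸ le_of_eq rfl
    rw [eq_top_iff]
    intro x _
    obtain ⟨k, hk, e⟩ := (show π x ∈ K.map π by rw [h4]; trivial)
    have hq : x * k⁻¹ ∈ K :=
      hBK (hRB _ ((hπ.ker _).1 (by rw [map_mul, map_inv, e, mul_inv_cancel])))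
    simpa using K.mul_mem hq hk
  have surj : ∀ x, x ∈ H ↔ ∃ c, c < 7680 ∧ eH v g s w y c = x := fun x =>
    ⟨fun hx => (show (⟨x, hx⟩ : H) ∈ K by rw [htop]; trivial), fun ⟨c, hc, e⟩ => e ▸ memH c hc⟩
  refine ⟨?_, surj⟩
  have hH : Nat.card H = 7680 := by
    have e := π.ker.card_mul_index
    rw [Subgroup.index_ker, MonoidHom.range_eq_top.2 hπ.surj, Subgroup.card_top, Nat.card_eq_fintype_card (α := Equiv.Perm (Fin 5)), Fintype.card_perm, Fintype.card_fin,
      Nat.factorial] at e
    have hk : Nat.card π.ker = 64 := by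
      rw [← hR]
      exact Nat.card_congr ⟨fun z => ⟨(z : H), (hπ.ker _).1 z.2⟩,
        fun z => ⟨⟨z, hπ.le z.2⟩, (hπ.ker ⟨z, hπ.le z.2⟩).2 z.2⟩, fun z => rfl, fun z => rfl⟩
    rw [hk] at e
    norm_num [Nat.factorial] at e
    exact e.symm
  have hbij : Function.Bijective (fun c : Fin 7680 => (⟨_, memH c c.2⟩ : H)) := by
    haveI := Fintype.ofFinite H
    refine (Fintype.bijective_iff_surjective_and_card _).2 ⟨fun z => ?_, ?_⟩
    · obtain ⟨c, hc, e⟩ := (surj z).1 z.2
      exact ⟨⟨c, hc⟩, Subtype.ext e⟩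
    · rw [← Nat.card_eq_fintype_card, ← Nat.card_eq_fintype_card, hH, Nat.card_fin]
  intro a b ha hb e
  exact congrArg Fin.val (@hbij.1 ⟨a, ha⟩ ⟨b, hb⟩ (Subtype.ext e))

end Cfsg.Agent.HSUniq
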