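import Cfsg.Agent.Lib.HSUniq.HData

/-!
The relations of the centraliser give a homomorphism from its model.
-/

set_option autoImplicit false
set_option maxRecDepth 30000

namespace Cfsg.Agent.HSUniq

variable {G : Type*} [Group G]

/-- The element of the subgroup of order `1536` with a given code. -/
def eB (v g s w : G) (c : ℕ) : G := emM v g s w (toM c)

/-- A coset representative. -/
def xRep (v g s w y : G) (n : ℕ) : G := if n = 0 then 1 else eB v g s w (preList.getD n 0) * y

/-- The element of the centraliser with a given code. -/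
def eH (v g s w y : G) (c : ℕ) : G := xRep v g s w y (c / 1536) * eB v g s w (c % 1536)

/-- The relations of the centraliser. -/
structure HRel (v g s w y : G) : Prop where
  m : MRel v g s w
  y2 : y * y = 1
  th : ∀ i, i < stGens.length → y * eB v g s w (stGens.getD i 0) = eB v g s w (stImgs.getD i 0) * y
  braid : y * eB v g s w (preList.getD 2 0) * (y * eB v g s w (preList.getD 2 0)) *
    (y * eB v g s w (preList.getD 2 0)) = eB v g s w rhoI

/-- An entry of the table of the automorphism. -/
def thC (c : ℕ) : ℕ := word thTab c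

/-- One row of the list of elements, against the rows before it. -/
def rowOK (n : ℕ) : Bool :=
  let r := stRows.getD n (0, 0, 0, 0)
  Nat.blt r.1 1536 && Nat.blt r.2.1 1536 &&
    ((Nat.beq n 0 && Nat.beq r.1 0 && Nat.beq r.2.1 0) ||
      (Nat.blt r.2.2.2 n && Nat.blt r.2.2.1 stGens.length &&
        Nat.beq r.1 (mulB (stGens.getD r.2.2.1 0) (stRows.getD r.2.2.2 (0, 0, 0, 0)).1) &&
        Nat.beq r.2.1 (mulB (stImgs.getD r.2.2.1 0) (stRows.getD r.2.2.2 (0, 0, 0, 0)).2.1)))

theorem rows_ok : allUpTo rowOK 384 = true := by decide +kernel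

theorem th_ok : allUpTo (fun c => Nat.beq (thC c) 7680 ||
    ((List.range 384).any fun n => Nat.beq (stRows.getD n (0, 0, 0, 0)).1 c &&
      Nat.beq (stRows.getD n (0, 0, 0, 0)).2.1 (thC c))) 1536 = true := by decide +kernel

theorem gens_lt : (stGens.all fun c => Nat.blt c 1536) = true ∧ (stImgs.all fun c => Nat.blt c 1536) = true ∧
    (preList.all fun c => Nat.blt c 1536) = true ∧ (threeList.all fun c => Nat.blt c 1536) = true ∧
    preList.length = 5 ∧ rhoI < 1536 := by
  decide +kernel

theorem toM_h : allUpTo (fun i => allUpTo (fun j => Nat.beq (blList.getD (byte hTab (24 * i + j)) 0)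
    (mulL (blList.getD i 0) (blList.getD j 0))) 24 && Nat.blt (blList.getD i 0) 168 &&
    allUpTo (fun a => Nat.beq (byte aTab (64 * i + a)) (actL (blList.getD i 0) a)) 64) 24 = true := by
  decide +kernel

/-- The decomposition of a member times a representative. -/
def lbOK (n b : ℕ) : Bool :=
  let p := word lbTab (1536 * n + b)
  bif Nat.beq n 0 then Nat.beq p b else
    Nat.blt 0 (p / 1536) && Nat.blt (p / 1536) 5 && Nat.blt (thC (p % 1536)) 1536 &&
      Nat.beq (mulB (preList.getD (p / 1536) 0) (thC (p % 1536))) (mulB b (preList.getD n 0))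

theorem lb_ok : allUpTo (fun n => allUpTo (fun b => lbOK n b) 1536) 5 = true := by decide +kernel

/-- The conjugated braid value. -/
def braidC (k : ℕ) : ℕ :=
  mulB (mulB (mulB (threeList.getD k 0) rhoI) (preList.getD 2 0)) (threeList.getD ((3 - k) % 3) 0)

/-- The product of two representatives. -/
def xxOK (m n : ℕ) : Bool :=
  let q := word xxTab (5 * m + n)
  bif Nat.beq m 0 then Nat.beq q (n * 1536) else bif Nat.beq n 0 then Nat.beq q (m * 1536) else
    bif Nat.beq n 1 then Nat.beq q (preList.getD m 0) else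
      let p := word lbTab (1536 + mulB (preList.getD m 0) (braidC (n - 2)))
      Nat.beq q (p / 1536 * 1536 + mulB (p % 1536) (preList.getD n 0))

theorem xx_ok : allUpTo (fun m => allUpTo (fun n => xxOK m n) 5) 5 = true := by decide +kernel

theorem three_ok : allUpTo (fun k => Nat.beq (mulB (mulB (threeList.getD k 0) (preList.getD 2 0))
      (threeList.getD ((3 - k) % 3) 0)) (preList.getD (k + 2) 0) &&
    Nat.beq (mulB (threeList.getD k 0) (threeList.getD ((3 - k) % 3) 0)) 0 &&
    Nat.beq (thC (threeList.getD k 0)) (threeList.getD k 0)) 3 = true ∧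
    mulB (preList.getD 2 0) (preList.getD 2 0) = 0 ∧ preList.getD 1 0 = 0 := by decide +kernel

section

variable {v g s w : G} (h : MRel v g s w)
include h

theorem MRel.eB_hom {a b : ℕ} (ha : a < 1536) (hb : b < 1536) :
    eB v g s w (mulB a b) = eB v g s w a * eB v g s w b := by
  have h1 := allUpTo_spec toM_h (show a % 24 < 24 by omega)
  have h2 := allUpTo_spec toM_h (show b % 24 < 24 by omega)
  simp only [Bool.and_eq_true, Nat.blt_eq] at h1 h2
  have e1 := Nat.eq_of_beq_eq_true (allUpTo_spec h1.1.1 (show b % 24 < 24 by omega))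
  have e2 := Nat.eq_of_beq_eq_true (allUpTo_spec h1.2 (show b / 24 < 64 by omega))
  have k1 := Nat.le_of_ble_eq_true (allUpTo_spec h_bound (k := 24 * (a % 24) + b % 24) (by omega))
  have hh := h.hom (a := toM a) (b := toM b) (by unfold toM; omega) (by unfold toM; omega)
  rw [eB, eB, eB, ← hh.1]
  congr 1
  unfold mulM toM mulB
  rw [show ∀ p q : ℕ, q < 168 → (p * 168 + q) / 168 = p from fun p q hq => by omega,
    show ∀ p q : ℕ, q < 168 → (p * 168 + q) % 168 = q from fun p q hq => by omega,
    show ∀ p q : ℕ, q < 168 → (p * 168 + q) / 168 = p from fun p q hq => by omega,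
    show ∀ p q : ℕ, q < 168 → (p * 168 + q) % 168 = q from fun p q hq => by omega,
    show ∀ p q : ℕ, q < 24 → (p * 24 + q) / 24 = p from fun p q hq => by omega,
    show ∀ p q : ℕ, q < 24 → (p * 24 + q) % 24 = q from fun p q hq => by omega, e1, e2]
  all_goals first | exact h1.1.2 | exact h2.1.2 | omega

theorem MRel.eB_zero : eB v g s w 0 = 1 := by
  have := h.eB_hom (a := 0) (b := 0) (by norm_num) (by norm_num)
  rw [show mulB 0 0 = 0 by decide +kernel] at this
  exact mul_left_cancel (a := eB v g s w 0) (by rw [mul_one, ← this])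

end

variable {v g s w y : G} (h : HRel v g s w y)
include h

theorem HRel.eB_hom {a b : ℕ} (ha : a < 1536) (hb : b < 1536) :
    eB v g s w (mulB a b) = eB v g s w a * eB v g s w b := h.m.eB_hom ha hb

theorem HRel.eB_zero : eB v g s w 0 = 1 := h.m.eB_zero

theorem HRel.th_row : ∀ n, n < 384 → (stRows.getD n (0, 0, 0, 0)).1 < 1536 ∧
    (stRows.getD n (0, 0, 0, 0)).2.1 < 1536 ∧ y * eB v g s w (stRows.getD n (0, 0, 0, 0)).1 =
      eB v g s w (stRows.getD n (0, 0, 0, 0)).2.1 * y := by
  intro n
  induction n using Nat.strong_induction_on with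
  | _ n ih =>
    intro hn
    have hk := allUpTo_spec rows_ok hn
    simp only [rowOK, Bool.and_eq_true, Bool.or_eq_true, Nat.blt_eq, Nat.beq_eq] at hk
    obtain ⟨⟨h1, h2⟩, hk⟩ := hk
    refine ⟨h1, h2, ?_⟩
    rcases hk with ⟨⟨-, e1⟩, e2⟩ | ⟨⟨⟨hp, hi⟩, e1⟩, e2⟩
    · rw [e1, e2, h.eB_zero, mul_one, one_mul]
    · obtain ⟨p1, p2, p3⟩ := ih _ hp (by omega)
      have g1 := List.all_eq_true.1 gens_lt.1
      have g2 := List.all_eq_true.1 gens_lt.2.1
      have hi2 : (stRows.getD n (0, 0, 0, 0)).2.2.1 < stImgs.length := hi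
      have b1 : stGens.getD (stRows.getD n (0, 0, 0, 0)).2.2.1 0 < 1536 := by
        rw [List.getD_eq_getElem _ _ hi]; simpa [Nat.blt_eq] using g1 _ (List.getElem_mem hi)
      have b2 : stImgs.getD (stRows.getD n (0, 0, 0, 0)).2.2.1 0 < 1536 := by
        rw [List.getD_eq_getElem _ _ hi2]; simpa [Nat.blt_eq] using g2 _ (List.getElem_mem hi2)
      rw [e1, e2, h.eB_hom b1 p1, h.eB_hom b2 p2, ← mul_assoc, h.th _ hi, mul_assoc, p3, mul_assoc]

theorem HRel.th_eq {c : ℕ} (hc : c < 1536) (ht : thC c < 1536) :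
    y * eB v g s w c = eB v g s w (thC c) * y := by
  have hk := allUpTo_spec th_ok hc
  simp only [Bool.or_eq_true, Nat.beq_eq, List.any_eq_true, List.mem_range, Bool.and_eq_true] at hk
  rcases hk with hk | ⟨n, hn, e1, e2⟩
  · omega
  · have := (h.th_row n hn).2.2
    rwa [e1, e2] at this

omit h in
theorem pre_lt {n : ℕ} (hn : n < 5) : preList.getD n 0 < 1536 := by
  have hl : n < preList.length := by rw [gens_lt.2.2.2.2.1]; exact hn
  rw [List.getD_eq_getElem _ _ hl]
  simpa [Nat.blt_eq] using List.all_eq_true.1 gens_lt.2.2.1 _ (List.getElem_mem hl)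

omit h in
theorem three_lt {k : ℕ} (hk : k < 3) : threeList.getD k 0 < 1536 := by
  interval_cases k <;> decide

theorem HRel.lb {n b : ℕ} (hn : n < 5) (hb : b < 1536) : eB v g s w b * xRep v g s w y n =
    xRep v g s w y (word lbTab (1536 * n + b) / 1536) * eB v g s w (word lbTab (1536 * n + b) % 1536) := by
  have hk := allUpTo_spec (allUpTo_spec lb_ok hn) hb
  unfold lbOK at hk
  by_cases h0 : n = 0
  · subst h0
    simp only [Nat.beq_refl, cond_true, Nat.beq_eq] at hk
    rw [hk, Nat.div_eq_of_lt hb, Nat.mod_eq_of_lt hb, xRep, if_pos rfl, mul_one, one_mul]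
  · rw [show Nat.beq n 0 = false by cases n <;> simp_all [Nat.beq]] at hk
    simp only [cond_false, Bool.and_eq_true, Nat.blt_eq, Nat.beq_eq] at hk
    obtain ⟨⟨⟨h1, h5⟩, ht⟩, he⟩ := hk
    rw [xRep, if_neg h0, xRep, if_neg (by omega), ← mul_assoc, ← h.eB_hom hb (pre_lt hn), ← he,
      h.eB_hom (pre_lt h5) ht, mul_assoc (eB v g s w _) _ y, mul_assoc (eB v g s w _) y,
      h.th_eq (Nat.mod_lt _ (by norm_num)) ht]

theorem HRel.braid_k {k : ℕ} (hk : k < 3) : y * eB v g s w (preList.getD (k + 2) 0) * y =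
    eB v g s w (braidC k) * y * eB v g s w (preList.getD (k + 2) 0) := by
  set u := eB v g s w (preList.getD 2 0) with hu
  have hu2 : u * u = 1 := by
    rw [hu, ← h.eB_hom (pre_lt (by norm_num)) (pre_lt (by norm_num)), three_ok.2.1, h.eB_zero]
  have hyuy : y * u * y = eB v g s w rhoI * u * y * u := by
    calc y * u * y = y * u * (y * u) * (y * u) * (u * y * u) := by
          simp only [mul_assoc]
          simp [← mul_assoc u u, hu2, ← mul_assoc y y, h.y2]
      _ = eB v g s w rhoI * (u * y * u) := by rw [h.braid]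
      _ = _ := by simp only [mul_assoc]
  have hk' := allUpTo_spec three_ok.1 hk
  simp only [Bool.and_eq_true, Nat.beq_eq] at hk'
  obtain ⟨⟨e1, e2⟩, e3⟩ := hk'
  have b1 := three_lt hk
  have b2 := three_lt (show (3 - k) % 3 < 3 by omega)
  have p2 := pre_lt (n := 2) (by norm_num)
  have hr : rhoI < 1536 := gens_lt.2.2.2.2.2
  have z : eB v g s w (threeList.getD k 0) * eB v g s w (threeList.getD ((3 - k) % 3) 0) = 1 := by
    rw [← h.eB_hom b1 b2, e2, h.eB_zero]
  set a := eB v g s w (threeList.getD k 0) with ha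
  have hb' : eB v g s w (threeList.getD ((3 - k) % 3) 0) = a⁻¹ := (inv_eq_of_mul_eq_one_right z).symm
  have cy : y * a = a * y := by
    have := h.th_eq b1 (by rw [e3]; exact b1)
    rwa [e3] at this
  have hp : eB v g s w (preList.getD (k + 2) 0) = a * u * a⁻¹ := by
    rw [← e1, h.eB_hom (mulB_bound b1 p2) b2, h.eB_hom b1 p2, hb']
  have hc : eB v g s w (braidC k) = a * eB v g s w rhoI * u * a⁻¹ := by
    rw [braidC, h.eB_hom (mulB_bound (mulB_bound b1 hr) p2) b2, h.eB_hom (mulB_bound b1 hr) p2,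
      h.eB_hom b1 hr, hb']
  have cy' : a⁻¹ * y = y * a⁻¹ := by
    calc a⁻¹ * y = a⁻¹ * (y * a) * a⁻¹ := by group
      _ = y * a⁻¹ := by rw [cy]; group
  rw [hp, hc]
  calc y * (a * u * a⁻¹) * y = y * a * u * (a⁻¹ * y) := by group
    _ = a * (y * u * y) * a⁻¹ := by rw [cy, cy']; group
    _ = a * eB v g s w rhoI * u * (y * u) * a⁻¹ := by rw [hyuy]; group
    _ = a * eB v g s w rhoI * u * (y * (a⁻¹ * a)) * u * a⁻¹ := by rw [inv_mul_cancel]; group
    _ = a * eB v g s w rhoI * u * (y * a⁻¹) * (a * u * a⁻¹) := by group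
    _ = _ := by rw [← cy']; group

theorem HRel.xx {m n : ℕ} (hm : m < 5) (hn : n < 5) : xRep v g s w y m * xRep v g s w y n =
    eH v g s w y (word xxTab (5 * m + n)) := by
  have hk := allUpTo_spec (allUpTo_spec xx_ok hm) hn
  unfold xxOK at hk
  have bf : ∀ p q : ℕ, p ≠ q → Nat.beq p q = false := fun p q hpq => by
    cases hb : Nat.beq p q
    · rfl
    · exact absurd (Nat.eq_of_beq_eq_true hb) hpq
  have split : ∀ k, eH v g s w y (k * 1536) = xRep v g s w y k := fun k => by
    rw [eH, Nat.mul_div_cancel _ (by norm_num), Nat.mul_mod_left, h.eB_zero, mul_one]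
  by_cases m0 : m = 0
  · subst m0
    simp only [Nat.beq_refl, cond_true, Nat.beq_eq] at hk
    rw [hk, split, xRep, if_pos rfl, one_mul]
  rw [bf m 0 m0] at hk
  by_cases n0 : n = 0
  · subst n0
    simp only [cond_false, Nat.beq_refl, cond_true, Nat.beq_eq] at hk
    rw [hk, split, show xRep v g s w y 0 = 1 from if_pos rfl, mul_one]
  rw [bf n 0 n0] at hk
  have hx : xRep v g s w y m = eB v g s w (preList.getD m 0) * y := by rw [xRep, if_neg m0]
  have hxn : xRep v g s w y n = eB v g s w (preList.getD n 0) * y := by rw [xRep, if_neg n0]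
  by_cases n1 : n = 1
  · subst n1
    simp only [cond_false, Nat.beq_refl, cond_true, Nat.beq_eq] at hk
    rw [hk, eH, Nat.div_eq_of_lt (pre_lt hm), Nat.mod_eq_of_lt (pre_lt hm), hx, hxn, three_ok.2.2, h.eB_zero,
      one_mul, mul_assoc, h.y2, mul_one, xRep, if_pos rfl, one_mul]
  rw [bf n 1 n1] at hk
  simp only [cond_false, Nat.beq_eq] at hk
  obtain ⟨k, rfl⟩ : ∃ k, n = k + 2 := ⟨n - 2, by omega⟩
  simp only [Nat.add_sub_cancel] at hk
  have hk3 : k < 3 := by omega
  have bb : braidC k < 1536 :=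
    mulB_bound (mulB_bound (mulB_bound (three_lt hk3) gens_lt.2.2.2.2.2) (pre_lt (by norm_num))) (three_lt (by omega))
  have hq := mulB_bound (pre_lt hm) bb
  have hl := h.lb (n := 1) (b := mulB (preList.getD m 0) (braidC k)) (by norm_num) hq
  have hx1 : xRep v g s w y 1 = y := by rw [xRep, if_neg (by norm_num), three_ok.2.2, h.eB_zero, one_mul]
  rw [mul_one] at hl
  rw [hx, hxn, hk, eH, mul_assoc, ← mul_assoc y, h.braid_k hk3, ← mul_assoc, ← mul_assoc,
    ← h.eB_hom (pre_lt hm) bb]
  conv_lhs => rw [← hx1]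
  rw [hl]
  have hz := mulB_bound (Nat.mod_lt (word lbTab (1536 + mulB (preList.getD m 0) (braidC k)))
    (show 0 < 1536 by norm_num)) (pre_lt hn)
  rw [show ∀ p q : ℕ, q < 1536 → (p * 1536 + q) / 1536 = p from fun p q hq => by omega,
    show ∀ p q : ℕ, q < 1536 → (p * 1536 + q) % 1536 = q from fun p q hq => by omega,
    h.eB_hom (Nat.mod_lt _ (by norm_num)) (pre_lt hn), mul_assoc]
  · exact hz
  · exact hz

/-- The relations give a homomorphism from the model. -/
theorem HRel.hom {a b : ℕ} (ha : a < 7680) (hb : b < 7680) :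
    eH v g s w y (mulC a b) = eH v g s w y a * eH v g s w y b := by
  have hl := h.lb (n := b / 1536) (b := a % 1536) (by omega) (Nat.mod_lt _ (by norm_num))
  have b1 := Nat.le_of_ble_eq_true (allUpTo_spec lb_bound (k := 1536 * (b / 1536) + a % 1536) (by omega))
  set p := word lbTab (1536 * (b / 1536) + a % 1536) with hp
  have hx := h.xx (m := a / 1536) (n := p / 1536) (by omega) (by omega)
  have b2 := Nat.le_of_ble_eq_true (allUpTo_spec xx_bound (k := 5 * (a / 1536) + p / 1536) (by omega))
  set q := word xxTab (5 * (a / 1536) + p / 1536) with hq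
  have hm := mulB_bound (mulB_bound (Nat.mod_lt q (show 0 < 1536 by norm_num))
    (Nat.mod_lt p (show 0 < 1536 by norm_num))) (Nat.mod_lt b (show 0 < 1536 by norm_num))
  have e : mulC a b = q / 1536 * 1536 + mulB (mulB (q % 1536) (p % 1536)) (b % 1536) := rfl
  rw [e, eH, show ∀ p q : ℕ, q < 1536 → (p * 1536 + q) / 1536 = p from fun p q hq => by omega,
    show ∀ p q : ℕ, q < 1536 → (p * 1536 + q) % 1536 = q from fun p q hq => by omega,
    h.eB_hom (mulB_bound (Nat.mod_lt _ (by norm_num)) (Nat.mod_lt _ (by norm_num))) (Nat.mod_lt _ (by norm_num)),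
    h.eB_hom (Nat.mod_lt _ (by norm_num)) (Nat.mod_lt _ (by norm_num))]
  · calc xRep v g s w y (q / 1536) * (eB v g s w (q % 1536) * eB v g s w (p % 1536) * eB v g s w (b % 1536))
        = eH v g s w y q * eB v g s w (p % 1536) * eB v g s w (b % 1536) := by rw [eH]; group
      _ = xRep v g s w y (a / 1536) * (xRep v g s w y (p / 1536) * eB v g s w (p % 1536)) *
          eB v g s w (b % 1536) := by rw [← hx]; group
      _ = xRep v g s w y (a / 1536) * (eB v g s w (a % 1536) * xRep v g s w y (b / 1536)) *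
          eB v g s w (b % 1536) := by rw [hl]
      _ = _ := by rw [eH, eH]; group
  · exact hm
  · exact hm

end Cfsg.Agent.HSUniq
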