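import Cfsg.Agent.Lib.HSUniq.HSearch
import Cfsg.Agent.Lib.HSUniq.Interface
import Cfsg.Agent.Lib.HSUniq.FivePoints

/-!
An element of the centraliser of the involution outside the second local subgroup, commuting with the element of
order three: it induces one of the automorphisms found by the search.
-/

set_option autoImplicit false
set_option maxRecDepth 30000

namespace Cfsg.Agent.HSUniq

variable {G : Type*} [Group G]

/-- The coordinates of the second local subgroup around the involution `t`. -/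
structure MData (t : G) (R : Subgroup G) (v g s w : G) (l : List ℕ) : Prop where
  m : MRel v g s w
  vv : v * v = t
  inj : ∀ a b, a < 10752 → b < 10752 → emM v g s w a = emM v g s w b → a = b
  memR : ∀ x, x ∈ R ↔ ∃ c ∈ l, eB v g s w c = x

/-- The quotient of the centraliser by its normal 2-subgroup. -/
structure CentQuot (t : G) (R : Subgroup G) (π : ↥(Subgroup.centralizer ({t} : Set G)) →* Equiv.Perm (Fin 5)) :
    Prop where
  le : R ≤ Subgroup.centralizer ({t} : Set G)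
  surj : Function.Surjective π
  ker : ∀ h : ↥(Subgroup.centralizer ({t} : Set G)), π h = 1 ↔ (h : G) ∈ R

/-- An element of the centraliser commuting with `s`, inducing an involution on the quotient. -/
structure YOk {t : G} (π : ↥(Subgroup.centralizer ({t} : Set G)) →* Equiv.Perm (Fin 5)) (s y : G) : Prop where
  mem : y ∈ Subgroup.centralizer ({t} : Set G)
  comm : y * s = s * y
  sq : π ⟨y, mem⟩ * π ⟨y, mem⟩ = 1
  ne : π ⟨y, mem⟩ ≠ 1

/-- The equations between `y` and the parameters found. -/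
structure YData (v g s w y : G) (D : RData) (th : ℕ → ℕ) (i j rho : ℕ) : Prop where
  data : ThData D th i j rho
  conj : ∀ c, D.mem c = true → y * eB v g s w c * y⁻¹ = eB v g s w (th c)
  ysq : y * y = eB v g s w (vpC i)
  yw : y * w * y⁻¹ = eB v g s w (vpC j) * w
  cube : y * eB v g s w 169 * (y * eB v g s w 169) * (y * eB v g s w 169) = eB v g s w rho

/-- The static facts on a candidate list. -/
def RData.facts (D : RData) : Bool :=
  [0, 1, 2, 3].all (fun i => D.mem (vpC i) && Nat.beq (cuC (vpC i)) (vpC ((4 - i) % 4)) &&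
    Nat.beq (cwC (vpC i)) (vpC ((4 - i) % 4)) && Nat.beq (mulB (vpC i) (vpC ((4 - i) % 4))) 0) &&
  D.els.all (fun x => !(Nat.beq (csC x) x) || [0, 384, 768, 1152].contains x) &&
  D.els.all (fun x => !(Nat.beq (mulB (mulB (mulB 21 x) (mulB 21 x)) (mulB 21 x)) 0) ||
    D.els.any (fun q => Nat.beq (mulB q 21) (mulB (mulB 21 x) q))) &&
  D.els.all (fun x => Nat.beq (mulB 384 x) (mulB x 384)) &&
  D.els.all (fun x => !(D.gens.all fun g => Nat.beq (mulB x g) (mulB g x)) || [0, 384, 768, 1152].contains x) &&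
  !(D.mem 1) && !(D.mem 21) && !(D.mem 169) && !(D.mem (mulB 1 169)) &&
  D.mem (mulB (mulB 1 169) (mulB 1 169)) &&
  !(D.mem (mulB (mulB 21 169) (mulB 21 169))) &&
  D.mem (mulB (mulB (mulB 21 169) (mulB 21 169)) (mulB (mulB 21 169) (mulB 21 169))) &&
  D.mem 48 && D.mem 0 && D.els.all (fun x => D.mem (csC x) && D.mem (cwC x) && D.mem (cuC x) && D.mem (mulB 384 x))

theorem facts_first : rData.facts = true := by decide +kernel

theorem facts_second : rData'.facts = true := by decide +kernel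

theorem b_checks : mulB 21 22 = 0 ∧ mulB 22 21 = 0 ∧ mulB 1 1 = 0 ∧ mulB 169 169 = 0 ∧ mulB 48 48 = 0 ∧
    mulB 48 1 = 49 ∧ mulB 49 169 = mulB 169 49 ∧ mulB 21 21 = 22 ∧ mulB 1 21 = mulB 22 1 ∧
    mulB (mulB 1 21) 1 = 22 ∧ mulB (mulB 21 21) 21 = 0 := by decide +kernel

theorem cb_check : allUpTo (fun c => !(Nat.beq (csC c) c) ||
    [0, 384, 768, 1152].any (fun r => [0, 21, 22].any fun k => Nat.beq c (mulB r k))) 1536 = true := by
  decide +kernel

theorem cent_check : allUpTo (fun c => Nat.beq (mulM (toM c) (toM 768)) (mulM (toM 768) (toM c))) 1536 = true := by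
  decide +kernel

theorem toM_gens : toM 768 = 32 * 168 ∧ toM 384 = 16 * 168 ∧ toM 21 = 1 ∧ toM 1 = 21 := by decide

theorem toM_inj_check : allUpTo (fun a => allUpTo (fun b => !(Nat.beq (blList.getD a 0) (blList.getD b 0)) ||
    Nat.beq a b) 24) 24 = true := by decide +kernel

theorem toM_inj {a b : ℕ} (ha : a < 1536) (hb : b < 1536) (h : toM a = toM b) : a = b := by
  have h1 := allUpTo_spec toM_h (show a % 24 < 24 by omega)
  have h2 := allUpTo_spec toM_h (show b % 24 < 24 by omega)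
  simp only [Bool.and_eq_true, Nat.blt_eq] at h1 h2
  have b1 := h1.1.2
  have b2 := h2.1.2
  unfold toM at h
  have e : blList.getD (a % 24) 0 = blList.getD (b % 24) 0 := by omega
  have h3 := allUpTo_spec (allUpTo_spec toM_inj_check (show a % 24 < 24 by omega)) (show b % 24 < 24 by omega)
  rw [e] at h3
  simp only [Nat.beq_refl, Bool.not_true, Bool.false_or, Nat.beq_eq] at h3
  omega

theorem eB_v (v g s w : G) : eB v g s w 384 = v ∧ eB v g s w 21 = s ∧ eB v g s w 1 = w ∧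
    eB v g s w 768 = v * v := by
  simp [eB, toM_gens.1, toM_gens.2.1, toM_gens.2.2.1, toM_gens.2.2.2, emM, mvec, sig, frob, pow_two]

variable {t : G} {R : Subgroup G} {v g s w : G} {l : List ℕ} (hM : MData t R v g s w l)
include hM

theorem MData.eB_inj {a b : ℕ} (ha : a < 1536) (hb : b < 1536) (h : eB v g s w a = eB v g s w b) : a = b :=
  toM_inj ha hb (hM.inj _ _ (toM_lt ha) (toM_lt hb) h)

theorem MData.eB_mem {c : ℕ} (hc : c < 1536) : eB v g s w c ∈ Subgroup.centralizer ({t} : Set G) := by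
  rw [Subgroup.mem_centralizer_singleton_iff, ← hM.vv, ← (eB_v v g s w).2.2.2, eB, eB,
    ← (hM.m.hom (toM_lt hc) (toM_lt (by norm_num))).1, ← (hM.m.hom (toM_lt (by norm_num)) (toM_lt hc)).1,
    Nat.eq_of_beq_eq_true (allUpTo_spec cent_check hc)]

theorem MData.eB_cs {c : ℕ} (hc : c < 1536) : eB v g s w (csC c) = s * eB v g s w c * s⁻¹ := by
  have e : eB v g s w 22 = s⁻¹ := by
    refine eq_inv_of_mul_eq_one_right ?_
    have h1 := hM.m.eB_hom (show 21 < 1536 by norm_num) (show 22 < 1536 by norm_num)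
    rw [b_checks.1, hM.m.eB_zero, (eB_v v g s w).2.1] at h1
    exact h1.symm
  rw [csC, hM.m.eB_hom (mulB_bound (by norm_num) hc) (by norm_num), hM.m.eB_hom (by norm_num) hc, e,
    (eB_v v g s w).2.1]

theorem MData.eB_cw {c : ℕ} (hc : c < 1536) : eB v g s w (cwC c) = w * eB v g s w c * w := by
  rw [cwC, hM.m.eB_hom (mulB_bound (by norm_num) hc) (by norm_num), hM.m.eB_hom (by norm_num) hc,
    (eB_v v g s w).2.2.1]

theorem MData.eB_cu {c : ℕ} (hc : c < 1536) :
    eB v g s w (cuC c) = eB v g s w 169 * eB v g s w c * eB v g s w 169 := by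
  rw [cuC, hM.m.eB_hom (mulB_bound (by norm_num) hc) (by norm_num), hM.m.eB_hom (by norm_num) hc]

variable {D : RData} (hD : D.wf l = true) (hF : D.facts = true)
include hD

theorem MData.mem_lt {c : ℕ} (h : D.mem c = true) : c < 1536 := by
  simp only [RData.mem, Bool.and_eq_true, Nat.blt_eq] at h
  exact h.1

theorem MData.mem_R {c : ℕ} (hc : c < 1536) : eB v g s w c ∈ R ↔ D.mem c = true := by
  obtain ⟨-, -, -, -, -, hl, -⟩ := RData.wf_spec hD
  constructor
  · intro h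
    obtain ⟨d, hd, e⟩ := (hM.memR _).1 h
    have hd' := (hl d).2 hd
    rwa [← hM.eB_inj (hM.mem_lt hD hd') hc e]
  · exact fun h => (hM.memR _).2 ⟨c, (hl c).1 h, rfl⟩

theorem MData.code_R {x : G} (h : x ∈ R) : ∃ c, D.mem c = true ∧ eB v g s w c = x := by
  obtain ⟨-, -, -, -, -, hl, -⟩ := RData.wf_spec hD
  obtain ⟨d, hd, e⟩ := (hM.memR _).1 h
  exact ⟨d, (hl d).2 hd, e⟩

theorem MData.mem_els {x : ℕ} (h : D.mem x = true) : x ∈ D.els := by
  obtain ⟨he, -, -, -, hx, -, -⟩ := RData.wf_spec hD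
  obtain ⟨h1, h2⟩ := hx x h
  rw [← h2, List.getD_eq_getElem _ _ (by omega : byte D.ix x < D.els.length)]
  exact List.getElem_mem _

variable {π : ↥(Subgroup.centralizer ({t} : Set G)) →* Equiv.Perm (Fin 5)} (hπ : CentQuot t R π)
include hπ hF

omit hM hD hF in
theorem CentQuot.mem_of_eq {a b : G} (ha : a ∈ Subgroup.centralizer ({t} : Set G))
    (hb : b ∈ Subgroup.centralizer ({t} : Set G)) (h : π ⟨a, ha⟩ = π ⟨b, hb⟩) : a * b⁻¹ ∈ R :=
  (hπ.ker ⟨a * b⁻¹, mul_mem ha (inv_mem hb)⟩).1 (by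
    rw [show (⟨a * b⁻¹, _⟩ : ↥(Subgroup.centralizer ({t} : Set G))) = ⟨a, ha⟩ * ⟨b, hb⟩⁻¹ from rfl,
      map_mul, map_inv, h, mul_inv_cancel])

theorem MData.fixed_s {x : G} (hx : x ∈ R) (hs : s * x = x * s) : ∃ i, i < 4 ∧ x = eB v g s w (vpC i) := by
  obtain ⟨c, hc, rfl⟩ := hM.code_R hD hx
  have hlt := hM.mem_lt hD hc
  have hfix : csC c = c := by
    refine hM.eB_inj (mulB_bound (mulB_bound (by norm_num) hlt) (by norm_num)) hlt ?_
    rw [hM.eB_cs hlt, hs, mul_inv_cancel_right]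
  simp only [RData.facts, Bool.and_eq_true] at hF
  obtain ⟨⟨⟨⟨⟨⟨⟨⟨⟨⟨⟨⟨⟨⟨-, h1⟩, -⟩, -⟩, -⟩, -⟩, -⟩, -⟩, -⟩, -⟩, -⟩, -⟩, -⟩, -⟩, -⟩ := hF
  have h2 := List.all_eq_true.1 h1 c (hM.mem_els hD hc)
  rw [hfix] at h2
  simp only [Nat.beq_refl, Bool.not_true, Bool.false_or, List.contains_iff_mem, List.mem_cons,
    List.not_mem_nil, or_false] at h2
  rcases h2 with rfl | rfl | rfl | rfl
  exacts [⟨0, by norm_num, rfl⟩, ⟨1, by norm_num, rfl⟩, ⟨2, by norm_num, rfl⟩, ⟨3, by norm_num, rfl⟩]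

theorem MData.image_facts : π ⟨s, (eB_v v g s w).2.1 ▸ hM.eB_mem (by norm_num)⟩ ≠ 1 ∧
    π ⟨w, (eB_v v g s w).2.2.1 ▸ hM.eB_mem (by norm_num)⟩ ≠ 1 ∧
    ∀ c, (hc : c < 1536) → (π ⟨eB v g s w c, hM.eB_mem hc⟩ = 1 ↔ D.mem c = true) := by
  have hk : ∀ c, (hc : c < 1536) → (π ⟨eB v g s w c, hM.eB_mem hc⟩ = 1 ↔ D.mem c = true) := fun c hc =>
    (hπ.ker _).trans (hM.mem_R hD hc)
  simp only [RData.facts, Bool.and_eq_true, Bool.not_eq_true'] at hF
  obtain ⟨⟨⟨⟨⟨⟨⟨⟨⟨⟨⟨⟨⟨⟨-, -⟩, -⟩, -⟩, -⟩, h1⟩, h21⟩, -⟩, -⟩, -⟩, -⟩, -⟩, -⟩, -⟩, -⟩ := hF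
  refine ⟨fun e => ?_, fun e => ?_, hk⟩
  · have := (hk 21 (by norm_num)).1 (by simp only [(eB_v v g s w).2.1]; exact e)
    rw [h21] at this
    exact Bool.noConfusion this
  · have := (hk 1 (by norm_num)).1 (by simp only [(eB_v v g s w).2.2.1]; exact e)
    rw [h1] at this
    exact Bool.noConfusion this

theorem MData.exists_yok : ∃ y, YOk π s y := by
  have hsm : s ∈ Subgroup.centralizer ({t} : Set G) := (eB_v v g s w).2.1 ▸ hM.eB_mem (by norm_num)
  have x3 : π ⟨s, hsm⟩ * π ⟨s, hsm⟩ * π ⟨s, hsm⟩ = 1 := by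
    rw [← map_mul, ← map_mul, show (⟨s, hsm⟩ * ⟨s, hsm⟩ * ⟨s, hsm⟩ : ↥(Subgroup.centralizer ({t} : Set G))) = 1
      from Subtype.ext (show s * s * s = 1 by rw [← pow_two, ← pow_succ, hM.m.l.s3]), map_one]
  obtain ⟨⟨z, z2, z1, zx⟩, -⟩ := five_points _ x3 (hM.image_facts hD hF hπ).1
  obtain ⟨⟨y0, hy0⟩, rfl⟩ := hπ.surj z
  have hr : s⁻¹ * (y0 * s * y0⁻¹) ∈ R := by
    refine (hπ.ker ⟨s⁻¹ * (y0 * s * y0⁻¹), mul_mem (inv_mem hsm) (mul_mem (mul_mem hy0 hsm) (inv_mem hy0))⟩).1 ?_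
    rw [show (⟨s⁻¹ * (y0 * s * y0⁻¹), _⟩ : ↥(Subgroup.centralizer ({t} : Set G))) =
      ⟨s, hsm⟩⁻¹ * (⟨y0, hy0⟩ * ⟨s, hsm⟩ * ⟨y0, hy0⟩⁻¹) from rfl]
    simp only [map_mul, map_inv]
    rw [← zx, mul_inv_cancel_right, inv_mul_cancel]
  obtain ⟨c, hc, ec⟩ := hM.code_R hD hr
  have hlt := hM.mem_lt hD hc
  have e1 : eB v g s w (mulB 21 c) = y0 * s * y0⁻¹ := by
    rw [hM.m.eB_hom (by norm_num) hlt, ec, (eB_v v g s w).2.1, mul_inv_cancel_left]
  have hb := mulB_bound (show 21 < 1536 by norm_num) hlt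
  have hcube : mulB (mulB (mulB 21 c) (mulB 21 c)) (mulB 21 c) = 0 := by
    refine hM.eB_inj (mulB_bound (mulB_bound hb hb) hb) (by norm_num) ?_
    rw [hM.m.eB_hom (mulB_bound hb hb) hb, hM.m.eB_hom hb hb, e1, hM.m.eB_zero]
    calc y0 * s * y0⁻¹ * (y0 * s * y0⁻¹) * (y0 * s * y0⁻¹) = y0 * s ^ 3 * y0⁻¹ := by
          simp [pow_succ, mul_assoc]
      _ = 1 := by rw [hM.m.l.s3]; group
  simp only [RData.facts, Bool.and_eq_true] at hF
  obtain ⟨⟨⟨⟨⟨⟨⟨⟨⟨⟨⟨⟨⟨⟨-, -⟩, h1⟩, -⟩, -⟩, -⟩, -⟩, -⟩, -⟩, -⟩, -⟩, -⟩, -⟩, -⟩, -⟩ := hF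
  have h2 := List.all_eq_true.1 h1 c (hM.mem_els hD hc)
  rw [hcube] at h2
  simp only [Nat.beq_refl, Bool.not_true, Bool.false_or, List.any_eq_true, Nat.beq_eq] at h2
  obtain ⟨q, hq, eq⟩ := h2
  obtain ⟨he, -, -, hels, -, -, -⟩ := RData.wf_spec hD
  obtain ⟨n, hn, rfl⟩ := List.mem_iff_getElem.1 hq
  have hqm := (hels n (by omega)).1
  rw [List.getD_eq_getElem _ _ hn] at hqm
  have hql := hM.mem_lt hD hqm
  have hqR := (hM.mem_R hD hql).2 hqm
  have e2 : eB v g s w D.els[n] * s = y0 * s * y0⁻¹ * eB v g s w D.els[n] := by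
    have h3 := hM.m.eB_hom hql (show 21 < 1536 by norm_num)
    rw [eq, hM.m.eB_hom hb hql, e1, (eB_v v g s w).2.1] at h3
    exact h3.symm
  have hm : (eB v g s w D.els[n])⁻¹ * y0 ∈ Subgroup.centralizer ({t} : Set G) :=
    mul_mem (inv_mem (hπ.le hqR)) hy0
  have him : π ⟨_, hm⟩ = π ⟨y0, hy0⟩ := by
    rw [show (⟨_, hm⟩ : ↥(Subgroup.centralizer ({t} : Set G))) = ⟨_, hπ.le hqR⟩⁻¹ * ⟨y0, hy0⟩ from rfl, map_mul,
      map_inv, (hπ.ker ⟨_, hπ.le hqR⟩).2 hqR, inv_one, one_mul]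
  refine ⟨_, hm, ?_, by rw [him]; exact z2, by rw [him]; exact z1⟩
  calc (eB v g s w D.els[n])⁻¹ * y0 * s = (eB v g s w D.els[n])⁻¹ * (y0 * s * y0⁻¹ * eB v g s w D.els[n]) *
        (eB v g s w D.els[n])⁻¹ * y0 := by group
    _ = s * ((eB v g s w D.els[n])⁻¹ * y0) := by rw [← e2]; group

/-- Every such element has parameters. -/
theorem MData.exists_ydata {y : G} (hy : YOk π s y) : ∃ th i j rho, YData v g s w y D th i j rho := by
  classical
  obtain ⟨hym, hys, y2, y1⟩ := hy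
  obtain ⟨es, -, -, hwfels, -, -, hgens⟩ := RData.wf_spec hD
  obtain ⟨hvs, hss, hws, -⟩ := eB_v v g s w
  have hsm : s ∈ Subgroup.centralizer ({t} : Set G) := hss ▸ hM.eB_mem (by norm_num)
  have hwm : w ∈ Subgroup.centralizer ({t} : Set G) := hws ▸ hM.eB_mem (by norm_num)
  obtain ⟨x1, w1, hk⟩ := hM.image_facts hD hF hπ
  have hfix := fun x (hx : x ∈ R) hc => hM.fixed_s hD hF hπ hx hc
  simp only [RData.facts, Bool.and_eq_true, Bool.not_eq_true'] at hF
  obtain ⟨⟨⟨⟨⟨⟨⟨⟨⟨⟨⟨⟨⟨⟨hvp, -⟩, -⟩, hcen⟩, hctr⟩, -⟩, -⟩, h169⟩, hn1⟩, hwu2⟩, hsu2⟩, hsu4⟩, h48⟩, h0⟩, hcl⟩ := hF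
  have clo : ∀ x, D.mem x = true → D.mem (csC x) = true ∧ D.mem (cwC x) = true ∧ D.mem (cuC x) = true ∧
      D.mem (mulB 384 x) = true := fun x hx => by
    simpa [and_assoc] using List.all_eq_true.1 hcl x (hM.mem_els hD hx)
  have vp : ∀ i, i < 4 → D.mem (vpC i) = true ∧ cuC (vpC i) = vpC ((4 - i) % 4) ∧
      cwC (vpC i) = vpC ((4 - i) % 4) ∧ mulB (vpC i) (vpC ((4 - i) % 4)) = 0 := fun i hi => by
    have := List.all_eq_true.1 hvp i (by interval_cases i <;> simp)
    simpa [and_assoc] using this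
  have vlt : ∀ i, vpC i < 1536 := fun i => by
    by_cases hi : i < 4
    · exact hM.mem_lt hD (vp i hi).1
    · rw [vpC, List.getD_eq_default _ _ (by simp; omega)]; norm_num
  -- the action on the 2-core
  have hconj : ∀ c, D.mem c = true → ∃ d, D.mem d = true ∧ eB v g s w d = y * eB v g s w c * y⁻¹ := fun c hc => by
    refine hM.code_R hD ?_
    have hlt : c < 1536 := hM.mem_lt hD hc
    have hm := hM.eB_mem hlt
    refine (hπ.ker ⟨_, mul_mem (mul_mem hym hm) (inv_mem hym)⟩).1 ?_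
    rw [show (⟨y * eB v g s w c * y⁻¹, _⟩ : ↥(Subgroup.centralizer ({t} : Set G))) =
      ⟨y, hym⟩ * ⟨_, hm⟩ * ⟨y, hym⟩⁻¹ from rfl, map_mul, map_mul, map_inv, (hk c hlt).2 hc, mul_one, mul_inv_cancel]
  let th : ℕ → ℕ := fun c => if h : D.mem c = true then Classical.choose (hconj c h) else c
  have hth : ∀ c, D.mem c = true → D.mem (th c) = true ∧ eB v g s w (th c) = y * eB v g s w c * y⁻¹ := fun c hc => by
    simp only [th, dif_pos hc]
    exact Classical.choose_spec (hconj c hc)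
  have inj : ∀ a b, D.mem a = true → D.mem b = true → eB v g s w a = eB v g s w b → a = b := fun a b ha hb =>
    hM.eB_inj (hM.mem_lt hD ha) (hM.mem_lt hD hb)
  have mulmem : ∀ a b, D.mem a = true → D.mem b = true → D.mem (mulB a b) = true := fun a b ha hb => by
    refine (hM.mem_R hD (mulB_bound (hM.mem_lt hD ha) (hM.mem_lt hD hb))).1 ?_
    rw [hM.m.eB_hom (hM.mem_lt hD ha) (hM.mem_lt hD hb)]
    exact mul_mem ((hM.mem_R hD (hM.mem_lt hD ha)).2 ha) ((hM.mem_R hD (hM.mem_lt hD hb)).2 hb)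
  have hom : ∀ a b, D.mem a = true → D.mem b = true → th (mulB a b) = mulB (th a) (th b) := fun a b ha hb => by
    obtain ⟨a1, a2⟩ := hth a ha
    obtain ⟨b1, b2⟩ := hth b hb
    obtain ⟨c1, c2⟩ := hth _ (mulmem a b ha hb)
    refine inj _ _ c1 (mulmem _ _ a1 b1) ?_
    rw [c2, hM.m.eB_hom (hM.mem_lt hD ha) (hM.mem_lt hD hb), hM.m.eB_hom (hM.mem_lt hD a1) (hM.mem_lt hD b1),
      a2, b2]
    group
  have th_inj : ∀ a, D.mem a = true → th a = 0 → a = 0 := fun a ha e => by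
    obtain ⟨-, a2⟩ := hth a ha
    rw [e, hM.m.eB_zero, eq_comm, conj_eq_one_iff] at a2
    exact hM.eB_inj (hM.mem_lt hD ha) (by norm_num) (a2.trans hM.m.eB_zero.symm)
  -- the square
  have hy2R : y * y ∈ R := (hπ.ker ⟨y * y, mul_mem hym hym⟩).1 ((map_mul π ⟨y, hym⟩ ⟨y, hym⟩).trans y2)
  obtain ⟨i, hi, ei⟩ := hfix (y * y) hy2R (by rw [← mul_assoc, ← hys, mul_assoc, ← hys, ← mul_assoc])
  obtain ⟨him, hicu, -, hiinv⟩ := vp i hi
  -- the three images on five points
  set X := π ⟨s, hsm⟩ with hX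
  set Y := π ⟨y, hym⟩ with hY
  set W := π ⟨w, hwm⟩ with hW
  have hu : eB v g s w 169 * eB v g s w 169 = 1 := by
    rw [← hM.m.eB_hom (by norm_num) (by norm_num), b_checks.2.2.2.1, hM.m.eB_zero]
  have hum := hM.eB_mem (show 169 < 1536 by norm_num)
  set U := π ⟨eB v g s w 169, hum⟩ with hU
  have img : ∀ a b, (ha : a < 1536) → (hb : b < 1536) →
      π ⟨eB v g s w a, hM.eB_mem ha⟩ * π ⟨eB v g s w b, hM.eB_mem hb⟩ =
        π ⟨eB v g s w (mulB a b), hM.eB_mem (mulB_bound ha hb)⟩ := fun a b ha hb => by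
    rw [← map_mul]; congr 1; exact Subtype.ext (hM.m.eB_hom ha hb).symm
  have hX21 : X = π ⟨eB v g s w 21, hM.eB_mem (by norm_num)⟩ := by simp only [X, hss]
  have hW1 : W = π ⟨eB v g s w 1, hM.eB_mem (by norm_num)⟩ := by simp only [W, hws]
  have x3 : X * X * X = 1 := by
    rw [hX21, img _ _ (by norm_num) (by norm_num), img _ _ (mulB_bound (by norm_num) (by norm_num)) (by norm_num)]
    refine (hk _ (mulB_bound (mulB_bound (by norm_num) (by norm_num)) (by norm_num))).2 ?_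
    rw [b_checks.2.2.2.2.2.2.2.2.2.2]; exact h0
  have xy : X * Y = Y * X := by rw [hX, hY, ← map_mul, ← map_mul]; congr 1; exact Subtype.ext hys.symm
  have w2 : W * W = 1 := by
    rw [hW1, img _ _ (by norm_num) (by norm_num)]
    refine (hk _ (mulB_bound (by norm_num) (by norm_num))).2 ?_
    rw [b_checks.2.2.1]; exact h0
  have wxw : W * X * W = X * X := by
    rw [hW1, hX21, img _ _ (by norm_num) (by norm_num), img _ _ (mulB_bound (by norm_num) (by norm_num)) (by norm_num),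
      img _ _ (by norm_num) (by norm_num)]
    simp only [b_checks.2.2.2.2.2.2.2.2.2.1, b_checks.2.2.2.2.2.2.2.1]
  obtain ⟨-, h5⟩ := five_points X x3 x1
  obtain ⟨wy, h5u⟩ := h5 Y y2 y1 xy W w2 w1 wxw
  have u2 : U * U = 1 := by rw [hU, ← map_mul]; exact (congrArg π (Subtype.ext hu)).trans (map_one π)
  have wu : W * U = U * W := by
    have e : W * U * (W * U) = 1 := by
      rw [hW1, hU, img _ _ (by norm_num) (by norm_num),
        img _ _ (mulB_bound (by norm_num) (by norm_num)) (mulB_bound (by norm_num) (by norm_num))]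
      exact (hk _ (mulB_bound (mulB_bound (by norm_num) (by norm_num)) (mulB_bound (by norm_num) (by norm_num)))).2
        hwu2
    calc W * U = W * U * (W * U) * (U * (W * W) * U * (U * W)) := by
          simp only [mul_assoc]; simp [w2, ← mul_assoc U U, u2, ← mul_assoc W W]
      _ = U * W := by rw [e, w2, mul_one, u2]; simp
  have une : U ≠ W := by
    intro e
    have := (hk (mulB 1 169) (mulB_bound (by norm_num) (by norm_num))).1 (by
      rw [← img _ _ (by norm_num) (by norm_num), ← hW1, ← hU, e, w2])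
    rw [hn1] at this; exact Bool.noConfusion this
  have yu3 : Y * U * (Y * U) * (Y * U) = 1 := by
    refine h5u U u2 une wu ?_ ?_
    · rw [hX21, hU, img _ _ (by norm_num) (by norm_num),
        img _ _ (mulB_bound (by norm_num) (by norm_num)) (mulB_bound (by norm_num) (by norm_num))]
      intro e
      have := (hk _ (mulB_bound (mulB_bound (by norm_num) (by norm_num))
        (mulB_bound (by norm_num) (by norm_num)))).1 e
      rw [hsu2] at this; exact Bool.noConfusion this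
    · rw [hX21, hU, img _ _ (by norm_num) (by norm_num),
        img _ _ (mulB_bound (by norm_num) (by norm_num)) (mulB_bound (by norm_num) (by norm_num)),
        img _ _ (mulB_bound (mulB_bound (by norm_num) (by norm_num)) (mulB_bound (by norm_num) (by norm_num)))
          (mulB_bound (mulB_bound (by norm_num) (by norm_num)) (mulB_bound (by norm_num) (by norm_num)))]
      exact (hk _ (mulB_bound (mulB_bound (mulB_bound (by norm_num) (by norm_num)) (mulB_bound (by norm_num) (by norm_num)))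
        (mulB_bound (mulB_bound (by norm_num) (by norm_num)) (mulB_bound (by norm_num) (by norm_num))))).2 hsu4
  obtain ⟨rho, hrho, erho⟩ := hM.code_R hD (x := y * eB v g s w 169 * (y * eB v g s w 169) * (y * eB v g s w 169))
    ((hπ.ker ⟨_, mul_mem (mul_mem (mul_mem hym hum) (mul_mem hym hum)) (mul_mem hym hum)⟩).1 (by
      rw [show (⟨y * eB v g s w 169 * (y * eB v g s w 169) * (y * eB v g s w 169), _⟩ :
          ↥(Subgroup.centralizer ({t} : Set G))) = ⟨y, hym⟩ * ⟨_, hum⟩ * (⟨y, hym⟩ * ⟨_, hum⟩) *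
          (⟨y, hym⟩ * ⟨_, hum⟩) from rfl]
      simp only [map_mul]; exact yu3))
  -- the conjugate of `w`
  have ws : w * s = s * s * w := by rw [hM.m.l.ws, pow_two]
  have s3' : s * s * s = 1 := by rw [← pow_two, ← pow_succ, hM.m.l.s3]
  have hwinv : w⁻¹ = w := inv_eq_of_mul_eq_one_right hM.m.l.w2
  have hjR : y * w * y⁻¹ * w ∈ R := by
    have h1 := hπ.mem_of_eq (mul_mem hym hwm) (mul_mem hwm hym)
      ((map_mul π ⟨y, hym⟩ ⟨w, hwm⟩).trans (wy.symm.trans (map_mul π ⟨w, hwm⟩ ⟨y, hym⟩).symm))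
    rwa [show y * w * (w * y)⁻¹ = y * w * y⁻¹ * w by rw [mul_inv_rev, hwinv]; group] at h1
  have cys : Commute y s := hys
  have a1 : y * w * y⁻¹ * s = s * s * (y * w * y⁻¹) := by
    calc y * w * y⁻¹ * s = y * w * (s * y⁻¹) := by rw [mul_assoc, cys.inv_left.eq]
      _ = y * (w * s) * y⁻¹ := by group
      _ = y * (s * s * w) * y⁻¹ := by rw [ws]
      _ = y * (s * s) * w * y⁻¹ := by group
      _ = _ := by rw [(cys.mul_right cys).eq]; group
  obtain ⟨j, hj, ej⟩ := hfix _ hjR (by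
    symm
    calc y * w * y⁻¹ * w * s = y * w * y⁻¹ * (s * s * w) := by rw [mul_assoc, ws]
      _ = y * w * y⁻¹ * s * (s * w) := by group
      _ = s * s * (y * w * y⁻¹) * (s * w) := by rw [a1]
      _ = s * s * (y * w * y⁻¹ * s) * w := by group
      _ = s * s * (s * s * (y * w * y⁻¹)) * w := by rw [a1]
      _ = s * (s * s * s) * (y * w * y⁻¹ * w) := by group
      _ = _ := by rw [s3', mul_one])
  have lt := fun {c : ℕ} (hc : D.mem c = true) => hM.mem_lt hD hc
  have ecu := fun {c : ℕ} (hc : D.mem c = true) => hM.eB_cu (lt hc)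
  have mcu := fun {c : ℕ} (hc : D.mem c = true) => (clo c hc).2.2.1
  have mth := fun {c : ℕ} (hc : D.mem c = true) => (hth c hc).1
  have eth := fun {c : ℕ} (hc : D.mem c = true) => (hth c hc).2
  have yw : y * w * y⁻¹ = eB v g s w (vpC j) * w := by
    rw [← ej, mul_assoc _ w w, hM.m.l.w2, mul_one]
  have vcomm : ∀ k, k < 4 → ∀ c, D.mem c = true →
      eB v g s w (vpC k) * eB v g s w c = eB v g s w c * eB v g s w (vpC k) := by
    intro k hk4 c hc
    have hv : Commute v (eB v g s w c) := by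
      have h3 := congrArg (eB v g s w) (Nat.eq_of_beq_eq_true (List.all_eq_true.1 hcen c (hM.mem_els hD hc)))
      rwa [hM.m.eB_hom (by norm_num) (lt hc), hM.m.eB_hom (lt hc) (by norm_num), hvs] at h3
    have e : eB v g s w (vpC k) = v ^ k := by
      have e768 : eB v g s w 768 = v ^ 2 := by rw [(eB_v v g s w).2.2.2, pow_two]
      interval_cases k
      · simpa [vpC] using hM.m.eB_zero
      · simpa [vpC] using hvs
      · simpa [vpC] using e768
      · have h3 := hM.m.eB_hom (show 768 < 1536 by norm_num) (show 384 < 1536 by norm_num)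
        rw [show mulB 768 384 = 1152 by decide +kernel, e768, hvs, ← pow_succ] at h3
        simpa [vpC] using h3
    rw [e]; exact (hv.pow_left k).eq
  have vinv : ∀ k, k < 4 → eB v g s w (vpC ((4 - k) % 4)) = (eB v g s w (vpC k))⁻¹ := fun k hk4 => by
    refine (inv_eq_of_mul_eq_one_right ?_).symm
    rw [← hM.m.eB_hom (vlt _) (vlt _), (vp k hk4).2.2.2, hM.m.eB_zero]
  have yvi : y * eB v g s w (vpC i) * y⁻¹ = eB v g s w (vpC i) := by rw [← ei]; group
  have yvi' : eB v g s w (vpC ((4 - i) % 4)) * y = y * eB v g s w (vpC ((4 - i) % 4)) := by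
    rw [vinv i hi, ← ei]; group
  -- the product of the two involutions
  set z := y * eB v g s w 169 with hz
  have zc : ∀ {c : ℕ}, D.mem c = true → eB v g s w (th (cuC c)) = z * eB v g s w c * z⁻¹ := fun hc => by
    rw [eth (mcu hc), ecu hc, hz, mul_inv_rev, inv_eq_of_mul_eq_one_right hu]; group
  have e48 : eB v g s w 48 * eB v g s w 48 = 1 := by
    rw [← hM.m.eB_hom (by norm_num) (by norm_num), b_checks.2.2.2.2.1, hM.m.eB_zero]
  have e49 : eB v g s w 49 = eB v g s w 48 * w := by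
    rw [← b_checks.2.2.2.2.2.1, hM.m.eB_hom (by norm_num) (by norm_num), hws]
  have e49u : eB v g s w 49 * eB v g s w 169 = eB v g s w 169 * eB v g s w 49 := by
    rw [← hM.m.eB_hom (by norm_num) (by norm_num), ← hM.m.eB_hom (by norm_num) (by norm_num),
      b_checks.2.2.2.2.2.2.1]
  have hq := mulmem _ _ (mulmem _ _ h48 (vp ((4 - j) % 4) (by omega)).1) (mth h48)
  have eq' : eB v g s w (mulB (mulB 48 (vpC ((4 - j) % 4))) (th 48)) =
      eB v g s w 49 * y * (eB v g s w 49)⁻¹ * y⁻¹ := by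
    have h3 : y * eB v g s w 48 * y⁻¹ = eB v g s w (th 48) := (eth h48).symm
    have h4 : w * (y * w * y⁻¹) = eB v g s w (vpC ((4 - j) % 4)) := by
      rw [yw, ← mul_assoc, ← hM.eB_cw (vlt j), (vp j hj).2.2.1]
    rw [hM.m.eB_hom (mulB_bound (by norm_num) (vlt _)) (lt (mth h48)), hM.m.eB_hom (by norm_num) (vlt _), ← h4, ← h3,
      e49, mul_inv_rev, hwinv, inv_eq_of_mul_eq_one_right e48]
    group
  refine ⟨th, i, j, rho, ⟨fun c hc => mth hc, th_inj, hom, ?_, ?_, ?_, ?_, hi, hj, hrho, ?_, ?_, ?_, ?_, ?_, hq,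
    ?_⟩, fun c hc => (eth hc).symm, ei, yw, erho.symm⟩
  · -- the centre
    have h384 : D.mem 384 = true := by have := (vp 1 (by norm_num)).1; simpa [vpC] using this
    have hsq : ∀ c, D.mem c = true → th (th c) = c := fun c hc => by
      refine inj _ _ (mth (mth hc)) hc ?_
      rw [eth (mth hc), eth hc]
      calc y * (y * eB v g s w c * y⁻¹) * y⁻¹ = y * y * eB v g s w c * (y * y)⁻¹ := by group
        _ = _ := by rw [ei, vcomm i hi c hc, mul_inv_cancel_right]
    have hmc := List.all_eq_true.1 hctr (th 384) (hM.mem_els hD (mth h384))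
    have hg : (D.gens.all fun g => Nat.beq (mulB (th 384) g) (mulB g (th 384))) = true := by
      refine List.all_eq_true.2 fun g hg => ?_
      have hgm := hgens g hg
      have e1 := hom 384 (th g) h384 (mth hgm)
      have e2 := hom (th g) 384 (mth hgm) h384
      rw [hsq g hgm] at e1 e2
      rw [Nat.beq_eq, ← e1, ← e2,
        Nat.eq_of_beq_eq_true (List.all_eq_true.1 hcen _ (hM.mem_els hD (mth hgm)))]
    rw [hg] at hmc
    simp only [Bool.not_true, Bool.false_or, List.contains_iff_mem, List.mem_cons, List.not_mem_nil,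
      or_false] at hmc
    rcases hmc with e | e | e | e
    · exact absurd (th_inj 384 h384 e) (by norm_num)
    · exact Or.inl e
    · exfalso
      have e3 := th_inj 768 ((show vpC 2 = 768 from rfl) ▸ (vp 2 (by norm_num)).1) (by
        rw [show 768 = mulB 384 384 by decide +kernel, hom _ _ h384 h384, e]; decide +kernel)
      norm_num at e3
    · exact Or.inr e
  · intro c hc
    refine inj _ _ (mth (mth hc)) hc ?_
    rw [eth (mth hc), eth hc]
    calc y * (y * eB v g s w c * y⁻¹) * y⁻¹ = y * y * eB v g s w c * (y * y)⁻¹ := by group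
      _ = _ := by rw [ei, vcomm i hi c hc, mul_inv_cancel_right]
  · intro c hc
    refine inj _ _ (mth (clo c hc).1) (clo _ (mth hc)).1 ?_
    rw [eth (clo c hc).1, hM.eB_cs (lt hc), hM.eB_cs (lt (mth hc)), eth hc]
    calc y * (s * eB v g s w c * s⁻¹) * y⁻¹ = y * s * eB v g s w c * (y * s)⁻¹ := by group
      _ = _ := by rw [hys]; group
  · intro c hc
    refine inj _ _ (mth (clo c hc).2.1) (clo _ (mth hc)).2.1 ?_
    rw [eth (clo c hc).2.1, hM.eB_cw (lt hc), hM.eB_cw (lt (mth hc))]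
    calc y * (w * eB v g s w c * w) * y⁻¹ = y * w * y⁻¹ * (y * eB v g s w c * y⁻¹) * (y * w⁻¹ * y⁻¹)⁻¹ := by group
      _ = eB v g s w (vpC j) * w * eB v g s w (th c) * (y * w * y⁻¹)⁻¹ := by rw [hwinv, yw, ← eth hc]
      _ = eB v g s w (vpC j) * (w * eB v g s w (th c) * w) * (eB v g s w (vpC j))⁻¹ := by
          rw [yw, mul_inv_rev, hwinv]; group
      _ = _ := by rw [← hM.eB_cw (lt (mth hc)), vcomm j hj _ (clo _ (mth hc)).2.1, mul_inv_cancel_right]
  · exact inj _ _ (mth him) him (by rw [eth him, yvi])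
  · have hjm := (vp j hj).1
    refine hM.eB_inj (mulB_bound (lt (mth hjm)) (mulB_bound (vlt j) (by norm_num)))
      (mulB_bound (mulB_bound (vlt i) (by norm_num)) (vlt _)) ?_
    rw [hM.m.eB_hom (lt (mth hjm)) (mulB_bound (vlt j) (by norm_num)), hM.m.eB_hom (vlt j) (by norm_num),
      hM.m.eB_hom (mulB_bound (vlt i) (by norm_num)) (vlt _), hM.m.eB_hom (vlt i) (by norm_num), hws, vinv i hi,
      eth hjm, ← yw, ← ei]
    calc y * eB v g s w (vpC j) * y⁻¹ * (y * w * y⁻¹) = y * (eB v g s w (vpC j) * w) * y⁻¹ := by group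
      _ = _ := by rw [← yw]; group
  · refine inj _ _ (mth (mcu hrho)) hrho ?_
    rw [zc hrho, erho]; group
  · refine inj _ _ (mulmem _ _ hrho (mcu hrho)) him ?_
    rw [hM.m.eB_hom (lt hrho) (lt (mcu hrho)), ecu hrho, erho, hz]
    set u := eB v g s w 169 with hu'
    have hvu : u * eB v g s w (vpC i) * u = eB v g s w (vpC ((4 - i) % 4)) := by
      rw [hu', ← ecu him, hicu]
    calc y * u * (y * u) * (y * u) * (u * (y * u * (y * u) * (y * u)) * u)
        = y * u * (y * u) * y * (u * u) * y * (u * y) * (u * y) * (u * u) := by group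
      _ = y * u * y * (u * (y * y) * u) * y * u * y := by rw [hu]; group
      _ = y * u * (y * eB v g s w (vpC ((4 - i) % 4))) * y * u * y := by rw [ei, hvu]; group
      _ = y * u * eB v g s w (vpC ((4 - i) % 4)) * (y * y) * u * y := by rw [← yvi']; group
      _ = y * (u * u) * y := by
          rw [ei, mul_assoc (y * u) _ (eB v g s w (vpC i)), vinv i hi, inv_mul_cancel]; group
      _ = _ := by rw [hu, mul_one, ei]
  · intro c hc
    have m1 := mth (mcu hc)
    have m2 := mth (mcu m1)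
    refine inj _ _ (mulmem _ _ (mth (mcu m2)) hrho) (mulmem _ _ hrho hc) ?_
    rw [hM.m.eB_hom (lt (mth (mcu m2))) (lt hrho), hM.m.eB_hom (lt hrho) (lt hc), zc m2, zc m1, zc hc, erho]
    group
  · intro q hqe
    subst hqe
    have m1 := mth (mcu hq)
    have m2 := mth (mcu m1)
    have m12 := mulmem _ _ hq m1
    have m123 := mulmem _ _ m12 m2
    have m4 := mulmem _ _ m123 hrho
    refine hM.eB_inj (mulB_bound (lt m4) (by norm_num)) (mulB_bound (by norm_num) (lt hrho)) ?_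
    rw [hM.m.eB_hom (lt m4) (by norm_num), hM.m.eB_hom (lt m123) (lt hrho), hM.m.eB_hom (lt m12) (lt m2),
      hM.m.eB_hom (lt hq) (lt m1), hM.m.eB_hom (by norm_num) (lt hrho), zc m1, zc hq, erho]
    set q := eB v g s w (mulB (mulB 48 (vpC ((4 - j) % 4))) (th 48))
    set e := eB v g s w 49
    have hqz : q * z = e * z * e⁻¹ := by
      calc q * z = e * y * e⁻¹ * eB v g s w 169 := by rw [eq', hz]; group
        _ = e * y * (e⁻¹ * (eB v g s w 169 * e)) * e⁻¹ := by group
        _ = _ := by rw [← e49u, hz]; group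
    calc q * (z * q * z⁻¹) * (z * (z * q * z⁻¹) * z⁻¹) * (z * z * z) * e
        = q * z * (q * z) * (q * z) * e := by group
      _ = _ := by rw [hqz]; group

end Cfsg.Agent.HSUniq
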