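import Mathlib.Data.Nat.Notation

/-!
The two candidates for the normal 2-subgroup of the centraliser inside the subgroup of order `1536`, as codes.
-/

set_option autoImplicit false

namespace Cfsg.Agent.HSUniq

/-- The normal 2-subgroup of the centraliser. -/
def rList : List ℕ := [0, 12, 14, 19, 48, 60, 62, 67, 192, 204, 206, 211, 240, 252, 254, 259, 384, 396, 398, 403, 432, 444, 446, 451, 576, 588, 590, 595, 624, 636, 638, 643, 768, 780, 782, 787, 816, 828, 830, 835, 960, 972, 974, 979, 1008, 1020, 1022, 1027, 1152, 1164, 1166, 1171, 1200, 1212, 1214, 1219, 1344, 1356, 1358, 1363, 1392, 1404, 1406, 1411]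

/-- The second candidate. -/
def rList' : List ℕ := [0, 43, 48, 91, 108, 134, 156, 182, 192, 235, 240, 283, 300, 326, 348, 374, 384, 427, 432, 475, 492, 518, 540, 566, 576, 619, 624, 667, 684, 710, 732, 758, 768, 811, 816, 859, 876, 902, 924, 950, 960, 1003, 1008, 1051, 1068, 1094, 1116, 1142, 1152, 1195, 1200, 1243, 1260, 1286, 1308, 1334, 1344, 1387, 1392, 1435, 1452, 1478, 1500, 1526]

end Cfsg.Agent.HSUniq
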