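import Cfsg.Agent.Lib.HSUniq.HSearchDefs
import Cfsg.Agent.Lib.HSUniq.LocalLists
import Mathlib.Tactic

/-!
Soundness of the search: an automorphism with the stated identities is among the parameters found.
-/

set_option autoImplicit false
set_option maxRecDepth 100000

namespace Cfsg.Agent.HSUniq

/-- The static checks of a candidate. -/
def RData.wf (D : RData) (l : List ℕ) : Bool :=
  Nat.beq D.els.length 64 && Nat.beq D.rows.length 63 && Nat.beq D.gens.length 5 && Nat.beq l.length 64 &&
  l.all D.mem && Nat.beq (D.els.getD 0 1) 0 &&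
  allUpTo (fun n => Nat.ble (D.rows.getD n (0, 0)).2 n && Nat.blt (D.rows.getD n (0, 0)).1 5 &&
    Nat.beq (D.els.getD (n + 1) 0) (mulB (D.els.getD (D.rows.getD n (0, 0)).2 0)
      (D.gens.getD (D.rows.getD n (0, 0)).1 0))) 63 &&
  allUpTo (fun x => !(D.mem x) || (Nat.beq (D.els.getD (byte D.ix x) 1536) x)) 1536 &&
  allUpTo (fun n => D.mem (D.els.getD n 1536) && Nat.beq (byte D.ix (D.els.getD n 1536)) n &&
    l.contains (D.els.getD n 1536)) 64 &&
  D.els.all (fun x => D.invs.contains x || Nat.beq x 0 || !(Nat.beq (mulB x x) 0)) &&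
  allUpTo (fun k => D.mem (D.gens.getD k 1536)) 5 &&
  allUpTo (fun n => allUpTo (fun k => D.mem (mulB (D.els.getD n 0) (D.gens.getD k 0))) 5) 64 &&
  Nat.beq (D.gens.getD 0 0) 384 && Nat.beq (D.gens.getD 3 0) (csC (D.gens.getD 1 0)) &&
  Nat.beq (D.gens.getD 4 0) (csC (D.gens.getD 2 0)) &&
  D.gens.all (fun g => D.mem (csC g) && D.mem (cwC g) && D.mem (cuC g)) &&
  D.els.all (fun x => D.mem (cuC x)) && D.mem 48 && [0, 1, 2, 3].all (fun i => D.mem (vpC i)) &&
  [1, 2].all (fun k => Nat.beq (mulB (D.gens.getD k 0) (D.gens.getD k 0)) 0 && !(Nat.beq (D.gens.getD k 0) 0))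

theorem wf_first : rData.wf rList = true := by decide +kernel

theorem wf_second : rData'.wf rList' = true := by decide +kernel

/-- The identities satisfied by the automorphism and the parameters. -/
structure ThData (D : RData) (th : ℕ → ℕ) (i j rho : ℕ) : Prop where
  mem : ∀ x, D.mem x = true → D.mem (th x) = true
  inj : ∀ x, D.mem x = true → th x = 0 → x = 0
  hom : ∀ x y, D.mem x = true → D.mem y = true → th (mulB x y) = mulB (th x) (th y)
  center : th 384 = 384 ∨ th 384 = 1152
  sq : ∀ x, D.mem x = true → th (th x) = x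
  cs : ∀ x, D.mem x = true → th (csC x) = csC (th x)
  cw : ∀ x, D.mem x = true → th (cwC x) = cwC (th x)
  hi : i < 4
  hj : j < 4
  hrho : D.mem rho = true
  vi : th (vpC i) = vpC i
  wj : mulB (th (vpC j)) (mulB (vpC j) 1) = mulB (mulB (vpC i) 1) (vpC ((4 - i) % 4))
  rfix : th (cuC rho) = rho
  rprod : mulB rho (cuC rho) = vpC i
  rcube : ∀ x, D.mem x = true → mulB (th (cuC (th (cuC (th (cuC x)))))) rho = mulB rho x
  qmem : D.mem (mulB (mulB 48 (vpC ((4 - j) % 4))) (th 48)) = true
  qeq : ∀ q, q = mulB (mulB 48 (vpC ((4 - j) % 4))) (th 48) →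
    mulB (mulB (mulB (mulB q (th (cuC q))) (th (cuC (th (cuC q))))) rho) 49 = mulB 49 rho

variable {D : RData} {l : List ℕ}

theorem RData.table_eq (th : ℕ → ℕ) (im : List ℕ) :
    ∀ (rows : List (ℕ × ℕ)) (k : ℕ) (els : List ℕ), k + 1 + rows.length ≤ els.length →
      (∀ n, n < rows.length → (rows.getD n (0, 0)).2 ≤ k + n ∧ th (els.getD (k + 1 + n) 0) =
        mulB (th (els.getD (rows.getD n (0, 0)).2 0)) (im.getD (rows.getD n (0, 0)).1 0)) →
      rows.foldl (imgStep im) ((els.take (k + 1)).map th) = (els.take (k + 1 + rows.length)).map th := by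
  intro rows
  induction rows with
  | nil => intro k els _ _; rfl
  | cons r rows ih =>
    intro k els hl h
    rw [List.length_cons] at hl
    have h0 := h 0 (by simp)
    simp only [List.getD_cons_zero, Nat.add_zero] at h0
    have e : imgStep im ((els.take (k + 1)).map th) r = (els.take (k + 1 + 1)).map th := by
      have hk : k + 1 < els.length := by omega
      have hr : r.2 < els.length := by omega
      have hget : ((els.take (k + 1)).map th).getD r.2 0 = th (els.getD r.2 0) := by
        rw [List.getD_eq_getElem _ _ (by simp; omega), List.getD_eq_getElem _ _ hr]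
        simp
      rw [imgStep, hget, ← h0.2, List.take_succ_eq_append_getElem hk, List.map_append,
        List.getD_eq_getElem _ _ hk]
      rfl
    rw [List.foldl_cons, e, ih (k + 1) els (by omega) fun n hn => ?_]
    · rw [List.length_cons]; congr 2; omega
    · have := h (n + 1) (by simp; omega)
      simp only [List.getD_cons_succ] at this
      refine ⟨by omega, ?_⟩
      rw [show k + 1 + 1 + n = k + 1 + (n + 1) by omega]
      exact this.2

theorem RData.wf_spec (hD : D.wf l = true) :
    D.els.length = 64 ∧ D.gens.length = 5 ∧ D.gens.getD 0 0 = 384 ∧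
    (∀ n, n < 64 → D.mem (D.els.getD n 1536) = true ∧ byte D.ix (D.els.getD n 1536) = n) ∧
    (∀ x, D.mem x = true → byte D.ix x < 64 ∧ D.els.getD (byte D.ix x) 1536 = x) ∧
    (∀ x, D.mem x = true ↔ x ∈ l) ∧ (∀ g ∈ D.gens, D.mem g = true) := by
  simp only [RData.wf, Bool.and_eq_true, Nat.beq_eq] at hD
  obtain ⟨⟨⟨⟨⟨⟨⟨⟨⟨⟨⟨⟨⟨⟨⟨⟨⟨⟨⟨he, -⟩, hg⟩, -⟩, hl⟩, -⟩, -⟩, hix⟩, hels⟩, -⟩, hgm⟩, -⟩, g0⟩, -⟩, -⟩, -⟩, -⟩, -⟩, -⟩, -⟩ := hD
  have hx : ∀ x, D.mem x = true → byte D.ix x < 64 ∧ D.els.getD (byte D.ix x) 1536 = x := fun x hx => by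
    have h := hx
    simp only [RData.mem, Bool.and_eq_true, Nat.blt_eq] at h
    have := allUpTo_spec hix h.1
    rw [hx] at this
    exact ⟨h.2, by simpa using this⟩
  refine ⟨he, hg, g0, fun n hn => ?_, hx, fun x => ⟨fun h => ?_, fun h => ?_⟩, fun g hg' => ?_⟩
  · have := allUpTo_spec hels hn
    simp only [Bool.and_eq_true, Nat.beq_eq] at this
    exact ⟨this.1.1, this.1.2⟩
  · obtain ⟨h1, h2⟩ := hx x h
    have := allUpTo_spec hels h1
    rw [h2] at this
    simp only [Bool.and_eq_true, List.contains_iff_mem] at this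
    exact this.2
  · exact List.all_eq_true.1 hl x h
  · obtain ⟨k, hk, rfl⟩ := List.mem_iff_getElem.1 hg'
    have := allUpTo_spec hgm (k := k) (by omega)
    rwa [List.getD_eq_getElem _ _ hk] at this

/-- The parameters are among those found. -/
theorem ThData.found (hD : D.wf l = true) {th : ℕ → ℕ} {i j rho : ℕ} (h : ThData D th i j rho) :
    [th 384, th (D.gens.getD 1 0), th (D.gens.getD 2 0), i, j, rho] ∈ D.search := by
  obtain ⟨he, hgl, g0, hels, hx, -, hgens⟩ := RData.wf_spec hD
  simp only [RData.wf, Bool.and_eq_true, Nat.beq_eq] at hD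
  obtain ⟨⟨⟨⟨⟨⟨⟨⟨⟨⟨⟨⟨⟨⟨⟨⟨⟨⟨⟨-, hrl⟩, -⟩, -⟩, -⟩, z0⟩, hrows⟩, -⟩, -⟩, hinv⟩, hgm⟩, hprod⟩, -⟩, g3⟩, g4⟩, hconj⟩, hcu⟩, h48⟩, hvp⟩, hsq⟩ := hD
  set im := imgsOf (th 384) (th (D.gens.getD 1 0)) (th (D.gens.getD 2 0)) with him
  have gm : ∀ k, k < 5 → D.mem (D.gens.getD k 0) = true := fun k hk => by
    have := allUpTo_spec hgm hk
    rwa [List.getD_eq_getElem _ _ (by omega : k < D.gens.length)] at this ⊢
  have hm0 : D.mem 0 = true := by
    have := (hels 0 (by norm_num)).1
    rwa [List.getD_eq_getElem _ _ (by omega : 0 < D.els.length), ← List.getD_eq_getElem _ 1 (by omega), z0] at this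
  have him' : ∀ k, k < 5 → im.getD k 0 = th (D.gens.getD k 0) := fun k hk => by
    have a1 := h.cs _ (gm 1 (by norm_num))
    have a2 := h.cs _ (gm 2 (by norm_num))
    rw [← g3] at a1; rw [← g4] at a2
    interval_cases k <;> simp only [him, imgsOf, List.getD_cons_zero, List.getD_cons_succ]
    exacts [by rw [g0], a1.symm, a2.symm]
  have th0 : th 0 = 0 := by
    have hz := h.sq 0 hm0
    by_contra hne
    have h2 := h.hom 0 0 hm0 hm0
    rw [show mulB 0 0 = 0 by decide +kernel] at h2
    have key : allUpTo (fun x => !(Nat.beq (mulB x x) x) || Nat.beq x 0) 1536 = true := by decide +kernel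
    have hb := h.mem 0 hm0
    simp only [RData.mem, Bool.and_eq_true, Nat.blt_eq] at hb
    have := allUpTo_spec key hb.1
    simp [← h2, hne] at this
  have elsm : ∀ n, n < 64 → D.mem (D.els.getD n 0) = true := fun n hn => by
    have := (hels n hn).1
    rwa [List.getD_eq_getElem _ _ (by omega : n < D.els.length)] at this ⊢
  have hT : D.table im = D.els.map th := by
    have h0 : [0] = (D.els.take (0 + 1)).map th := by
      rw [List.take_succ_eq_append_getElem (by omega : 0 < D.els.length)]
      rw [List.getD_eq_getElem _ _ (by omega : 0 < D.els.length)] at z0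
      simp [z0, th0]
    rw [RData.table, h0, RData.table_eq th im D.rows 0 D.els (by omega) fun n hn => ?_]
    · rw [List.take_of_length_le (by omega)]
    · have hr := allUpTo_spec hrows (k := n) (by omega)
      simp only [Bool.and_eq_true, Nat.beq_eq, Nat.ble_eq, Nat.blt_eq] at hr
      refine ⟨by omega, ?_⟩
      rw [show 0 + 1 + n = n + 1 by omega, hr.2, h.hom _ _ (elsm _ (by omega)) (gm _ hr.1.2), him' _ hr.1.2]
  have happ : ∀ x, D.mem x = true → D.app (D.els.map th) x = th x := fun x hxm => by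
    obtain ⟨h1, h2⟩ := hx x hxm
    rw [List.getD_eq_getElem _ _ (by omega : byte D.ix x < D.els.length)] at h2
    rw [RData.app, List.getD_eq_getElem _ _ (by simp; omega), List.getElem_map, h2]
  have mg : ∀ g ∈ D.gens, D.mem (csC g) = true ∧ D.mem (cwC g) = true ∧ D.mem (cuC g) = true := fun g hg => by
    simpa [and_assoc] using List.all_eq_true.1 hconj g hg
  have memcu : ∀ x, D.mem x = true → D.mem (cuC x) = true := fun x hxm => by
    obtain ⟨h1, h2⟩ := hx x hxm
    refine List.all_eq_true.1 hcu x ?_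
    rw [← h2, List.getD_eq_getElem _ _ (by omega : byte D.ix x < D.els.length)]
    exact List.getElem_mem _
  have hsig : ∀ x, D.mem x = true →
      D.sigC (D.els.map th) x = th (cuC x) ∧ D.mem (th (cuC x)) = true := fun x hxm =>
    ⟨happ _ (memcu x hxm), h.mem _ (memcu x hxm)⟩
  have hvm : ∀ k, k < 4 → D.mem (vpC k) = true := fun k hk => by
    refine List.all_eq_true.1 hvp k ?_
    interval_cases k <;> simp
  have haut : D.autOK im (D.els.map th) = true := by
    simp only [RData.autOK, Bool.and_eq_true, Nat.beq_eq, List.all_eq_true]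
    refine ⟨⟨?_, fun g hg => ?_⟩, ?_⟩
    · intro z hz
      obtain ⟨x, hxe, rfl⟩ := List.mem_map.1 hz
      obtain ⟨n, hn, rfl⟩ := List.mem_iff_getElem.1 hxe
      refine h.mem _ ?_
      have := elsm n (by omega)
      rwa [List.getD_eq_getElem _ _ hn] at this
    · obtain ⟨m1, m2, -⟩ := mg g hg
      have hgx := hgens g hg
      rw [happ _ hgx, happ _ (h.mem _ hgx), happ _ m1, happ _ m2]
      exact ⟨⟨h.sq g hgx, h.cs g hgx⟩, h.cw g hgx⟩
    · have : ∀ m p, (∀ k, k < m → p k = true) → allUpTo p m = true := by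
        intro m p hp
        induction m with
        | zero => rfl
        | succ m ih =>
          show (p m && allUpTo p m) = true
          rw [hp m (by omega), ih fun k hk => hp k (by omega)]
          rfl
      refine this _ _ fun n hn => this _ _ fun k hk => ?_
      have hp := allUpTo_spec (allUpTo_spec hprod hn) hk
      rw [Nat.beq_eq, happ _ hp, h.hom _ _ (elsm n hn) (gm k hk), him' k hk]
      congr 1
      rw [List.getD_eq_getElem _ _ (by omega : n < D.els.length),
        List.getD_eq_getElem _ _ (show n < (D.els.map th).length by rw [List.length_map]; omega), List.getElem_map]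
  have hpar : D.parOK (D.els.map th) i j rho = true := by
    obtain ⟨s1, m1⟩ := hsig rho h.hrho
    have hq := h.qmem
    obtain ⟨q1, n1⟩ := hsig _ hq
    obtain ⟨q2, -⟩ := hsig _ n1
    simp only [RData.parOK, Bool.and_eq_true, Nat.beq_eq, List.all_eq_true]
    rw [happ _ (hvm i h.hi), happ _ (hvm j h.hj), s1, happ _ h48]
    refine ⟨⟨⟨⟨⟨h.vi, h.wj⟩, h.rfix⟩, h.rprod⟩, fun g hg => ?_⟩, hq, ?_⟩
    · obtain ⟨a1, b1⟩ := hsig g (hgens g hg)
      obtain ⟨a2, b2⟩ := hsig _ b1
      obtain ⟨a3, -⟩ := hsig _ b2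
      rw [a1, a2, a3]
      exact h.rcube g (hgens g hg)
    · rw [q1, q2]
      exact h.qeq _ rfl
  have hinvm : ∀ k, k = 1 ∨ k = 2 → th (D.gens.getD k 0) ∈ D.invs := fun k hk => by
    have hm := gm k (by omega)
    obtain ⟨h1, h2⟩ := hx _ (h.mem _ hm)
    have hs := List.all_eq_true.1 hsq k (by rcases hk with rfl | rfl <;> simp)
    simp only [Bool.and_eq_true, Nat.beq_eq, Bool.not_eq_true'] at hs
    have hmem : th (D.gens.getD k 0) ∈ D.els := by
      rw [← h2, List.getD_eq_getElem _ _ (by omega : byte D.ix _ < D.els.length)]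
      exact List.getElem_mem _
    have := List.all_eq_true.1 hinv _ hmem
    simp only [Bool.or_eq_true, List.contains_iff_mem, Nat.beq_eq, Bool.not_eq_true'] at this
    rcases this with (h3 | h3) | h3
    · exact h3
    · rw [h.inj _ hm h3] at hs; simp at hs
    · rw [← h.hom _ _ hm hm, hs.1, th0] at h3; simp at h3
  have hinjv : ∀ x y, D.mem x = true → D.mem y = true → th x = th y → x = y := fun x y hx' hy' e => by
    rw [← h.sq x hx', e, h.sq y hy']
  have hgp : ∀ k k', k < 5 → k' < 5 → D.mem (mulB (D.gens.getD k 0) (D.gens.getD k' 0)) = true := by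
    intro k k' hk hk'
    obtain ⟨h1, h2⟩ := hx _ (gm k hk)
    have := allUpTo_spec (allUpTo_spec hprod h1) hk'
    rwa [List.getD_eq_getElem _ _ (by omega : byte D.ix _ < D.els.length),
      ← List.getD_eq_getElem _ 1536 (by omega : byte D.ix _ < D.els.length), h2] at this
  have hpre : D.preOK im = true := by
    have key : ∀ k k', k < 5 → k' < 5 →
        (bif Nat.beq (mulB (D.gens.getD k 0) (D.gens.getD k' 0)) (mulB (D.gens.getD k' 0) (D.gens.getD k 0)) then
          Nat.beq (mulB (im.getD k 0) (im.getD k' 0)) (mulB (im.getD k' 0) (im.getD k 0))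
        else !(Nat.beq (mulB (im.getD k 0) (im.getD k' 0)) (mulB (im.getD k' 0) (im.getD k 0)))) = true := by
      intro k k' hk hk'
      rw [him' k hk, him' k' hk', ← h.hom _ _ (gm k hk) (gm k' hk'), ← h.hom _ _ (gm k' hk') (gm k hk)]
      cases hb : Nat.beq (mulB (D.gens.getD k 0) (D.gens.getD k' 0)) (mulB (D.gens.getD k' 0) (D.gens.getD k 0))
      · simp only [cond_false, Bool.not_eq_true']
        cases hc : Nat.beq (th (mulB (D.gens.getD k 0) (D.gens.getD k' 0)))
            (th (mulB (D.gens.getD k' 0) (D.gens.getD k 0)))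
        · rfl
        · rw [hinjv _ _ (hgp k k' hk hk') (hgp k' k hk' hk) (Nat.eq_of_beq_eq_true hc)] at hb
          simp at hb
      · simp only [cond_true, Nat.beq_eq]; rw [Nat.eq_of_beq_eq_true hb]
    simp only [RData.preOK, List.all_eq_true]
    intro p hp
    have hb : p.1 < 5 ∧ p.2 < 5 := by fin_cases hp <;> decide
    exact key _ _ hb.1 hb.2
  simp only [RData.search, RData.searchB, List.mem_flatMap]
  refine ⟨th 384, by rcases h.center with e | e <;> simp [e], _, hinvm 1 (Or.inl rfl), _,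
    hinvm 2 (Or.inr rfl), ?_⟩
  rw [← him, hpre, cond_true, hT, RData.params, haut, cond_true]
  simp only [List.mem_flatMap, List.mem_map, List.mem_filter, List.mem_range]
  obtain ⟨h1, h2⟩ := hx rho h.hrho
  refine ⟨i, h.hi, j, h.hj, rho, ⟨?_, hpar⟩, by simp [him, imgsOf]⟩
  rw [← h2, List.getD_eq_getElem _ _ (by omega : byte D.ix rho < D.els.length)]
  exact List.getElem_mem _

end Cfsg.Agent.HSUniq
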