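import Cfsg.Agent.Lib.HSUniq.HData
import Cfsg.Agent.Lib.HSUniq.Bound
import Cfsg.Agent.Lib.HSUniq.LocalLists

/-!
The possible automorphisms induced on the normal 2-subgroup of the centraliser by an element outside the second
local subgroup, found by search.
-/

set_option autoImplicit false
set_option maxRecDepth 100000
set_option Elab.async false

namespace Cfsg.Agent.HSUniq

/-- Conjugation by the involution of the linear group. -/
def cwC (x : ℕ) : ℕ := mulB (mulB 1 x) 1

/-- Conjugation by the element of order three. -/
def csC (x : ℕ) : ℕ := mulB (mulB 21 x) 22

/-- Conjugation by the involution of a representative. -/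
def cuC (x : ℕ) : ℕ := mulB (mulB 169 x) 169

/-- A power of the element of order four. -/
def vpC (i : ℕ) : ℕ := [0, 384, 768, 1152].getD i 0

/-- A candidate for the normal 2-subgroup: elements, a table of positions, and a generation. -/
structure RData where
  els : List ℕ
  ix : ℕ
  rows : List (ℕ × ℕ)
  gens : List ℕ
  invs : List ℕ

/-- The first candidate. -/
def rData : RData where
  els := [0, 384, 192, 12, 48, 19, 768, 576, 396, 432, 403, 204, 240, 211, 828, 14, 60, 67, 979, 1152, 960, 780, 816, 787, 588, 624, 595, 1212, 398, 444, 451, 1363, 1020, 206, 252, 259, 830, 974, 62, 1027, 1344, 1164, 1200, 1171, 972, 1008, 782, 835, 1404, 590, 636, 643, 1214, 1358, 446, 1411, 1022, 254, 1356, 1392, 1166, 1219, 1406, 638]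
  ix := 0x4040404040404040404040404040404040404040404040404040404040404040404040404040404040404040404040404040404040404040404040404040404040404040404040404040404040404040404040404040404040404040404040404040404040404040404040404040404040404040404040404040404037404040403e403040404040404040404040403b404040404040404040404040404040404040404040404040404040401f4040404035403a404040404040404040404028404040404040404040404040404040404040404040404040404040404040404040404040404040404040404040404040404040404040404040404040404040404040404040404040404040404040404040404040404040404040404040404040404040404040404040404040404040404040404040404040404040403d4040404034401b40404040404040404040402a404040404040404040404040404040404040404040404040404040402b404040403c402940404040404040404040401340404040404040404040404040404040404040404040404040404040404040404040404040404040404040404040404040404040404040404040404040404040404040404040404040404040404040404040404040404040404040404040404040404040404040404040404040404040404040404040404040404040274040404038402040404040404040404040402d40404040404040404040404040404040404040404040404040404040124040404025402c4040404040404040404040144040404040404040404040404040404040404040404040404040404040404040404040404040404040404040404040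40404040404040404040404040404040404040404040404040404040404040404040404040404040404040404040404040404040404040404040404040404040404040404040404040404040402f4040404024400e4040404040404040404040164040404040404040404040404040404040404040404040404040404017404040402e40154040404040404040404040064040404040404040404040404040404040404040404040404040404040404040404040404040404040404040404040404040404040404040404040404040404040404040404040404040404040404040404040404040404040404040404040404040404040404040404040404040404040404040404040404040404033404040403f4032404040404040404040404019404040404040404040404040404040404040404040404040404040401a40404040314018404040404040404040404007404040404040404040404040404040404040404040404040404040404040404040404040404040404040404040404040404040404040404040404040404040404040404040404040404040404040404040404040404040404040404040404040404040404040404040404040404040404040404040404040404040401e4040404036401d404040404040404040404009404040404040404040404040404040404040404040404040404040400a404040401c400840404040404040404040400140404040404040404040404040404040404040404040404040404040404040404040404040404040404040404040404040404040404040404040404040404040404040404040404040404040404040404040404040404040404040404040404040404040404040404040404040404040404040404040404040404040234040404039402240404040404040404040400c404040404040404040404040404040404040404040404040404040400d4040404021400b4040404040404040404040024040404040404040404040404040404040404040404040404040404040404040404040404040404040404040404040404040404040404040404040404040404040404040404040404040404040404040404040404040404040404040404040404040404040404040404040404040404040404040404040404040404011404040402640104040404040404040404040044040404040404040404040404040404040404040404040404040404005404040400f4003404040404040404040404000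
  rows := [(0, 0), (1, 0), (2, 0), (3, 0), (4, 0), (0, 1), (1, 1), (2, 1), (3, 1), (4, 1), (2, 2), (3, 2), (4, 2), (3, 3), (4, 3), (2, 4), (4, 4), (1, 5), (0, 6), (1, 6), (2, 6), (3, 6), (4, 6), (2, 7), (3, 7), (4, 7), (3, 8), (4, 8), (2, 9), (4, 9), (1, 10), (3, 11), (4, 11), (2, 12), (4, 12), (4, 14), (1, 15), (4, 16), (1, 17), (1, 19), (2, 19), (3, 19), (4, 19), (2, 20), (3, 20), (4, 21), (4, 22), (3, 24), (4, 24), (2, 25), (4, 25), (4, 27), (1, 28), (4, 29), (1, 30), (4, 32), (4, 34), (2, 40), (3, 40), (4, 41), (4, 42), (4, 48), (4, 50)]
  gens := [384, 192, 12, 48, 19]
  invs := [12, 14, 19, 48, 67, 192, 204, 240, 254, 444, 446, 590, 595, 636, 643, 768, 780, 782, 787, 816, 835, 960, 972, 1008, 1022, 1212, 1214, 1358, 1363, 1404, 1411]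

/-- The second candidate. -/
def rData' : RData where
  els := [0, 384, 192, 43, 48, 1142, 768, 576, 427, 432, 1526, 235, 240, 950, 1003, 91, 492, 1094, 182, 1260, 326, 1152, 960, 811, 816, 374, 619, 624, 1334, 1387, 475, 876, 1478, 566, 108, 710, 283, 684, 902, 1452, 134, 1051, 540, 1308, 1344, 1195, 1200, 758, 1008, 859, 667, 1068, 1286, 300, 518, 1435, 924, 156, 732, 1500, 1392, 1243, 1116, 348]
  ix := 0x4040404040404040400a404040404040404040404040404040404040404040404040403b40404040404040404040404040404040404040404020404040404040404040404040404040404040404040404040402740404040404040404040404040404040374040404040404040404040404040404040404040404040404040404040404040404040404040404040403c404040401d4040404040404040404040404040404040404040404040404040404040404040404040404040404040402c4040404040404040401c404040404040404040404040404040404040404040404040402b404040404040404040404040404040404040404040344040404040404040404040404040404040404040404040404013404040404040404040404040404040403d4040404040404040404040404040404040404040404040404040404040404040404040404040404040402e404040402d4040404040404040404040404040404040404040404040404040404040404040404040404040404040401540404040404040404005404040404040404040404040404040404040404040404040403e404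040404040404040404040404040404040404040114040404040404040404040404040404040404040404040404033404040404040404040404040404040402940404040404040404040404040404040404040404040404040404040404040404040404040404040404030404040400e404040404040404040404040404040404040404040404040404040404040404040404040404040404040164040404040404040400d404040404040404040404040404040404040404040404040403840404040404040404040404040404040404040404026404040404040404040404040404040404040404040404040401f4040404040404040404040404040404031404040404040404040404040404040404040404040404040404040404040404040404040404040404040184040404017404040404040404040404040404040404040404040404040404040404040404040404040404040404040064040404040404040402f404040404040404040404040404040404040404040404040403a40404040404040404040404040404040404040404023404040404040404040404040404040404040404040404040402540404040404040404040404040404040324040404040404040404040404040404040404040404040404040404040404040404040404040404040401b404040401a4040404040404040404040404040404040404040404040404040404040404040404040404040404040400740404040404040404021404040404040404040404040404040404040404040404040402a404040404040404040404040404040404040404040364040404040404040404040404040404040404040404040404010404040404040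404040404040404040401e4040404040404040404040404040404040404040404040404040404040404040404040404040404040400940404040084040404040404040404040404040404040404040404040404040404040404040404040404040404040400140404040404040404019404040404040404040404040404040404040404040404040403f40404040404040404040404040404040404040404014404040404040404040404040404040404040404040404040403540404040404040404040404040404040244040404040404040404040404040404040404040404040404040404040404040404040404040404040400c404040400b40404040404040404040404040404040404040404040404040404040404040404040404040404040404002404040404040404040124040404040404040404040404040404040404040404040404039404040404040404040404040404040404040404040284040404040404040404040404040404040404040404040404022404040404040404040404040404040400f40404040404040404040404040404040404040404040404040404040404040404040404040404040404004404040400340404040404040404040404040404040404040404040404040404040404040404040404040404040404000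
  rows := [(0, 0), (1, 0), (2, 0), (3, 0), (4, 0), (0, 1), (1, 1), (2, 1), (3, 1), (4, 1), (2, 2), (3, 2), (4, 2), (1, 3), (3, 3), (4, 3), (4, 4), (1, 5), (2, 5), (3, 5), (0, 6), (1, 6), (2, 6), (3, 6), (4, 6), (2, 7), (3, 7), (4, 7), (1, 8), (3, 8), (4, 8), (4, 9), (1, 10), (2, 10), (3, 10), (3, 11), (4, 11), (4, 12), (2, 13), (3, 13), (3, 14), (4, 15), (3, 16), (1, 21), (2, 21), (3, 21), (4, 21), (3, 22), (3, 23), (3, 26), (4, 26), (4, 27), (2, 28), (3, 28), (3, 29), (4, 30), (3, 31), (4, 36), (3, 37), (3, 44), (3, 45), (4, 50), (3, 51)]
  gens := [384, 192, 43, 48, 1142]
  invs := [43, 48, 91, 108, 134, 192, 240, 300, 374, 540, 566, 619, 667, 710, 732, 768, 811, 816, 859, 876, 902, 960, 1008, 1068, 1142, 1308, 1334, 1387, 1435, 1478, 1500]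

/-- Membership. -/
def RData.mem (D : RData) (x : ℕ) : Bool := Nat.blt x 1536 && Nat.blt (byte D.ix x) 64

/-- An image under the automorphism given by a list of images. -/
def RData.app (D : RData) (T : List ℕ) (x : ℕ) : ℕ := T.getD (byte D.ix x) 1536

/-- The list of images extended along the generation. -/
def imgStep (im T : List ℕ) (r : ℕ × ℕ) : List ℕ := T ++ [mulB (T.getD r.2 0) (im.getD r.1 0)]

/-- The list of images from images of the generators. -/
def RData.table (D : RData) (im : List ℕ) : List ℕ := D.rows.foldl (imgStep im) [0]

/-- The conditions on the automorphism. -/
def RData.autOK (D : RData) (im T : List ℕ) : Bool :=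
  T.all D.mem &&
  D.gens.all (fun g => Nat.beq (D.app T (D.app T g)) g && Nat.beq (D.app T (csC g)) (csC (D.app T g)) &&
    Nat.beq (D.app T (cwC g)) (cwC (D.app T g))) &&
  allUpTo (fun n => allUpTo (fun k => Nat.beq (D.app T (mulB (D.els.getD n 0) (D.gens.getD k 0)))
    (mulB (T.getD n 0) (im.getD k 0))) 5) 64

/-- The conjugation by the product of the two involutions. -/
def RData.sigC (D : RData) (T : List ℕ) (x : ℕ) : ℕ := D.app T (cuC x)

/-- The conditions on the parameters. -/
def RData.parOK (D : RData) (T : List ℕ) (i j : ℕ) (rho : ℕ) : Bool :=
  Nat.beq (D.app T (vpC i)) (vpC i) &&
  Nat.beq (mulB (D.app T (vpC j)) (mulB (vpC j) 1)) (mulB (mulB (vpC i) 1) (vpC ((4 - i) % 4))) &&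
  Nat.beq (D.sigC T rho) rho && Nat.beq (mulB rho (cuC rho)) (vpC i) &&
  D.gens.all (fun g => Nat.beq (mulB (D.sigC T (D.sigC T (D.sigC T g))) rho) (mulB rho g)) &&
  (fun q => D.mem q && Nat.beq (mulB (mulB (mulB (mulB q (D.sigC T q)) (D.sigC T (D.sigC T q))) rho) 49)
    (mulB 49 rho)) (mulB (mulB 48 (vpC ((4 - j) % 4))) (D.app T 48))

/-- The parameters of one automorphism. -/
def RData.params (D : RData) (im T : List ℕ) : List (List ℕ) :=
  bif D.autOK im T then
    (List.range 4).flatMap fun i => (List.range 4).flatMap fun j =>
      (D.els.filter (D.parOK T i j)).map fun rho => [im.getD 0 0, im.getD 1 0, im.getD 2 0, i, j, rho]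
  else []

/-- The images of the generators. -/
def imgsOf (a b c : ℕ) : List ℕ := [a, b, c, csC b, csC c]

/-- Images of generators commute exactly when the generators do. -/
def RData.preOK (D : RData) (im : List ℕ) : Bool :=
  [(1, 2), (1, 3), (1, 4), (2, 3), (2, 4), (3, 4)].all fun p =>
    bif Nat.beq (mulB (D.gens.getD p.1 0) (D.gens.getD p.2 0)) (mulB (D.gens.getD p.2 0) (D.gens.getD p.1 0)) then
      Nat.beq (mulB (im.getD p.1 0) (im.getD p.2 0)) (mulB (im.getD p.2 0) (im.getD p.1 0))
    else !(Nat.beq (mulB (im.getD p.1 0) (im.getD p.2 0)) (mulB (im.getD p.2 0) (im.getD p.1 0)))

/-- The parameters with two given images. -/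
def RData.searchB (D : RData) (a b : ℕ) : List (List ℕ) :=
  D.invs.flatMap fun c =>
    bif D.preOK (imgsOf a b c) then D.params (imgsOf a b c) (D.table (imgsOf a b c)) else []

/-- All parameters. -/
def RData.search (D : RData) : List (List ℕ) :=
  [384, 1152].flatMap fun a => D.invs.flatMap fun b => D.searchB a b

theorem search_0_384_12 : rData.searchB 384 12 = [] := by decide +kernel

theorem search_0_384_14 : rData.searchB 384 14 = [] := by decide +kernel

theorem search_0_384_19 : rData.searchB 384 19 = [] := by decide +kernel

theorem search_0_384_48 : rData.searchB 384 48 = [] := by decide +kernel

theorem search_0_384_67 : rData.searchB 384 67 = [] := by decide +kernel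

theorem search_0_384_192 : rData.searchB 384 192 = [] := by decide +kernel

theorem search_0_384_204 : rData.searchB 384 204 = [] := by decide +kernel

theorem search_0_384_240 : rData.searchB 384 240 = [] := by decide +kernel

theorem search_0_384_254 : rData.searchB 384 254 = [] := by decide +kernel

theorem search_0_384_444 : rData.searchB 384 444 = [] := by decide +kernel

theorem search_0_384_446 : rData.searchB 384 446 = [] := by decide +kernel

theorem search_0_384_590 : rData.searchB 384 590 = [] := by decide +kernel

theorem search_0_384_595 : rData.searchB 384 595 = [] := by decide +kernel

theorem search_0_384_636 : rData.searchB 384 636 = [] := by decide +kernel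

theorem search_0_384_643 : rData.searchB 384 643 = [] := by decide +kernel

theorem search_0_384_768 : rData.searchB 384 768 = [] := by decide +kernel

theorem search_0_384_780 : rData.searchB 384 780 = [] := by decide +kernel

theorem search_0_384_782 : rData.searchB 384 782 = [] := by decide +kernel

theorem search_0_384_787 : rData.searchB 384 787 = [] := by decide +kernel

theorem search_0_384_816 : rData.searchB 384 816 = [] := by decide +kernel

theorem search_0_384_835 : rData.searchB 384 835 = [] := by decide +kernel

theorem search_0_384_960 : rData.searchB 384 960 = [] := by decide +kernel

theorem search_0_384_972 : rData.searchB 384 972 = [] := by decide +kernel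

theorem search_0_384_1008 : rData.searchB 384 1008 = [] := by decide +kernel

theorem search_0_384_1022 : rData.searchB 384 1022 = [] := by decide +kernel

theorem search_0_384_1212 : rData.searchB 384 1212 = [] := by decide +kernel

theorem search_0_384_1214 : rData.searchB 384 1214 = [] := by decide +kernel

theorem search_0_384_1358 : rData.searchB 384 1358 = [] := by decide +kernel

theorem search_0_384_1363 : rData.searchB 384 1363 = [] := by decide +kernel

theorem search_0_384_1404 : rData.searchB 384 1404 = [] := by decide +kernel

theorem search_0_384_1411 : rData.searchB 384 1411 = [] := by decide +kernel

theorem search_0_1152_12 : rData.searchB 1152 12 = [[1152, 12, 192, 0, 0, 384], [1152, 12, 192, 0, 0, 1152], [1152, 12, 192, 0, 2, 0], [1152, 12, 192, 0, 2, 768]] := by decide +kernel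

theorem search_0_1152_14 : rData.searchB 1152 14 = [] := by decide +kernel

theorem search_0_1152_19 : rData.searchB 1152 19 = [] := by decide +kernel

theorem search_0_1152_48 : rData.searchB 1152 48 = [] := by decide +kernel

theorem search_0_1152_67 : rData.searchB 1152 67 = [] := by decide +kernel

theorem search_0_1152_192 : rData.searchB 1152 192 = [] := by decide +kernel

theorem search_0_1152_204 : rData.searchB 1152 204 = [] := by decide +kernel

theorem search_0_1152_240 : rData.searchB 1152 240 = [] := by decide +kernel

theorem search_0_1152_254 : rData.searchB 1152 254 = [] := by decide +kernel

theorem search_0_1152_444 : rData.searchB 1152 444 = [] := by decide +kernel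

theorem search_0_1152_446 : rData.searchB 1152 446 = [] := by decide +kernel

theorem search_0_1152_590 : rData.searchB 1152 590 = [] := by decide +kernel

theorem search_0_1152_595 : rData.searchB 1152 595 = [] := by decide +kernel

theorem search_0_1152_636 : rData.searchB 1152 636 = [] := by decide +kernel

theorem search_0_1152_643 : rData.searchB 1152 643 = [] := by decide +kernel

theorem search_0_1152_768 : rData.searchB 1152 768 = [] := by decide +kernel

theorem search_0_1152_780 : rData.searchB 1152 780 = [] := by decide +kernel

theorem search_0_1152_782 : rData.searchB 1152 782 = [] := by decide +kernel

theorem search_0_1152_787 : rData.searchB 1152 787 = [] := by decide +kernel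

theorem search_0_1152_816 : rData.searchB 1152 816 = [] := by decide +kernel

theorem search_0_1152_835 : rData.searchB 1152 835 = [] := by decide +kernel

theorem search_0_1152_960 : rData.searchB 1152 960 = [] := by decide +kernel

theorem search_0_1152_972 : rData.searchB 1152 972 = [[1152, 972, 12, 0, 0, 384], [1152, 972, 12, 0, 0, 1152], [1152, 972, 12, 0, 2, 0], [1152, 972, 12, 0, 2, 768]] := by decide +kernel

theorem search_0_1152_1008 : rData.searchB 1152 1008 = [] := by decide +kernel

theorem search_0_1152_1022 : rData.searchB 1152 1022 = [] := by decide +kernel

theorem search_0_1152_1212 : rData.searchB 1152 1212 = [] := by decide +kernel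

theorem search_0_1152_1214 : rData.searchB 1152 1214 = [] := by decide +kernel

theorem search_0_1152_1358 : rData.searchB 1152 1358 = [] := by decide +kernel

theorem search_0_1152_1363 : rData.searchB 1152 1363 = [] := by decide +kernel

theorem search_0_1152_1404 : rData.searchB 1152 1404 = [] := by decide +kernel

theorem search_0_1152_1411 : rData.searchB 1152 1411 = [] := by decide +kernel

theorem search_first : rData.search = [[1152, 12, 192, 0, 0, 384], [1152, 12, 192, 0, 0, 1152], [1152, 12, 192, 0, 2, 0], [1152, 12, 192, 0, 2, 768], [1152, 972, 12, 0, 0, 384], [1152, 972, 12, 0, 0, 1152], [1152, 972, 12, 0, 2, 0], [1152, 972, 12, 0, 2, 768]] := by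
  have e : rData.invs = [12, 14, 19, 48, 67, 192, 204, 240, 254, 444, 446, 590, 595, 636, 643, 768, 780, 782, 787, 816, 835, 960, 972, 1008, 1022, 1212, 1214, 1358, 1363, 1404, 1411] := rfl
  simp only [RData.search, e, List.flatMap_cons, List.flatMap_nil, List.append_nil, List.nil_append,
    search_0_384_12,
    search_0_384_14,
    search_0_384_19,
    search_0_384_48,
    search_0_384_67,
    search_0_384_192,
    search_0_384_204,
    search_0_384_240,
    search_0_384_254,
    search_0_384_444,
    search_0_384_446,
    search_0_384_590,
    search_0_384_595,
    search_0_384_636,
    search_0_384_643,
    search_0_384_768,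
    search_0_384_780,
    search_0_384_782,
    search_0_384_787,
    search_0_384_816,
    search_0_384_835,
    search_0_384_960,
    search_0_384_972,
    search_0_384_1008,
    search_0_384_1022,
    search_0_384_1212,
    search_0_384_1214,
    search_0_384_1358,
    search_0_384_1363,
    search_0_384_1404,
    search_0_384_1411,
    search_0_1152_12,
    search_0_1152_14,
    search_0_1152_19,
    search_0_1152_48,
    search_0_1152_67,
    search_0_1152_192,
    search_0_1152_204,
    search_0_1152_240,
    search_0_1152_254,
    search_0_1152_444,
    search_0_1152_446,
    search_0_1152_590,
    search_0_1152_595,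
    search_0_1152_636,
    search_0_1152_643,
    search_0_1152_768,
    search_0_1152_780,
    search_0_1152_782,
    search_0_1152_787,
    search_0_1152_816,
    search_0_1152_835,
    search_0_1152_960,
    search_0_1152_972,
    search_0_1152_1008,
    search_0_1152_1022,
    search_0_1152_1212,
    search_0_1152_1214,
    search_0_1152_1358,
    search_0_1152_1363,
    search_0_1152_1404,
    search_0_1152_1411]
  rfl

theorem search_1_384_43 : rData'.searchB 384 43 = [] := by decide +kernel

theorem search_1_384_48 : rData'.searchB 384 48 = [] := by decide +kernel

theorem search_1_384_91 : rData'.searchB 384 91 = [] := by decide +kernel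

theorem search_1_384_108 : rData'.searchB 384 108 = [] := by decide +kernel

theorem search_1_384_134 : rData'.searchB 384 134 = [] := by decide +kernel

theorem search_1_384_192 : rData'.searchB 384 192 = [] := by decide +kernel

theorem search_1_384_240 : rData'.searchB 384 240 = [] := by decide +kernel

theorem search_1_384_300 : rData'.searchB 384 300 = [] := by decide +kernel

theorem search_1_384_374 : rData'.searchB 384 374 = [] := by decide +kernel

theorem search_1_384_540 : rData'.searchB 384 540 = [] := by decide +kernel

theorem search_1_384_566 : rData'.searchB 384 566 = [] := by decide +kernel

theorem search_1_384_619 : rData'.searchB 384 619 = [] := by decide +kernel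

theorem search_1_384_667 : rData'.searchB 384 667 = [] := by decide +kernel

theorem search_1_384_710 : rData'.searchB 384 710 = [] := by decide +kernel

theorem search_1_384_732 : rData'.searchB 384 732 = [] := by decide +kernel

theorem search_1_384_768 : rData'.searchB 384 768 = [] := by decide +kernel

theorem search_1_384_811 : rData'.searchB 384 811 = [] := by decide +kernel

theorem search_1_384_816 : rData'.searchB 384 816 = [] := by decide +kernel

theorem search_1_384_859 : rData'.searchB 384 859 = [] := by decide +kernel

theorem search_1_384_876 : rData'.searchB 384 876 = [] := by decide +kernel

theorem search_1_384_902 : rData'.searchB 384 902 = [] := by decide +kernel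

theorem search_1_384_960 : rData'.searchB 384 960 = [] := by decide +kernel

theorem search_1_384_1008 : rData'.searchB 384 1008 = [] := by decide +kernel

theorem search_1_384_1068 : rData'.searchB 384 1068 = [] := by decide +kernel

theorem search_1_384_1142 : rData'.searchB 384 1142 = [] := by decide +kernel

theorem search_1_384_1308 : rData'.searchB 384 1308 = [] := by decide +kernel

theorem search_1_384_1334 : rData'.searchB 384 1334 = [] := by decide +kernel

theorem search_1_384_1387 : rData'.searchB 384 1387 = [] := by decide +kernel

theorem search_1_384_1435 : rData'.searchB 384 1435 = [] := by decide +kernel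

theorem search_1_384_1478 : rData'.searchB 384 1478 = [] := by decide +kernel

theorem search_1_384_1500 : rData'.searchB 384 1500 = [] := by decide +kernel

theorem search_1_1152_43 : rData'.searchB 1152 43 = [] := by decide +kernel

theorem search_1_1152_48 : rData'.searchB 1152 48 = [] := by decide +kernel

theorem search_1_1152_91 : rData'.searchB 1152 91 = [] := by decide +kernel

theorem search_1_1152_108 : rData'.searchB 1152 108 = [] := by decide +kernel

theorem search_1_1152_134 : rData'.searchB 1152 134 = [] := by decide +kernel

theorem search_1_1152_192 : rData'.searchB 1152 192 = [] := by decide +kernel

theorem search_1_1152_240 : rData'.searchB 1152 240 = [] := by decide +kernel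

theorem search_1_1152_300 : rData'.searchB 1152 300 = [] := by decide +kernel

theorem search_1_1152_374 : rData'.searchB 1152 374 = [] := by decide +kernel

theorem search_1_1152_540 : rData'.searchB 1152 540 = [] := by decide +kernel

theorem search_1_1152_566 : rData'.searchB 1152 566 = [] := by decide +kernel

theorem search_1_1152_619 : rData'.searchB 1152 619 = [] := by decide +kernel

theorem search_1_1152_667 : rData'.searchB 1152 667 = [] := by decide +kernel

theorem search_1_1152_710 : rData'.searchB 1152 710 = [] := by decide +kernel

theorem search_1_1152_732 : rData'.searchB 1152 732 = [] := by decide +kernel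

theorem search_1_1152_768 : rData'.searchB 1152 768 = [] := by decide +kernel

theorem search_1_1152_811 : rData'.searchB 1152 811 = [] := by decide +kernel

theorem search_1_1152_816 : rData'.searchB 1152 816 = [] := by decide +kernel

theorem search_1_1152_859 : rData'.searchB 1152 859 = [] := by decide +kernel

theorem search_1_1152_876 : rData'.searchB 1152 876 = [] := by decide +kernel

theorem search_1_1152_902 : rData'.searchB 1152 902 = [] := by decide +kernel

theorem search_1_1152_960 : rData'.searchB 1152 960 = [] := by decide +kernel

theorem search_1_1152_1008 : rData'.searchB 1152 1008 = [] := by decide +kernel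

theorem search_1_1152_1068 : rData'.searchB 1152 1068 = [] := by decide +kernel

theorem search_1_1152_1142 : rData'.searchB 1152 1142 = [] := by decide +kernel

theorem search_1_1152_1308 : rData'.searchB 1152 1308 = [] := by decide +kernel

theorem search_1_1152_1334 : rData'.searchB 1152 1334 = [] := by decide +kernel

theorem search_1_1152_1387 : rData'.searchB 1152 1387 = [] := by decide +kernel

theorem search_1_1152_1435 : rData'.searchB 1152 1435 = [] := by decide +kernel

theorem search_1_1152_1478 : rData'.searchB 1152 1478 = [] := by decide +kernel

theorem search_1_1152_1500 : rData'.searchB 1152 1500 = [] := by decide +kernel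

theorem search_second : rData'.search = [] := by
  have e : rData'.invs = [43, 48, 91, 108, 134, 192, 240, 300, 374, 540, 566, 619, 667, 710, 732, 768, 811, 816, 859, 876, 902, 960, 1008, 1068, 1142, 1308, 1334, 1387, 1435, 1478, 1500] := rfl
  simp only [RData.search, e, List.flatMap_cons, List.flatMap_nil, List.append_nil, List.nil_append,
    search_1_384_43,
    search_1_384_48,
    search_1_384_91,
    search_1_384_108,
    search_1_384_134,
    search_1_384_192,
    search_1_384_240,
    search_1_384_300,
    search_1_384_374,
    search_1_384_540,
    search_1_384_566,
    search_1_384_619,
    search_1_384_667,
    search_1_384_710,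
    search_1_384_732,
    search_1_384_768,
    search_1_384_811,
    search_1_384_816,
    search_1_384_859,
    search_1_384_876,
    search_1_384_902,
    search_1_384_960,
    search_1_384_1008,
    search_1_384_1068,
    search_1_384_1142,
    search_1_384_1308,
    search_1_384_1334,
    search_1_384_1387,
    search_1_384_1435,
    search_1_384_1478,
    search_1_384_1500,
    search_1_1152_43,
    search_1_1152_48,
    search_1_1152_91,
    search_1_1152_108,
    search_1_1152_134,
    search_1_1152_192,
    search_1_1152_240,
    search_1_1152_300,
    search_1_1152_374,
    search_1_1152_540,
    search_1_1152_566,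
    search_1_1152_619,
    search_1_1152_667,
    search_1_1152_710,
    search_1_1152_732,
    search_1_1152_768,
    search_1_1152_811,
    search_1_1152_816,
    search_1_1152_859,
    search_1_1152_876,
    search_1_1152_902,
    search_1_1152_960,
    search_1_1152_1008,
    search_1_1152_1068,
    search_1_1152_1142,
    search_1_1152_1308,
    search_1_1152_1334,
    search_1_1152_1387,
    search_1_1152_1435,
    search_1_1152_1478,
    search_1_1152_1500]

end Cfsg.Agent.HSUniq
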