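import Cfsg.Agent.Lib.HSUniq.MModel
import Mathlib.Tactic

/-!
Six relations give a homomorphism from the model of the linear group of order `168`.
-/

set_option autoImplicit false
set_option maxRecDepth 30000

namespace Cfsg.Agent.HSUniq

variable {G : Type*} [Group G]

/-- The relations of the linear group of order `168`. -/
structure LRel (g s w : G) : Prop where
  g7 : g ^ 7 = 1
  s3 : s ^ 3 = 1
  sg : s * g = g ^ 2 * s
  w2 : w * w = 1
  ws : w * s = s ^ 2 * w
  braid : w * g * w = g ^ 6 * w * g ^ 6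

/-- An element of the Frobenius subgroup. -/
def frob (g s : G) (f : ℕ) : G := g ^ (f / 3) * s ^ (f % 3)

/-- The element with a given code. -/
def sig (g s w : G) (c : ℕ) : G :=
  if c < 21 then frob g s c else g ^ (c / 21 - 1) * w * frob g s (c % 21)

/-- Product of two codes of the Frobenius subgroup. -/
def fmulC (x y : ℕ) : ℕ := (x / 3 + 2 ^ (x % 3) * (y / 3)) % 7 * 3 + (x % 3 + y % 3) % 3

/-- The exponents in the product `w * g ^ i * w`. -/
def pqlList : List (ℕ × ℕ × ℕ) := [(0, 0, 0), (6, 6, 0), (3, 5, 2), (2, 4, 1), (5, 3, 1), (4, 2, 2), (1, 1, 0)]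

/-- Left multiplication by the generator of order seven. -/
def stepG (c : ℕ) : ℕ := if c < 21 then fmulC 3 c else ((c / 21 - 1 + 1) % 7 + 1) * 21 + c % 21

/-- Left multiplication by the involution. -/
def stepW (c : ℕ) : ℕ :=
  if c < 21 then 21 + c else if c / 21 - 1 = 0 then c % 21 else
    let t := pqlList.getD (c / 21 - 1) (0, 0, 0)
    (t.1 + 1) * 21 + fmulC (3 * t.2.1 + t.2.2) (c % 21)

/-- Left multiplication by a power product read from a code. -/
def stepsC (a b : ℕ) : ℕ :=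
  let f := if a < 21 then a else a % 21
  let x := (stepG^[f / 3]) ((fun c => if c < 21 then fmulC (f % 3) c else
    (stepG^[2 ^ (f % 3) * (c / 21 - 1) % 7]) (stepW (fmulC (2 * (f % 3) % 3) (c % 21)))) b)
  if a < 21 then x else (stepG^[a / 21 - 1]) (stepW x)

theorem steps_ok : allUpTo (fun a => allUpTo (fun b => Nat.beq (stepsC a b) (mulL a b)) 168) 168 = true := by
  decide +kernel

variable {g s w : G} (h : LRel g s w)
include h

theorem LRel.g_mod (n : ℕ) : g ^ n = g ^ (n % 7) := pow_eq_pow_mod n h.g7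

theorem LRel.s_mod (n : ℕ) : s ^ n = s ^ (n % 3) := pow_eq_pow_mod n h.s3

theorem LRel.s_pow_g (b a : ℕ) : s ^ b * g ^ a = g ^ (2 ^ b * a) * s ^ b := by
  have h1 : ∀ a, s * g ^ a = g ^ (2 * a) * s := by
    intro a
    induction a with
    | zero => simp
    | succ a ih => rw [pow_succ, ← mul_assoc, ih, mul_assoc, h.sg, ← mul_assoc, ← pow_add, mul_add_one]
  induction b generalizing a with
  | zero => simp
  | succ b ih => rw [pow_succ, mul_assoc, h1, ← mul_assoc, ih, mul_assoc, pow_succ 2 b, mul_assoc (2 ^ b)]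

theorem LRel.frob_mul (x y : ℕ) : frob g s x * frob g s y = frob g s (fmulC x y) := by
  have e1 : ((x / 3 + 2 ^ (x % 3) * (y / 3)) % 7 * 3 + (x % 3 + y % 3) % 3) / 3 =
      (x / 3 + 2 ^ (x % 3) * (y / 3)) % 7 := by omega
  have e2 : ((x / 3 + 2 ^ (x % 3) * (y / 3)) % 7 * 3 + (x % 3 + y % 3) % 3) % 3 = (x % 3 + y % 3) % 3 := by
    omega
  rw [fmulC, frob, frob, frob, e1, e2, ← h.g_mod, ← h.s_mod (x % 3 + y % 3), pow_add g, pow_add s]
  calc g ^ (x / 3) * s ^ (x % 3) * (g ^ (y / 3) * s ^ (y % 3))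
      = g ^ (x / 3) * (s ^ (x % 3) * g ^ (y / 3)) * s ^ (y % 3) := by group
    _ = _ := by rw [h.s_pow_g]; group

theorem LRel.w_pow_s (b : ℕ) : w * s ^ b = s ^ (2 * b % 3) * w := by
  rw [← h.s_mod]
  induction b with
  | zero => simp
  | succ b ih => rw [pow_succ, ← mul_assoc, ih, mul_assoc, h.ws, ← mul_assoc, ← pow_add, mul_add_one]

theorem LRel.wgw {i : ℕ} (hi : i < 7) (h0 : i ≠ 0) : w * g ^ i * w =
    g ^ (pqlList.getD i (0, 0, 0)).1 * w * frob g s (3 * (pqlList.getD i (0, 0, 0)).2.1 + (pqlList.getD i (0, 0, 0)).2.2) := by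
  have h1 : w * g ^ 1 * w = g ^ 6 * w * g ^ 6 := by rw [pow_one]; exact h.braid
  have winv : w⁻¹ = w := inv_eq_of_mul_eq_one_right h.w2
  have ginv : ∀ n, n ≤ 7 → (g ^ n)⁻¹ = g ^ (7 - n) := fun n hn =>
    inv_eq_of_mul_eq_one_right (by rw [← pow_add, show n + (7 - n) = 7 by omega, h.g7])
  -- conjugation by the element of order three
  have cs : ∀ {n a b c : ℕ}, w * g ^ n * w = g ^ a * w * (g ^ b * s ^ c) →
      w * g ^ (4 * n) * w = g ^ (2 * a) * w * (g ^ (4 * b) * s ^ (c + 1)) := by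
    intro n a b c e
    have e' : s * (w * g ^ n * w) = s * (g ^ a * w * (g ^ b * s ^ c)) := by rw [e]
    have sw : s * w = w * s ^ 2 := by rw [h.w_pow_s]; simp
    have l : s * (w * g ^ n * w) = w * g ^ (4 * n) * w * s := by
      calc s * (w * g ^ n * w) = (s * w) * g ^ n * w := by group
        _ = w * (s ^ 2 * g ^ n) * w := by rw [sw]; group
        _ = w * (g ^ (2 ^ 2 * n) * s ^ 2) * w := by rw [h.s_pow_g]
        _ = w * g ^ (4 * n) * (s ^ 2 * w) := by norm_num [mul_assoc]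
        _ = _ := by rw [← h.ws]; group
    have r : s * (g ^ a * w * (g ^ b * s ^ c)) = g ^ (2 * a) * w * (g ^ (4 * b) * s ^ (c + 2)) := by
      calc s * (g ^ a * w * (g ^ b * s ^ c)) = (s ^ 1 * g ^ a) * w * (g ^ b * s ^ c) := by group
        _ = g ^ (2 * a) * (s * w) * (g ^ b * s ^ c) := by rw [h.s_pow_g]; group
        _ = g ^ (2 * a) * w * (s ^ 2 * g ^ b) * s ^ c := by rw [sw]; group
        _ = g ^ (2 * a) * w * (g ^ (2 ^ 2 * b) * s ^ 2) * s ^ c := by rw [h.s_pow_g]
        _ = _ := by rw [show c + 2 = 2 + c by omega, pow_add s 2 c]; norm_num [mul_assoc]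
    rw [l, r] at e'
    have sinv : s⁻¹ = s ^ 2 := inv_eq_of_mul_eq_one_right (by rw [← pow_succ', h.s3])
    rw [eq_mul_inv_of_mul_eq e', sinv, mul_assoc (g ^ (2 * a) * w), mul_assoc (g ^ (4 * b)), ← pow_add,
      show c + 2 + 2 = c + 1 + 3 by omega, pow_add s (c + 1) 3, h.s3, mul_one]
  have hb : w * g ^ 1 * w = g ^ 6 * w * (g ^ 6 * s ^ 0) := by rw [pow_zero, mul_one]; exact h1
  have h6 : w * g ^ 6 * w = g ^ 1 * w * (g ^ 1 * s ^ 0) := by
    have e := congrArg (fun x : G => x⁻¹) h1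
    simp only [mul_inv_rev, winv, ginv _ (show 6 ≤ 7 by norm_num), ginv _ (show 1 ≤ 7 by norm_num)] at e
    rw [pow_zero, mul_one, mul_assoc, mul_assoc]
    exact e
  have e4 := cs hb
  have e3 := cs h6
  have e2 := cs e4
  have e5 := cs e3
  simp only [frob]
  interval_cases i <;> simp only [pqlList, List.getD_cons_succ, List.getD_cons_zero] <;> norm_num
  · exact absurd rfl h0
  · simpa using hb
  · rw [h.g_mod (4 * (4 * 1)), h.g_mod (2 * (2 * 6)), h.g_mod (4 * (4 * 6))] at e2; norm_num at e2; exact e2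
  · rw [h.g_mod (4 * 6), h.g_mod (2 * 1), h.g_mod (4 * 1)] at e3; norm_num at e3; exact e3
  · rw [h.g_mod (4 * 1), h.g_mod (2 * 6), h.g_mod (4 * 6)] at e4; norm_num at e4; exact e4
  · rw [h.g_mod (4 * (4 * 6)), h.g_mod (2 * (2 * 1)), h.g_mod (4 * (4 * 1))] at e5; norm_num at e5; exact e5
  · simpa using h6

theorem LRel.stepG_eq {c : ℕ} (hc : c < 168) : g * sig g s w c = sig g s w (stepG c) ∧ stepG c < 168 := by
  unfold stepG
  by_cases h1 : c < 21
  · have hf : fmulC 3 c < 21 := by unfold fmulC; omega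
    rw [if_pos h1, sig, if_pos h1, sig, if_pos hf]
    refine ⟨?_, by omega⟩
    rw [← h.frob_mul]; simp [frob]
  · rw [if_neg h1, sig, if_neg h1, sig, if_neg (by omega)]
    refine ⟨?_, by omega⟩
    rw [show ((c / 21 - 1 + 1) % 7 + 1) * 21 + c % 21 = ((c / 21 - 1 + 1) % 7 + 1) * 21 + c % 21 from rfl,
      show (((c / 21 - 1 + 1) % 7 + 1) * 21 + c % 21) / 21 - 1 = (c / 21 - 1 + 1) % 7 by omega,
      show (((c / 21 - 1 + 1) % 7 + 1) * 21 + c % 21) % 21 = c % 21 by omega, ← h.g_mod, pow_succ']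
    group

theorem LRel.stepW_eq {c : ℕ} (hc : c < 168) : w * sig g s w c = sig g s w (stepW c) ∧ stepW c < 168 := by
  unfold stepW
  by_cases h1 : c < 21
  · rw [if_pos h1, sig, if_pos h1, sig, if_neg (by omega)]
    refine ⟨?_, by omega⟩
    rw [show (21 + c) / 21 - 1 = 0 by omega, show (21 + c) % 21 = c by omega, pow_zero, one_mul]
  · rw [if_neg h1]
    by_cases h2 : c / 21 - 1 = 0
    · rw [if_pos h2, sig, if_neg h1, sig, if_pos (by omega), h2, pow_zero, one_mul, ← mul_assoc, h.w2, one_mul]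
      exact ⟨rfl, by omega⟩
    · rw [if_neg h2]
      have hi : c / 21 - 1 < 7 := by omega
      have hp : (pqlList.getD (c / 21 - 1) (0, 0, 0)).1 < 7 := by
        interval_cases (c / 21 - 1) <;> simp [pqlList]
      have hf : fmulC (3 * (pqlList.getD (c / 21 - 1) (0, 0, 0)).2.1 +
          (pqlList.getD (c / 21 - 1) (0, 0, 0)).2.2) (c % 21) < 21 := by unfold fmulC; omega
      simp only [sig]
      rw [if_neg h1, if_neg (by omega)]
      refine ⟨?_, by omega⟩
      rw [show ∀ p q : ℕ, q < 21 → ((p + 1) * 21 + q) / 21 - 1 = p from fun p q hq => by omega,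
        show ∀ p q : ℕ, q < 21 → ((p + 1) * 21 + q) % 21 = q from fun p q hq => by omega, ← h.frob_mul]
      · calc w * (g ^ (c / 21 - 1) * w * frob g s (c % 21))
            = w * g ^ (c / 21 - 1) * w * frob g s (c % 21) := by group
          _ = _ := by rw [h.wgw hi h2]; group
      · exact hf
      · exact hf

theorem LRel.iterG {c : ℕ} (hc : c < 168) (n : ℕ) :
    g ^ n * sig g s w c = sig g s w ((stepG^[n]) c) ∧ (stepG^[n]) c < 168 := by
  induction n with
  | zero => simpa using hc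
  | succ n ih =>
    rw [Function.iterate_succ_apply']
    exact ⟨by rw [pow_succ', mul_assoc, ih.1, (h.stepG_eq ih.2).1], (h.stepG_eq ih.2).2⟩

theorem LRel.frob_sig (f : ℕ) {c : ℕ} (hc : c < 168) :
    frob g s f * sig g s w c = sig g s w ((stepG^[f / 3]) (if c < 21 then fmulC (f % 3) c else
      (stepG^[2 ^ (f % 3) * (c / 21 - 1) % 7]) (stepW (fmulC (2 * (f % 3) % 3) (c % 21))))) ∧
      (stepG^[f / 3]) (if c < 21 then fmulC (f % 3) c else
      (stepG^[2 ^ (f % 3) * (c / 21 - 1) % 7]) (stepW (fmulC (2 * (f % 3) % 3) (c % 21)))) < 168 := by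
  have hs : ∀ b, b < 3 → s ^ b = frob g s b := fun b hb => by
    rw [frob, show b / 3 = 0 by omega, show b % 3 = b by omega, pow_zero, one_mul]
  have key : s ^ (f % 3) * sig g s w c = sig g s w (if c < 21 then fmulC (f % 3) c else
      (stepG^[2 ^ (f % 3) * (c / 21 - 1) % 7]) (stepW (fmulC (2 * (f % 3) % 3) (c % 21)))) ∧
      (if c < 21 then fmulC (f % 3) c else
      (stepG^[2 ^ (f % 3) * (c / 21 - 1) % 7]) (stepW (fmulC (2 * (f % 3) % 3) (c % 21)))) < 168 := by
    by_cases h1 : c < 21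
    · have hf : fmulC (f % 3) c < 21 := by unfold fmulC; omega
      rw [if_pos h1, sig, if_pos h1, sig, if_pos hf, hs _ (by omega), h.frob_mul]
      exact ⟨rfl, by omega⟩
    · have hf : fmulC (2 * (f % 3) % 3) (c % 21) < 21 := by unfold fmulC; omega
      rw [if_neg h1]
      refine ⟨?_, (h.iterG (h.stepW_eq (by omega)).2 _).2⟩
      rw [← (h.iterG (h.stepW_eq (show fmulC (2 * (f % 3) % 3) (c % 21) < 168 by omega)).2 _).1,
        ← (h.stepW_eq (show fmulC (2 * (f % 3) % 3) (c % 21) < 168 by omega)).1]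
      simp only [sig, if_neg h1, if_pos hf]
      rw [← h.frob_mul, ← hs _ (show 2 * (f % 3) % 3 < 3 by omega)]
      calc s ^ (f % 3) * (g ^ (c / 21 - 1) * w * frob g s (c % 21))
          = (s ^ (f % 3) * g ^ (c / 21 - 1)) * w * frob g s (c % 21) := by group
        _ = g ^ (2 ^ (f % 3) * (c / 21 - 1)) * (s ^ (f % 3) * w) * frob g s (c % 21) := by
          rw [h.s_pow_g]; group
        _ = g ^ (2 ^ (f % 3) * (c / 21 - 1) % 7) * (w * s ^ (2 * (f % 3) % 3)) * frob g s (c % 21) := by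
          rw [← h.g_mod, h.w_pow_s, show 2 * (2 * (f % 3) % 3) % 3 = f % 3 by omega]
        _ = _ := by simp only [mul_assoc]
  refine ⟨?_, (h.iterG key.2 _).2⟩
  rw [frob, mul_assoc, key.1, (h.iterG key.2 _).1]

/-- The relations give a homomorphism. -/
theorem LRel.sig_hom {a b : ℕ} (ha : a < 168) (hb : b < 168) :
    sig g s w (mulL a b) = sig g s w a * sig g s w b ∧ mulL a b < 168 := by
  rw [← Nat.eq_of_beq_eq_true (allUpTo_spec (allUpTo_spec steps_ok ha) hb)]
  unfold stepsC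
  by_cases h1 : a < 21
  · have := h.frob_sig a hb
    simp only [if_pos h1]
    exact ⟨by rw [← this.1]; simp only [sig, if_pos h1], this.2⟩
  · have e1 := h.frob_sig (a % 21) hb
    have e2 := h.stepW_eq e1.2
    have e3 := h.iterG e2.2 (a / 21 - 1)
    simp only [if_neg h1]
    refine ⟨?_, e3.2⟩
    rw [← e3.1, ← e2.1, ← e1.1]
    simp only [sig, if_neg h1]
    group

end Cfsg.Agent.HSUniq
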