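import Cfsg.Agent.Lib.HSUniq.LocalMBraid
import Cfsg.Agent.Lib.HSUniq.HHom

/-!
The second local subgroup is the model of order `10752`, and the normal 2-subgroup of the centraliser is one of
two lists in it.
-/

set_option autoImplicit false
set_option maxRecDepth 30000

namespace Cfsg.Agent.HSUniq

open LocM

variable {G : Type*} [Group G] [Finite G]

attribute [local irreducible] linC actL qPow qa bC mulM toM mulL

theorem exists_mdata (t : G) (ht : orderOf t = 2) (H : Subgroup G) (hH : H = Subgroup.centralizer ({t} : Set G))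
    (R : Subgroup G) (hR : R = (Cfsg.pCore 2 H).map H.subtype)
    (Cy E : Subgroup G) (hCy : IsCyclic Cy) (hCycard : Nat.card Cy = 4)
    (hCyle : Cy ≤ R ⊓ Subgroup.centralizer (R : Set G))
    (hEle : E ≤ R) (hEex : Cfsg.IsExtraspecial 2 E) (hEcard : Nat.card E = 32)
    (hprod : Cy ⊔ E = R) (hmeet : Cy ⊓ E = E ⊓ Subgroup.centralizer (E : Set G))
    (eH : H ⧸ Cfsg.pCore 2 H ≃* Equiv.Perm (Fin 5))
    (V : Subgroup G) (hVcomm : IsMulCommutative V) (hVexp : ∀ v ∈ V, v ^ 2 = 1) (hVcard : Nat.card V = 8)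
    (hVR : V ≤ R) (M : Subgroup G) (hM : M = Subgroup.normalizer (V : Set G))
    (eOM : Cfsg.pCore 2 M ≃* Multiplicative (ZMod 4 × ZMod 4 × ZMod 4))
    (eM : M ⧸ Cfsg.pCore 2 M ≃* GL (Fin 3) (ZMod 2)) :
    ∃ v g s w : G, MRel v g s w ∧ v * v = t ∧
      (∀ a b, a < 10752 → b < 10752 → emM v g s w a = emM v g s w b → a = b) ∧
      (∀ x, x ∈ M ↔ ∃ c < 10752, emM v g s w c = x) ∧
      ((∀ x, x ∈ R ↔ ∃ c ∈ rList, eB v g s w c = x) ∨ (∀ x, x ∈ R ↔ ∃ c ∈ rList', eB v g s w c = x)) := by
  classical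
  have f := rFacts ht hH hR hCy hCycard hCyle hEle hEex hEcard hprod hmeet
  have hHcard : Nat.card H = 7680 := by
    have h := f.card
    rw [hR, Subgroup.card_map_of_injective Subtype.val_injective] at h
    rw [Subgroup.card_eq_card_quotient_mul_card_subgroup (Cfsg.pCore 2 H), Nat.card_congr eH.toEquiv, h,
      Nat.card_perm, Nat.card_fin]
    rfl
  have hcy : ∀ c ∈ Cy, c ∈ R ∧ ∀ y ∈ R, c * y = y * c := fun c hc =>
    ⟨(hCyle hc).1, fun y hy => (Subgroup.mem_centralizer_iff.1 (hCyle hc).2 y hy).symm⟩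
  have L := loc f hH hR hcy hHcard (fun x hx y hy => congrArg Subtype.val (hVcomm.is_comm.comm ⟨x, hx⟩ ⟨y, hy⟩))
    hVexp hVcard hVR hM eOM eM
  set A := (Cfsg.pCore 2 M).map M.subtype
  obtain ⟨v, g, s, F⟩ := exists_frame L
  obtain ⟨w, W, hcube⟩ := F.exists_braided L
  have hm := F.modRel L
  have w' : w⁻¹ = w := inv_eq_of_mul_eq_one_right W.w2
  have hbraid : w * g * w = g ^ 6 * w * g ^ 6 := by
    have gi : g ^ 6 = g⁻¹ := (inv_eq_of_mul_eq_one_right (by rw [← pow_succ', F.g7])).symm
    calc w * g * w = (w * g) ^ 3 * (g⁻¹ * w⁻¹ * g⁻¹) := by simp [pow_succ, mul_assoc]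
      _ = g ^ 6 * w * g ^ 6 := by rw [hcube, one_mul, w', gi]
  have h : MRel v g s w := ⟨⟨F.g7, F.s3, F.sg, W.w2, W.ws, hbraid⟩, L.expA v F.vA, hm.c12.eq, hm.c13.eq, F.cg, F.sv,
    W.cw, W.cw2⟩
  refine ⟨v, g, s, w, h, F.v2, ?_⟩
  have hsigM : ∀ x, sig g s w x ∈ M := fun x => by
    unfold sig frob
    split
    · exact M.mul_mem (M.pow_mem F.gM _) (M.pow_mem F.sM _)
    · exact M.mul_mem (M.mul_mem (M.pow_mem F.gM _) W.wM) (M.mul_mem (M.pow_mem F.gM _) (M.pow_mem F.sM _))
  have hemM : ∀ c, emM v g s w c ∈ M := fun c => M.mul_mem (L.AM (F.mvec_mem L _)) (hsigM _)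
  have hinj : ∀ a b, a < 10752 → b < 10752 → emM v g s w a = emM v g s w b → a = b := by
    intro a b ha hb e
    simp only [emM] at e
    have hsig : a % 168 = b % 168 := by
      have hk := allUpTo_spec (allUpTo_spec faithful (show a % 168 < 168 by omega)) (show b % 168 < 168 by omega)
      have key : ∀ c < 64, actL (a % 168) c = actL (b % 168) c := by
        intro c hc
        have hx : Acts v g (emM v g s w a) (actL (a % 168)) := fun c hc => by
          have hlt : actL (a % 168) c < 64 := by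
            have hh := allUpTo_spec (allUpTo_spec act_comp (show a % 168 < 168 by omega)) hc
            simp only [Bool.and_eq_true, Nat.blt_eq] at hh
            exact hh.1.2
          refine ⟨hlt, ?_⟩
          rw [emM, mul_assoc, h.sig_act (by omega) hc, ← mul_assoc, ← mul_assoc,
            L.commA _ (F.mvec_mem L _) _ (F.mvec_mem L _)]
        have hy : Acts v g (emM v g s w b) (actL (b % 168)) := fun c hc => by
          have hlt : actL (b % 168) c < 64 := by
            have hh := allUpTo_spec (allUpTo_spec act_comp (show b % 168 < 168 by omega)) hc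
            simp only [Bool.and_eq_true, Nat.blt_eq] at hh
            exact hh.1.2
          refine ⟨hlt, ?_⟩
          rw [emM, mul_assoc, h.sig_act (by omega) hc, ← mul_assoc, ← mul_assoc,
            L.commA _ (F.mvec_mem L _) _ (F.mvec_mem L _)]
        refine F.acts_eq L hx ?_ hc
        rw [show emM v g s w a = emM v g s w b from e]
        exact hy
      have hu : (onUnits fun c => Nat.beq (actL (a % 168) c) (actL (b % 168) c)) = true := by
        refine onUnits_spec.2 ?_
        simp only [Nat.beq_eq]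
        exact ⟨key 16 (by norm_num), key 4 (by norm_num), key 1 (by norm_num)⟩
      rw [hu] at hk
      simpa using hk
    rw [hsig] at e
    have := F.mvec_inj L (show a / 168 < 64 by omega) (show b / 168 < 64 by omega) (mul_right_cancel e)
    omega
  refine ⟨hinj, ?_, ?_⟩
  · have hb : Function.Bijective (fun c : Fin 10752 => (⟨emM v g s w c, hemM c⟩ : M)) :=
      (Nat.bijective_iff_injective_and_card _).2 ⟨fun a b e => Fin.ext (hinj a b a.2 b.2 (congrArg Subtype.val e)),
        by rw [Nat.card_fin, L.cardM]⟩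
    refine fun x => ⟨fun hx => ?_, fun ⟨c, _, e⟩ => e ▸ hemM c⟩
    obtain ⟨c, hc⟩ := hb.2 ⟨x, hx⟩
    exact ⟨c, c.2, congrArg Subtype.val hc⟩
  -- the normal 2-subgroup of the centraliser
  obtain ⟨a, ha, hgood, hmem⟩ := F.exists_good L W (al := 0) (by norm_num) (by rw [hcube]; simp [mvec])
  have hpure : ∀ u, emM v g s w (u * 168) = mvec v g u := fun u => by
    rw [emM, Nat.mul_div_cancel u (by norm_num), Nat.mul_mod_left]
    simp [sig, frob]
  have e96 : emM v g s w (a * 168 + 96) = mvec v g a * (g ^ 3 * w * g ^ 4) := by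
    rw [emM, show (a * 168 + 96) / 168 = a by omega, show (a * 168 + 96) % 168 = 96 by omega]
    simp [sig, frob]
  have e1 : emM v g s w 1 = s := by simp [emM, sig, frob, mvec]
  have e2 : emM v g s w 2 = s ^ 2 := by simp [emM, sig, frob, mvec]
  have r1lt : a * 168 + 96 < 10752 := by omega
  have r1R : emM v g s w (a * 168 + 96) ∈ R := by rw [e96]; exact hmem
  have m1 := h.hom (show 1 < 10752 by norm_num) r1lt
  have m2 := h.hom m1.2 (show 2 < 10752 by norm_num)
  have r2R : emM v g s w (mulM (mulM 1 (a * 168 + 96)) 2) ∈ R := by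
    rw [m2.1, m1.1, e1, e2]
    have hs2 : s⁻¹ = s ^ 2 := inv_eq_of_mul_eq_one_right (by rw [← pow_succ', F.s3])
    rw [← hs2]
    exact L.fixR s (F.st L) _ r1R
  have m3 := h.hom r1lt m2.2
  have hreps : ∀ e ∈ reps a, e < 10752 ∧ emM v g s w e ∈ R := by
    intro e he
    simp only [reps, List.mem_cons, List.not_mem_nil, or_false] at he
    rcases he with rfl | rfl | rfl | rfl
    · refine ⟨by norm_num, ?_⟩
      rw [← Nat.zero_mul 168, hpure]
      simp [mvec, R.one_mem]
    · exact ⟨r1lt, r1R⟩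
    · exact ⟨m2.2, r2R⟩
    · exact ⟨m3.2, m3.1 ▸ R.mul_mem r1R r2R⟩
  have hin : ∀ x < 10752, inCosets a x = true → emM v g s w x ∈ R := by
    intro x hx hc
    simp only [inCosets, List.any_eq_true, Bool.and_eq_true, Nat.beq_eq, Nat.blt_eq] at hc
    obtain ⟨e, he, ⟨h0, hra⟩, hlt⟩ := hc
    obtain ⟨helt, heR⟩ := hreps e he
    have m := h.hom hx helt
    have hu : mulM x e = mulM x e / 168 * 168 := by omega
    have hRu : emM v g s w (mulM x e) ∈ R := by
      rw [hu, hpure]
      exact (F.mem_R L (by omega)).2 hra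
    rw [m.1] at hRu
    exact (mul_mem_cancel_right heR).1 hRu
  have final : ∀ l : List ℕ, (l.map toM).Nodup → l.length = 64 → (∀ c ∈ l, c < 1536) →
      (l.map toM).all (inCosets a) = true → ∀ x, x ∈ R ↔ ∃ c ∈ l, eB v g s w c = x := by
    intro l hnd hlen hlt hall
    have hlt' : ∀ c ∈ l, toM c < 10752 := fun c hc => by
      have h1 := allUpTo_spec toM_h (show c % 24 < 24 by omega)
      simp only [Bool.and_eq_true, Nat.blt_eq] at h1
      have := h1.1.2
      have := hlt c hc
      unfold toM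
      omega
    have hmemR : ∀ c ∈ l, eB v g s w c ∈ R := fun c hc =>
      hin _ (hlt' c hc) (List.all_eq_true.1 hall _ (List.mem_map.2 ⟨c, hc, rfl⟩))
    have hnd' := List.inj_on_of_nodup_map hnd
    have hndl := List.Nodup.of_map _ hnd
    have hb : Function.Bijective (fun i : Fin l.length => (⟨eB v g s w l[(i : ℕ)], hmemR _ (List.getElem_mem _)⟩ : R)) := by
      refine (Nat.bijective_iff_injective_and_card _).2 ⟨fun i j e => Fin.ext ?_, by rw [Nat.card_fin, hlen, L.f.card]⟩
      have e' : toM l[(i : ℕ)] = toM l[(j : ℕ)] :=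
        hinj _ _ (hlt' _ (List.getElem_mem _)) (hlt' _ (List.getElem_mem _)) (congrArg Subtype.val e)
      exact hndl.getElem_inj_iff.1 (hnd' (List.getElem_mem _) (List.getElem_mem _) e')
    refine fun x => ⟨fun hx => ?_, fun ⟨c, hc, e⟩ => e ▸ hmemR c hc⟩
    obtain ⟨i, hi⟩ := hb.2 ⟨x, hx⟩
    exact ⟨_, List.getElem_mem _, congrArg Subtype.val hi⟩
  obtain ⟨n1, n2, l1, l2, b1, b2⟩ := lists_nodup
  have hk := allUpTo_spec lists_ok ha
  rw [hgood] at hk
  simp only [Bool.not_true, Bool.false_or, Bool.or_eq_true] at hk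
  rcases hk with hk | hk
  · exact Or.inl (final _ n1 l1 (fun c hc => Nat.blt_eq.mp (List.all_eq_true.1 b1 c hc)) hk)
  · exact Or.inr (final _ n2 l2 (fun c hc => Nat.blt_eq.mp (List.all_eq_true.1 b2 c hc)) hk)

end Cfsg.Agent.HSUniq
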