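import Cfsg.Prelude.Def_Solvable
import Cfsg.Prelude.Def_Transfer
import Cfsg.Agent.Lib.FiniteGroup.FittingPow
import Mathlib

/-!
The central product of a cyclic group of order four with an extraspecial group of order 32, and the second local
subgroup: first facts.
-/

set_option autoImplicit false

namespace Cfsg.Agent.HSUniq.LocM

open scoped commutatorElement

variable {G : Type*} [Group G] [Finite G]

theorem exists_central {Q : Type*} [Group Q] [Finite Q] (h : Cfsg.IsExtraspecial 2 Q) :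
    ∃ z : Q, z ∈ Subgroup.center Q ∧ (z ≠ 1 ∧ z * z = 1) := by
  obtain ⟨⟨z, hz⟩, hz1⟩ := (Nat.card_eq_two_iff' (1 : Subgroup.center Q)).1 h.2
  refine ⟨z, hz, fun e => hz1.1 (Subtype.ext e), ?_⟩
  have h2 : (⟨z, hz⟩ : Subgroup.center Q) ^ 2 = 1 := h.2 ▸ pow_card_eq_one'
  simpa [pow_two] using congrArg Subtype.val h2

theorem centre_cases {Q : Type*} [Group Q] [Finite Q] (h : Cfsg.IsExtraspecial 2 Q) {z : Q}
    (hz : z ∈ Subgroup.center Q) (hz2 : z ≠ 1 ∧ z * z = 1) {c : Q} (hc : c ∈ Subgroup.center Q) : c = 1 ∨ c = z := by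
  by_contra hne
  push Not at hne
  obtain ⟨w, -, hw⟩ := (Nat.card_eq_two_iff' (1 : Subgroup.center Q)).1 h.2
  exact hne.2 (congrArg Subtype.val ((hw ⟨c, hc⟩ fun e => hne.1 (congrArg Subtype.val e)).trans
    (hw ⟨z, hz⟩ fun e => hz2.1 (congrArg Subtype.val e)).symm))

theorem comm_cases {Q : Type*} [Group Q] [Finite Q] (h : Cfsg.IsExtraspecial 2 Q) {z : Q}
    (hz : z ∈ Subgroup.center Q) (hz2 : z ≠ 1 ∧ z * z = 1) (x y : Q) : x * y = y * x ∨ x * y = y * x * z := by
  have hc : ⁅x, y⁆ ∈ Subgroup.center Q :=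
    h.1.2.2 ▸ Subgroup.commutator_mem_commutator (Subgroup.mem_top x) (Subgroup.mem_top y)
  have e : x * y = ⁅x, y⁆ * (y * x) := by rw [commutatorElement_def]; group
  rcases centre_cases h hz hz2 hc with e' | e' <;> rw [e'] at e
  · exact Or.inl (by rw [e, one_mul])
  · exact Or.inr (by rw [e, ← Subgroup.mem_center_iff.1 hz])

theorem sq_cases {Q : Type*} [Group Q] [Finite Q] (h : Cfsg.IsExtraspecial 2 Q) {z : Q}
    (hz : z ∈ Subgroup.center Q) (hz2 : z ≠ 1 ∧ z * z = 1) (x : Q) : x * x = 1 ∨ x * x = z := by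
  refine centre_cases h hz hz2 (Subgroup.mem_center_iff.2 fun y => ?_)
  rcases comm_cases h hz hz2 x y with e | e
  · exact ((show Commute x y from e).mul_left e).eq.symm
  · have hcz := fun q : Q => Subgroup.mem_center_iff.1 hz q
    calc y * (x * x) = y * x * (z * z) * x := by rw [hz2.2]; group
      _ = y * x * z * z * x := by group
      _ = x * (y * z) * x := by rw [← e]; group
      _ = x * y * (z * x) := by group
      _ = x * y * (x * z) := by rw [hcz]
      _ = x * (y * x * z) := by group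
      _ = x * x * y := by rw [← e]; group

/-- The facts used on the normal 2-subgroup of the centraliser. -/
structure RFacts (t : G) (R Cy : Subgroup G) : Prop where
  tR : t ∈ R
  t1 : t ≠ 1
  t2 : t * t = 1
  card : Nat.card R = 64
  card_cy : Nat.card Cy = 4
  comm : ∀ x ∈ R, ∀ y ∈ R, x * y = y * x ∨ x * y = y * x * t
  sq : ∀ x ∈ R, x * x = 1 ∨ x * x = t
  centre : ∀ x ∈ R, (∀ y ∈ R, x * y = y * x) → x ∈ Cy
  four : ∃ c ∈ R, c * c = t ∧ ∀ y ∈ R, c * y = y * c
  cy_sq : ∀ x ∈ Cy, x * x = 1 → x = 1 ∨ x = t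

theorem rFacts {t : G} (ht : orderOf t = 2) {H : Subgroup G} (hH : H = Subgroup.centralizer ({t} : Set G))
    {R : Subgroup G} (hR : R = (Cfsg.pCore 2 H).map H.subtype) {Cy E : Subgroup G} (hCy : IsCyclic Cy)
    (hCycard : Nat.card Cy = 4) (hCyle : Cy ≤ R ⊓ Subgroup.centralizer (R : Set G)) (hEle : E ≤ R)
    (hEex : Cfsg.IsExtraspecial 2 E) (hEcard : Nat.card E = 32) (hprod : Cy ⊔ E = R)
    (hmeet : Cy ⊓ E = E ⊓ Subgroup.centralizer (E : Set G)) : RFacts t R Cy := by
  classical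
  have t2 : t * t = 1 := by rw [← pow_two, ← ht, pow_orderOf_eq_one]
  have t1 : t ≠ 1 := fun e => by rw [e, orderOf_one] at ht; exact absurd ht (by norm_num)
  have hcen : ∀ c ∈ Cy, ∀ y ∈ R, c * y = y * c := fun c hc y hy =>
    (Subgroup.mem_centralizer_iff.1 (hCyle hc).2 y hy).symm
  -- products
  let φ : ↥Cy × ↥E →* G :=
    { toFun := fun p => (p.1 : G) * (p.2 : G)
      map_one' := by simp
      map_mul' := fun p q => by
        show ((p.1 : G) * q.1) * ((p.2 : G) * q.2) = (p.1 : G) * p.2 * ((q.1 : G) * q.2)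
        calc ((p.1 : G) * q.1) * ((p.2 : G) * q.2) = (p.1 : G) * ((q.1 : G) * p.2) * q.2 := by group
          _ = (p.1 : G) * ((p.2 : G) * q.1) * q.2 := by rw [hcen _ q.1.2 _ (hEle p.2.2)]
          _ = _ := by group }
  have hrange : φ.range = R := by
    refine le_antisymm ?_ (hprod ▸ sup_le (fun c hc => ⟨(⟨c, hc⟩, 1), by simp [φ]⟩)
      (fun e he => ⟨(1, ⟨e, he⟩), by simp [φ]⟩))
    rintro _ ⟨p, rfl⟩
    exact mul_mem (hCyle p.1.2).1 (hEle p.2.2)
  have hker : Nat.card φ.ker = Nat.card ↥(Cy ⊓ E) := by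
    refine Nat.card_eq_of_bijective (fun p => ⟨(p.1.1 : G), p.1.1.2, ?_⟩) ⟨fun p q e => ?_, fun x => ?_⟩
    · have h : (p.1.1 : G) * (p.1.2 : G) = 1 := p.2
      rw [SetLike.mem_coe, eq_inv_of_mul_eq_one_left h]
      exact E.inv_mem p.1.2.2
    · have h1 : (p.1.1 : G) = q.1.1 := congrArg (fun w : ↥(Cy ⊓ E) => (w : G)) e
      have hp : (p.1.1 : G) * (p.1.2 : G) = 1 := p.2
      have hq : (q.1.1 : G) * (q.1.2 : G) = 1 := q.2
      rw [← hq, h1] at hp
      exact Subtype.ext (Prod.ext (Subtype.ext h1) (Subtype.ext (mul_left_cancel hp)))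
    · exact ⟨⟨(⟨x, x.2.1⟩, ⟨(x : G)⁻¹, inv_mem x.2.2⟩), by simp [φ, MonoidHom.mem_ker]⟩, rfl⟩
  -- the centre of the extraspecial group
  have hZ : ∀ x : E, x ∈ Subgroup.center E ↔ (x : G) ∈ Cy ⊓ E := by
    intro x
    rw [hmeet]
    constructor
    · exact fun h => ⟨x.2, Subgroup.mem_centralizer_iff.2 fun y hy =>
        congrArg Subtype.val (Subgroup.mem_center_iff.1 h ⟨y, hy⟩)⟩
    · exact fun h => Subgroup.mem_center_iff.2 fun y => Subtype.ext (Subgroup.mem_centralizer_iff.1 h.2 y y.2)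
  have hmeet2 : Nat.card ↥(Cy ⊓ E) = 2 := by
    rw [← hEex.2]
    exact Nat.card_congr ⟨fun x => ⟨⟨x, x.2.2⟩, (hZ _).2 x.2⟩, fun x => ⟨x.1, (hZ _).1 x.2⟩, fun _ => rfl,
      fun _ => rfl⟩
  have hcard : Nat.card R = 64 := by
    have h := φ.ker.card_mul_index
    rw [Subgroup.index_ker, hker, hmeet2, hrange, Nat.card_prod, hCycard, hEcard] at h
    omega
  have split : ∀ x ∈ R, ∃ c ∈ Cy, ∃ e ∈ E, x = c * e := by
    intro x hx
    rw [← hrange] at hx
    obtain ⟨p, rfl⟩ := hx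
    exact ⟨p.1, p.1.2, p.2, p.2.2, rfl⟩
  have hcentre : ∀ x ∈ R, (∀ y ∈ R, x * y = y * x) → x ∈ Cy := by
    intro x hx hcomm
    obtain ⟨c, hc, e, he, rfl⟩ := split x hx
    refine mul_mem hc ?_
    have he' : e ∈ E ⊓ Subgroup.centralizer (E : Set G) := by
      refine ⟨he, Subgroup.mem_centralizer_iff.2 fun y hy => ?_⟩
      have h := hcomm y (hEle hy)
      rw [mul_assoc, ← mul_assoc y, ← hcen c hc y (hEle hy), mul_assoc c y] at h
      exact (mul_left_cancel h).symm
    rw [← hmeet] at he'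
    exact he'.1
  -- the involution is in the centre
  have htH : t ∈ H := hH ▸ Subgroup.mem_centralizer_singleton_iff.2 rfl
  have hRH : R ≤ H := hR ▸ Subgroup.map_subtype_le _
  have htR : t ∈ R := by
    rw [hR]
    refine ⟨⟨t, htH⟩, ?_, rfl⟩
    have hmem : Subgroup.zpowers (⟨t, htH⟩ : H) ∈ {N : Subgroup H | N.Normal ∧ IsPGroup 2 N} := by
      refine ⟨⟨fun y hy g => ?_⟩, IsPGroup.of_card (n := 1) ?_⟩
      · obtain ⟨k, rfl⟩ := hy
        have hg : Commute g (⟨t, htH⟩ : H) := by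
          have h := g.2
          simp only [hH, Subgroup.mem_centralizer_singleton_iff] at h
          exact Subtype.ext h
        exact ⟨k, show _ = g * (⟨t, htH⟩ : H) ^ k * g⁻¹ by rw [(hg.zpow_right k).eq, mul_inv_cancel_right]⟩
      · rw [Nat.card_zpowers, Subgroup.orderOf_mk, ht, pow_one]
    exact le_sSup hmem (Subgroup.mem_zpowers _)
  have htc : ∀ y ∈ R, t * y = y * t := fun y hy => by
    have h := hRH hy
    rw [hH, Subgroup.mem_centralizer_singleton_iff] at h
    exact h.symm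
  have htCy : t ∈ Cy := hcentre t htR htc
  obtain ⟨c0, hc0⟩ := IsCyclic.exists_generator (α := Cy)
  have ho : orderOf c0 = 4 := by rw [orderOf_eq_card_of_forall_mem_zpowers hc0, hCycard]
  have c4 : (c0 : G) * c0 * ((c0 : G) * c0) = 1 := by
    have h : ((c0 : G)) ^ 4 = 1 := by rw [← ho, ← Subgroup.orderOf_coe c0, pow_orderOf_eq_one]
    rw [← h]; simp [pow_succ, mul_assoc]
  have huniq : ∀ x ∈ Cy, x * x = 1 → x = 1 ∨ x = (c0 : G) * c0 := by
    intro x hx h2
    obtain ⟨k, hk, e⟩ := Finset.mem_image.1 (mem_zpowers_iff_mem_range_orderOf.1 (hc0 ⟨x, hx⟩))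
    rw [Finset.mem_range, ho] at hk
    have e' : (c0 : G) ^ k = x := congrArg Subtype.val e
    have hne : (c0 : G) * c0 ≠ 1 := fun h => by
      have : (c0 : G) ^ 2 = 1 := by rw [pow_two, h]
      rw [← orderOf_dvd_iff_pow_eq_one, Subgroup.orderOf_coe, ho] at this
      norm_num at this
    interval_cases k
    · exact Or.inl (by rw [← e', pow_zero])
    · rw [← e', pow_one] at h2; exact absurd h2 hne
    · exact Or.inr (by rw [← e', pow_two])
    · rw [← e'] at h2
      refine absurd ?_ hne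
      calc (c0 : G) * c0 = (c0 : G) * c0 * ((c0 : G) * c0 * ((c0 : G) * c0)) := by rw [c4, mul_one]
        _ = (c0 : G) ^ 3 * (c0 : G) ^ 3 := by simp [pow_succ, mul_assoc]
        _ = 1 := h2
  have htc0 : t = (c0 : G) * c0 := (huniq t htCy t2).resolve_left t1
  have hcy_sq : ∀ x ∈ Cy, x * x = 1 → x = 1 ∨ x = t := fun x hx h => htc0 ▸ huniq x hx h
  obtain ⟨z, hz1, hz2⟩ := exists_central hEex
  have hzt : (z : G) = t := by
    refine (hcy_sq z ((hZ z).1 hz1).1 ?_).resolve_left fun h => hz2.1 (Subtype.ext h)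
    exact congrArg Subtype.val hz2.2
  have hEcomm : ∀ a ∈ E, ∀ b ∈ E, a * b = b * a ∨ a * b = b * a * t := by
    intro a ha b hb
    rcases comm_cases hEex hz1 hz2 ⟨a, ha⟩ ⟨b, hb⟩ with h | h
    · exact Or.inl (congrArg Subtype.val h)
    · exact Or.inr (hzt ▸ congrArg Subtype.val h)
  have hEsq : ∀ a ∈ E, a * a = 1 ∨ a * a = t := by
    intro a ha
    rcases sq_cases hEex hz1 hz2 ⟨a, ha⟩ with h | h
    · exact Or.inl (congrArg Subtype.val h)
    · exact Or.inr (hzt ▸ congrArg Subtype.val h)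
  refine ⟨htR, t1, t2, hcard, hCycard, ?_, ?_, hcentre, ⟨c0, (hCyle c0.2).1, htc0.symm, hcen c0 c0.2⟩, hcy_sq⟩
  · intro x hx y hy
    obtain ⟨c, hc, e, he, rfl⟩ := split x hx
    obtain ⟨d, hd, f, hf, rfl⟩ := split y hy
    have e1 : c * e * (d * f) = c * d * (e * f) := by
      calc c * e * (d * f) = c * (e * d) * f := by group
        _ = c * (d * e) * f := by rw [hcen d hd e (hEle he)]
        _ = _ := by group
    have e2 : d * f * (c * e) = c * d * (f * e) := by
      calc d * f * (c * e) = d * (f * c) * e := by group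
        _ = d * (c * f) * e := by rw [hcen c hc f (hEle hf)]
        _ = d * c * (f * e) := by group
        _ = _ := by rw [hcen c hc d ((hCyle hd).1)]
    rw [e1, e2]
    rcases hEcomm e he f hf with h | h
    · exact Or.inl (by rw [h])
    · exact Or.inr (by rw [h, ← mul_assoc])
  · intro x hx
    obtain ⟨c, hc, e, he, rfl⟩ := split x hx
    have e1 : c * e * (c * e) = c * c * (e * e) := by
      calc c * e * (c * e) = c * (e * c) * e := by group
        _ = c * (c * e) * e := by rw [hcen c hc e (hEle he)]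
        _ = _ := by group
    rw [e1]
    have hcc : c * c = 1 ∨ c * c = t := by
      refine hcy_sq _ (mul_mem hc hc) ?_
      have h4 : (⟨c, hc⟩ : Cy) ^ 4 = 1 := hCycard ▸ pow_card_eq_one'
      have := congrArg Subtype.val h4
      simpa [pow_succ, mul_assoc] using this
    rcases hcc with h | h <;> rcases hEsq e he with h' | h' <;> rw [h, h']
    · left; rw [one_mul]
    · right; rw [one_mul]
    · right; rw [mul_one]
    · left; exact t2

end Cfsg.Agent.HSUniq.LocM
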