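import Cfsg.Agent.Lib.HSUniq.LocalMInvol

/-!
The braid relation of the second local subgroup, read from the normal 2-subgroup of the centraliser.
-/

set_option autoImplicit false
set_option maxRecDepth 30000

namespace Cfsg.Agent.HSUniq.LocM

variable {G : Type*} [Group G] [Finite G] {t : G} {R Cy A V M : Subgroup G} (L : Loc t R Cy A V M)
  {v g s : G} (F : Frame t A V M v g s)

/-- An involution with the standard action. -/
structure Std (A M : Subgroup G) (v g s w : G) : Prop extends Inv2 M s w where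
  cw : w * v = v ^ 3 * w
  cw2 : w * (g * v * g⁻¹) = g ^ 2 * v * (g ^ 2)⁻¹ * w
  cube : (w * g) ^ 3 ∈ A

include L F

attribute [local irreducible] linC actL qPow qa bC

theorem Frame.act_w {w : G} (W : Std A M v g s w) : Acts v g w (actL 21) := by
  have w' : w⁻¹ = w := inv_eq_of_mul_eq_one_right W.w2
  refine (F.acts_lin L (i := 48) (j := 1) (k := 4) (by norm_num) (by norm_num) (by norm_num) ?_ ?_ ?_).congr fun a ha => ?_
  · rw [W.cw]; simp [mvec]
  · rw [(mvec_units v g).2.2.2, W.cw2]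
  · rw [(mvec_units v g).2.2.1]
    calc w * (g ^ 2 * v * (g ^ 2)⁻¹) = w * (g ^ 2 * v * (g ^ 2)⁻¹ * w) * w := by simp only [mul_assoc, W.w2, mul_one]
      _ = w * (w * (g * v * g⁻¹)) * w := by rw [W.cw2]
      _ = _ := by simp only [← mul_assoc, W.w2, one_mul]
  · have h := allUpTo_spec gen_ok.1 ha
    simp only [Bool.and_eq_true, Nat.beq_eq] at h
    exact h.2

theorem Frame.cube_code {w : G} (W : Std A M v g s w) : ∃ al < 64, isAl al = true ∧ mvec v g al = (w * g) ^ 3 := by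
  obtain ⟨al, hal, e⟩ := F.code L W.cube
  refine ⟨al, hal, ?_, e⟩
  obtain ⟨hlt, he⟩ := ((F.act_w L W).comp (F.act_g L)) al hal
  have : actL 21 (actL 3 al) = al := by
    refine F.mvec_inj L hlt hal (mul_right_cancel (b := w * g) (he.symm.trans ?_))
    rw [e, ← pow_succ', pow_succ]
  have h := allUpTo_spec fixed_wg hal
  simp only [this, Nat.beq_refl, Bool.not_true, Bool.false_or] at h
  exact h

theorem Frame.relation {w : G} (W : Std A M v g s w) {al : ℕ} (hal : al < 64) (e : mvec v g al = (w * g) ^ 3) :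
    w * (g ^ 3 * w * g ^ 4) * w = mvec v g (bC al) * (g ^ 6 * w * g ^ 2 * s) ∧ bC al < 64 := by
  have hm := F.modRel L
  have hw := F.act_w L W
  have hg := F.act_g L
  have hs := F.act_s L
  obtain ⟨en, hn⟩ := hm.mvec_pow hal 3
  set n := qPow al 3
  have hinv : mvec v g n = ((w * g) ^ 3)⁻¹ := by
    rw [en, e]
    exact (inv_eq_of_mul_eq_one_right (by rw [← pow_succ', L.expA _ W.cube])).symm
  have g7 := F.g7
  have w' : w⁻¹ = w := inv_eq_of_mul_eq_one_right W.w2
  have gi : g⁻¹ = g ^ 6 := inv_eq_of_mul_eq_one_right (by rw [← pow_succ', g7])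
  have hsw : s * w = w * s ^ 2 := by
    calc s * w = (s ^ 3) * (s * w) := by rw [F.s3, one_mul]
      _ = s ^ 2 * (s ^ 2 * w) := by simp [pow_succ, mul_assoc]
      _ = s ^ 2 * (w * s) := by rw [W.ws]
      _ = (s ^ 2 * w) * s := by group
      _ = w * s ^ 2 := by rw [← W.ws]; simp [pow_succ, mul_assoc]
  have hsg : ∀ m, s * g ^ m = g ^ (2 * m % 7) * s := fun m => by
    rw [← pow_eq_pow_mod _ g7, pow_mul]
    exact ((show SemiconjBy s g (g ^ 2) from F.sg).pow_right m).eq
  have e6 : w * g ^ 6 * w = mvec v g (actL 3 n) * (g * w * g) := by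
    have h : Commute (w * g) (mvec v g n) := by
      rw [hinv]; exact ((Commute.refl (w * g)).pow_right 3).inv_right
    calc w * g ^ 6 * w = g * ((w * g) * ((w * g) ^ 3)⁻¹) := by
          rw [← gi]; calc w * g⁻¹ * w = w⁻¹ * g⁻¹ * w⁻¹ := by rw [w']
            _ = _ := by simp [pow_succ, mul_assoc]
      _ = g * (mvec v g n * (w * g)) := by rw [← hinv, h.eq]
      _ = (g * mvec v g n) * (w * g) := by group
      _ = _ := by rw [(hg n hn).2]; group
  obtain ⟨h1, ec1⟩ := hg n hn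
  obtain ⟨hbe, ebe⟩ := hs _ h1
  set be := actL 1 (actL 3 n) with hbe'
  have e3 : w * g ^ 3 * w = mvec v g be * (g ^ 2 * w * g ^ 4 * s) := by
    have hl : s * (w * g ^ 6 * w) = w * g ^ 3 * w * s := by
      calc s * (w * g ^ 6 * w) = w * (s * (s * g ^ 6)) * w := by rw [show s * (w * g ^ 6 * w) = s * w * g ^ 6 * w by group, hsw, pow_two]; group
        _ = w * (s * g ^ 5) * s * w := by rw [hsg]; group
        _ = w * g ^ 3 * (s * (s * w)) := by rw [hsg]; group
        _ = w * g ^ 3 * (w * s ^ 2 * s ^ 2) := by rw [hsw, ← mul_assoc s w, hsw]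
        _ = w * g ^ 3 * w * (s ^ 3 * s) := by simp [pow_succ, mul_assoc]
        _ = _ := by rw [F.s3, one_mul]
    have hr : s * (mvec v g (actL 3 n) * (g * w * g)) = mvec v g be * (g ^ 2 * w * g ^ 4 * s) * s := by
      calc s * (mvec v g (actL 3 n) * (g * w * g)) = mvec v g be * ((s * g) * w * g) := by
            rw [← mul_assoc, ebe, mul_assoc]; group
        _ = mvec v g be * (g ^ 2 * (s * w) * g) := by rw [F.sg]; group
        _ = mvec v g be * (g ^ 2 * w * (s * (s * g))) := by rw [hsw, pow_two s]; group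
        _ = mvec v g be * (g ^ 2 * w * (s * g ^ 2) * s) := by rw [F.sg]; group
        _ = _ := by rw [hsg]; group
    exact mul_right_cancel (hl.symm.trans ((congrArg (s * ·) e6).trans hr))
  obtain ⟨hsb, esb⟩ := hs _ hbe
  have e5 : w * g ^ 5 * w = mvec v g (actL 1 be) * (g ^ 4 * w * g ^ 2 * s ^ 2) := by
    have hl : s * (w * g ^ 3 * w) = w * g ^ 5 * w * s := by
      calc s * (w * g ^ 3 * w) = w * (s * (s * g ^ 3)) * w := by rw [show s * (w * g ^ 3 * w) = s * w * g ^ 3 * w by group, hsw, pow_two]; group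
        _ = w * (s * g ^ 6) * s * w := by rw [hsg]; group
        _ = w * g ^ 5 * (s * (s * w)) := by rw [hsg]; group
        _ = w * g ^ 5 * (w * s ^ 2 * s ^ 2) := by rw [hsw, ← mul_assoc s w, hsw]
        _ = w * g ^ 5 * w * (s ^ 3 * s) := by simp [pow_succ, mul_assoc]
        _ = _ := by rw [F.s3, one_mul]
    have hr : s * (mvec v g be * (g ^ 2 * w * g ^ 4 * s)) = mvec v g (actL 1 be) * (g ^ 4 * w * g ^ 2 * s ^ 2) * s := by
      calc s * (mvec v g be * (g ^ 2 * w * g ^ 4 * s)) = mvec v g (actL 1 be) * ((s * g ^ 2) * w * g ^ 4 * s) := by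
            rw [← mul_assoc, esb, mul_assoc]; group
        _ = mvec v g (actL 1 be) * (g ^ 4 * (s * w) * g ^ 4 * s) := by rw [hsg]; group
        _ = mvec v g (actL 1 be) * (g ^ 4 * w * (s * (s * g ^ 4)) * s) := by rw [hsw, pow_two s]; group
        _ = mvec v g (actL 1 be) * (g ^ 4 * w * (s * g ^ 1) * s * s) := by rw [hsg]; group
        _ = _ := by rw [hsg]; simp [pow_succ, mul_assoc]
    exact mul_right_cancel (hl.symm.trans ((congrArg (s * ·) e3).trans hr))
  obtain ⟨hg1, eg1⟩ := hg _ hsb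
  obtain ⟨hg2, eg2⟩ := hg _ hg1
  have hb : bC al = qa be (actL 3 (actL 3 (actL 1 be))) := by unfold bC; rfl
  obtain ⟨eq, hq⟩ := F.mvec_qa L hbe hg2
  rw [hb]
  refine ⟨?_, hq⟩
  have hgg : g ^ 2 * mvec v g (actL 1 be) = mvec v g (actL 3 (actL 3 (actL 1 be))) * g ^ 2 := by
    calc g ^ 2 * mvec v g (actL 1 be) = g * (g * mvec v g (actL 1 be)) := by rw [pow_two, mul_assoc]
      _ = g * mvec v g (actL 3 (actL 1 be)) * g := by rw [eg1, mul_assoc]
      _ = _ := by rw [eg2, pow_two, mul_assoc]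
  calc w * (g ^ 3 * w * g ^ 4) * w = (w * g ^ 3 * w) * (g ^ 4 * w) := by group
    _ = mvec v g be * (g ^ 2 * w * g ^ 4 * (s * g ^ 4) * w) := by rw [e3]; group
    _ = mvec v g be * (g ^ 2 * w * g ^ 4 * g ^ 1 * (s * w)) := by rw [hsg]; group
    _ = mvec v g be * (g ^ 2 * w * (g ^ 4 * g ^ 1) * (w * s ^ 2)) := by rw [hsw]; group
    _ = mvec v g be * (g ^ 2 * (w * g ^ 5 * w) * s ^ 2) := by rw [← pow_add]; group
    _ = mvec v g be * ((g ^ 2 * mvec v g (actL 1 be)) * (g ^ 4 * w * g ^ 2 * (s ^ 2 * s ^ 2))) := by rw [e5]; group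
    _ = mvec v g be * mvec v g (actL 3 (actL 3 (actL 1 be))) * (g ^ 6 * w * g ^ 2 * (s ^ 3 * s)) := by
      rw [hgg]; simp [pow_succ, mul_assoc]
    _ = _ := by rw [F.s3, one_mul, eq]

theorem Frame.exists_good {w : G} (W : Std A M v g s w) {al : ℕ} (hal : al < 64) (e : mvec v g al = (w * g) ^ 3) :
    ∃ a < 64, good al a = true ∧ mvec v g a * (g ^ 3 * w * g ^ 4) ∈ R := by
  obtain ⟨hrel, hb⟩ := F.relation L W hal e
  have hw := F.act_w L W
  have hg := F.act_g L
  have hs := F.act_s L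
  set x1 := g ^ 3 * w * g ^ 4 with hx1
  have hx1M : x1 ∈ M := M.mul_mem (M.mul_mem (M.pow_mem F.gM 3) W.wM) (M.pow_mem F.gM 4)
  have g7' : g ^ 4 * g ^ 3 = 1 := by rw [← pow_add]; exact F.g7
  have g7'' : g ^ 3 * g ^ 4 = 1 := by rw [← pow_add]; exact F.g7
  have x12 : x1 * x1 = 1 := by
    calc x1 * x1 = g ^ 3 * (w * (g ^ 4 * g ^ 3) * w) * g ^ 4 := by rw [hx1]; group
      _ = 1 := by rw [g7', mul_one, W.w2, mul_one, g7'']
  have hX : Acts v g x1 (actL 96) := by
    refine (((hg.iter 3).comp hw).comp (hg.iter 4)).congr fun a ha => ?_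
    have h := Nat.eq_of_beq_eq_true (allUpTo_spec x_ok ha)
    simp only [Function.iterate_succ_apply', Function.iterate_zero_apply]
    exact h.symm
  obtain ⟨r, hr, h2, h3⟩ := (F.trans L).2 false true
  have hrA : r * x1 ∈ A := by
    refine F.mem_of_sq L (M.mul_mem (L.RM hr) hx1M) ((F.pattern L hr h2 h3).comp hX.sq) ?_
    have tab : allUpTo (fun a => Nat.beq (qPow (linC 16 4 17 (actL 96 a)) 2) (qPow a 2)) 64 = true := by
      decide +kernel
    intro a ha
    have ha' : a < 64 := by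
      simp only [List.mem_cons, List.not_mem_nil, or_false] at ha
      omega
    simpa using Nat.eq_of_beq_eq_true (allUpTo_spec tab ha')
  obtain ⟨a, ha, ea⟩ := F.code L hrA
  have er : mvec v g a * x1 = r := by rw [ea, mul_assoc, x12, mul_one]
  refine ⟨a, ha, ?_, er.symm ▸ hr⟩
  have hm := F.modRel L
  obtain ⟨hxa, exa⟩ := hX a ha
  obtain ⟨eq, hq⟩ := F.mvec_qa L ha hxa
  have hrr : r * r = mvec v g (qa a (actL 96 a)) := by
    rw [← er, eq]
    calc mvec v g a * x1 * (mvec v g a * x1) = mvec v g a * (x1 * mvec v g a) * x1 := by group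
      _ = mvec v g a * mvec v g (actL 96 a) * (x1 * x1) := by rw [exa]; group
      _ = _ := by rw [x12, mul_one]
  have h032 : qa a (actL 96 a) = 0 ∨ qa a (actL 96 a) = 32 := by
    rcases L.f.sq r hr with h | h
    · exact Or.inl (F.mvec_inj L hq (by norm_num) (by rw [← hrr, h]; simp [mvec]))
    · exact Or.inr (F.mvec_inj L hq (by norm_num) (by rw [← hrr, h]; simp [mvec, pow_two, F.v2]))
  -- the two conjugates
  have hwt : w * t = t * w := by
    have hw3 : w * v ^ 2 = (v ^ 3) ^ 2 * w := (show SemiconjBy w v (v ^ 3) from W.cw).pow_right 2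
    rw [show (v ^ 3) ^ 2 = v ^ 2 by rw [← pow_mul, show 3 * 2 = 4 + 2 from rfl, pow_add, L.expA v F.vA, one_mul],
      pow_two, F.v2] at hw3
    exact hw3
  have h1 := L.fixR w hwt r hr
  have h2' := L.fixR s (F.st L) r hr
  obtain ⟨hwa, ewa⟩ := hw a ha
  obtain ⟨hsa, esa⟩ := hs a ha
  obtain ⟨eq1, hq1⟩ := F.mvec_qa L hwa hb
  obtain ⟨en, hn⟩ := hm.mvec_pow hsa 3
  obtain ⟨eq2, hq2⟩ := F.mvec_qa L hq1 hn
  set x2 := g ^ 6 * w * g ^ 2 * s with hx2
  have hw' : w⁻¹ = w := inv_eq_of_mul_eq_one_right W.w2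
  have ew : w * r * w⁻¹ = mvec v g (qa (actL 21 a) (bC al)) * x2 := by
    rw [eq1, ← er, hw']
    calc w * (mvec v g a * x1) * w = (w * mvec v g a) * x1 * w := by group
      _ = mvec v g (actL 21 a) * (w * x1 * w) := by rw [ewa]; group
      _ = _ := by rw [hrel]; group
  have hsw : s * w = w * s ^ 2 := by
    calc s * w = (s ^ 3) * (s * w) := by rw [F.s3, one_mul]
      _ = s ^ 2 * (s ^ 2 * w) := by simp [pow_succ, mul_assoc]
      _ = s ^ 2 * (w * s) := by rw [W.ws]
      _ = (s ^ 2 * w) * s := by group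
      _ = w * s ^ 2 := by rw [← W.ws]; simp [pow_succ, mul_assoc]
  have hsg : ∀ m, s * g ^ m = g ^ (2 * m % 7) * s := fun m => by
    rw [← pow_eq_pow_mod _ F.g7, pow_mul]
    exact ((show SemiconjBy s g (g ^ 2) from F.sg).pow_right m).eq
  have es : s * r * s⁻¹ = mvec v g (actL 1 a) * x2 := by
    rw [← er, mul_inv_eq_iff_eq_mul]
    calc s * (mvec v g a * x1) = mvec v g (actL 1 a) * ((s * g ^ 3) * w * g ^ 4) := by
          rw [← mul_assoc, esa, hx1]; group
      _ = mvec v g (actL 1 a) * (g ^ 6 * (s * w) * g ^ 4) := by rw [hsg]; group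
      _ = mvec v g (actL 1 a) * (g ^ 6 * w * (s * (s * g ^ 4))) := by rw [hsw, pow_two]; group
      _ = mvec v g (actL 1 a) * (g ^ 6 * w * (s * g ^ 1) * s) := by rw [hsg]; group
      _ = _ := by rw [hsg, hx2]; group
  have hprod : mvec v g (qa (qa (actL 21 a) (bC al)) (qPow (actL 1 a) 3)) ∈ R := by
    have hinv : mvec v g (qPow (actL 1 a) 3) = (mvec v g (actL 1 a))⁻¹ := by
      rw [en]
      exact (inv_eq_of_mul_eq_one_right (by rw [← pow_succ']; exact L.expA _ (F.mvec_mem L _))).symm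
    rw [eq2, hinv, show mvec v g (qa (actL 21 a) (bC al)) * (mvec v g (actL 1 a))⁻¹ =
      (mvec v g (qa (actL 21 a) (bC al)) * x2) * (mvec v g (actL 1 a) * x2)⁻¹ by group, ← ew, ← es]
    exact R.mul_mem h1 (R.inv_mem h2')
  rw [good, (F.mem_R L hq2).1 hprod, Bool.and_true]
  rcases h032 with h | h <;> simp [h]

theorem Frame.exists_braided : ∃ w, Std A M v g s w ∧ (w * g) ^ 3 = 1 := by
  obtain ⟨w, W0, hcw, hcw2, hcube⟩ := F.exists_standard L
  have W : Std A M v g s w := ⟨W0, hcw, hcw2, hcube⟩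
  obtain ⟨al, hal, hisal, e⟩ := F.cube_code L W
  obtain ⟨a, ha, hgood, -⟩ := F.exists_good L W hal e
  simp only [isAl, Bool.or_eq_true, Nat.beq_eq] at hisal
  have hno := allUpTo_spec no_good ha
  rcases hisal with ((h | h) | h) | h
  · subst h; exact ⟨w, W, by rw [← e]; simp [mvec]⟩
  · subst h; simp [hgood] at hno
  swap
  · subst h; simp [hgood] at hno
  subst h
  have hm := F.modRel L
  have hT : Acts v g (w * g) (fun a => actL 21 (actL 3 a)) := (F.act_w L W).comp (F.act_g L)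
  have h16 : mvec v g 16 = v := (mvec_units v g).2.1
  obtain ⟨hlt1, e1⟩ := hT 16 (by norm_num)
  obtain ⟨hlt2, e2⟩ := hT _ hlt1
  obtain ⟨eq1, hq1⟩ := F.mvec_qa L (show 16 < 64 by norm_num) hlt1
  obtain ⟨eq2, hq2⟩ := F.mvec_qa L hq1 hlt2
  obtain ⟨eq3, hq3⟩ := F.mvec_qa L hq2 hal
  have v4 := L.expA v F.vA
  have hv3 : v * v ^ 3 = 1 := by rw [← pow_succ', v4]
  have hvc : ∀ n, Commute v (mvec v g n) := fun n => L.commA v F.vA _ (F.mvec_mem L n)
  refine ⟨v * w, ⟨⟨M.mul_mem (L.AM F.vA) W.wM, ?_, ?_⟩, ?_, ?_, ?_⟩, ?_⟩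
  · calc v * w * (v * w) = v * (w * v) * w := by group
      _ = v * v ^ 3 * (w * w) := by rw [W.cw]; group
      _ = 1 := by rw [hv3, W.w2, one_mul]
  · calc v * w * s = v * (s ^ 2 * w) := by rw [← W.ws, mul_assoc]
      _ = (v * s ^ 2) * w := by group
      _ = _ := by rw [((show Commute v s from (F.sv).symm).pow_right 2).eq, mul_assoc]
  · calc v * w * v = v * v ^ 3 * w := by rw [mul_assoc, W.cw, mul_assoc]
      _ = v ^ 3 * v * w := by rw [← pow_succ', pow_succ]
      _ = v ^ 3 * (v * w) := by rw [mul_assoc]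
  · calc v * w * (g * v * g⁻¹) = v * (g ^ 2 * v * (g ^ 2)⁻¹) * w := by rw [mul_assoc v w, W.cw2, ← mul_assoc v]
      _ = _ := by rw [L.commA v F.vA _ (F.conjA L 2), mul_assoc]
  · exact A.mul_mem (A.mul_mem (A.mul_mem F.vA (F.mvec_mem L (actL 21 (actL 3 16))))
      (F.mvec_mem L (actL 21 (actL 3 (actL 21 (actL 3 16)))))) W.cube |> fun h => by
      convert h using 1
      calc (v * w * g) ^ 3 = v * (w * g * v) * (w * g * v) * (w * g) := by simp [pow_succ, mul_assoc]
        _ = v * mvec v g (actL 21 (actL 3 16)) * (w * g * (mvec v g (actL 21 (actL 3 16)))) * (w * g) * (w * g) := by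
          rw [show w * g * v = w * g * mvec v g 16 by rw [h16], e1]; group
        _ = _ := by rw [e2]; simp [pow_succ, mul_assoc]
  · calc (v * w * g) ^ 3 = v * (w * g * v) * (w * g * v) * (w * g) := by simp [pow_succ, mul_assoc]
      _ = v * mvec v g (actL 21 (actL 3 16)) * (w * g * (mvec v g (actL 21 (actL 3 16)))) * (w * g) * (w * g) := by
          rw [show w * g * v = w * g * mvec v g 16 by rw [h16], e1]; group
      _ = mvec v g (qa (qa (qa 16 (actL 21 (actL 3 16))) (actL 21 (actL 3 (actL 21 (actL 3 16))))) 8) := by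
          rw [e2, eq3, eq2, eq1, h16, e]; simp [pow_succ, mul_assoc]
      _ = 1 := by rw [shift_ok]; simp [mvec]

end Cfsg.Agent.HSUniq.LocM
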