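import Cfsg.Agent.Lib.HSUniq.MHom
import Cfsg.Agent.Lib.HSUniq.LocalLists

/-!
Finite checks for the recognition of the second local subgroup.
-/

set_option autoImplicit false
set_option maxRecDepth 30000

namespace Cfsg.Agent.HSUniq.LocM

/-- Sum of two codes. -/
def qa (a b : ℕ) : ℕ := byte qTab (64 * a + b)

/-- The three units. -/
def onUnits (p : ℕ → Bool) : Bool := p 16 && p 4 && p 1

theorem onUnits_spec {p : ℕ → Bool} : onUnits p = true ↔ p 16 = true ∧ p 4 = true ∧ p 1 = true := by
  simp [onUnits, and_assoc]

theorem poly_ok : allUpTo (fun c => !Nat.beq ((linC 4 1 c)^[7] 16) 16 || Nat.beq c 25 || Nat.beq c 30) 64 = true := by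
  decide +kernel

theorem gen_ok : allUpTo (fun a => Nat.beq (actL 3 a) (linC 4 1 30 a) &&
    Nat.beq (actL 1 a) (linC 16 1 (actL 1 1) a) && Nat.beq (actL 21 a) (linC 48 1 4 a)) 64 = true ∧
    linC 4 1 30 30 = actL 1 1 ∧ actL 1 (actL 1 1) = 4 := by decide +kernel

theorem fixed_s : allUpTo (fun a => !(Nat.beq (actL 1 a) a && Nat.beq (qPow a 2) 32) || Nat.beq a 16 || Nat.beq a 48) 64 =
    true := by decide +kernel

/-- The action of a transvection on the squares. -/
def rC (a : ℕ) : ℕ := linC 16 20 1 a

/-- The product of two transvections. -/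
def uC (a : ℕ) : ℕ := rC ((actL 3)^[3] (rC ((actL 3)^[4] a)))

theorem u_ok : onUnits (fun a => Nat.beq (qPow (uC (uC (uC a))) 2) (qPow a 2)) = true ∧
    (onUnits fun a => Nat.beq (qPow (uC a) 2) (qPow a 2)) = false := by decide +kernel

/-- The action of an involution inverting the element of order three. -/
def wC (i j : ℕ) : ℕ → ℕ := linC i j (actL 1 (actL 1 j))

/-- The identities of an involution inverting the element of order three. -/
def condW (i j : ℕ) : Bool :=
  onUnits fun a => Nat.beq (wC i j (wC i j a)) a && Nat.beq (wC i j (actL 1 a)) (actL 1 (actL 1 (wC i j a)))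

/-- The action of a product with the element of order seven. -/
def tC (i j n a : ℕ) : ℕ := (actL 1)^[n] (wC i j ((actL 1)^[3 - n] (actL 3 a)))

/-- The two possible images of the first unit. -/
def isI (i : ℕ) : Bool := Nat.beq i 16 || Nat.beq i 48

theorem adjust_ok : allUpTo (fun i => !isI i || allUpTo (fun j => !condW i j ||
    (List.range 3).any (fun n => onUnits fun a => Nat.beq (qPow (tC i j n (tC i j n (tC i j n a))) 2) (qPow a 2))) 64)
    64 = true := by decide +kernel

theorem exact_ok : allUpTo (fun i => !isI i || allUpTo (fun j => !(condW i j &&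
    onUnits fun a => Nat.beq (tC i j 0 (tC i j 0 (tC i j 0 a))) a) || (Nat.beq i 48 && Nat.beq j 1)) 64) 64 =
    true := by decide +kernel

/-- The codes fixed by the product of the involution and the element of order seven. -/
def isAl (a : ℕ) : Bool := Nat.beq a 0 || Nat.beq a 4 || Nat.beq a 8 || Nat.beq a 12

theorem fixed_wg : allUpTo (fun a => !Nat.beq (actL 21 (actL 3 a)) a || isAl a) 64 = true := by decide +kernel

theorem shift_ok : qa (qa (qa 16 (actL 21 (actL 3 16))) (actL 21 (actL 3 (actL 21 (actL 3 16))))) 8 = 0 := by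
  decide +kernel

/-- Membership in the intersection of the normal subgroups. -/
def inRA (a : ℕ) : Bool := Nat.beq (a / 4 % 4 % 2) 0 && Nat.beq (a % 2) 0

/-- The codes of squares. -/
def vCodes : List ℕ := [0, 2, 8, 10, 32, 34, 40, 42]

/-- Three cosets of the squares. -/
def spread (a : ℕ) : List ℕ := vCodes ++ vCodes.map (qa a) ++ vCodes.map (qa (actL 1 a))

theorem ra_ok : allUpTo (fun a => inRA a || ((spread a).Nodup : Bool) && (spread a).all (fun c => Nat.blt c 64)) 64 = true := by
  decide +kernel

theorem ra_split : allUpTo (fun a => !inRA a || vCodes.contains a || vCodes.contains (qa a (qPow 16 3))) 64 = true ∧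
    allUpTo (fun a => Nat.beq (qPow (qPow a 2) 2) 0 && vCodes.contains (qPow a 2)) 64 = true := by
  decide +kernel

theorem x_ok : allUpTo (fun a => Nat.beq (actL 3 (actL 3 (actL 3 (actL 21 (actL 3 (actL 3 (actL 3 (actL 3 a))))))))
    (actL 96 a)) 64 = true := by decide +kernel

/-- The shift in the relation of the two transvections. -/
def bC (al : ℕ) : ℕ :=
  qa (actL 1 (actL 3 (qPow al 3))) (actL 3 (actL 3 (actL 1 (actL 1 (actL 3 (qPow al 3))))))

/-- The conditions on the translation of a transvection in the normal 2-subgroup. -/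
def good (al a : ℕ) : Bool :=
  (Nat.beq (qa a (actL 96 a)) 0 || Nat.beq (qa a (actL 96 a)) 32) &&
    inRA (qa (qa (actL 21 a) (bC al)) (qPow (actL 1 a) 3))

theorem no_good : allUpTo (fun a => !good 4 a && !good 12 a) 64 = true := by decide +kernel

/-- The four representatives. -/
def reps (a : ℕ) : List ℕ :=
  [0, a * 168 + 96, mulM (mulM 1 (a * 168 + 96)) 2, mulM (a * 168 + 96) (mulM (mulM 1 (a * 168 + 96)) 2)]

/-- Membership in the union of the cosets of the representatives. -/
def inCosets (a x : ℕ) : Bool :=
  (reps a).any fun e => Nat.beq (mulM x e % 168) 0 && inRA (mulM x e / 168) && Nat.blt (mulM x e) 10752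

theorem lists_ok : allUpTo (fun a => !good 0 a || (rList.map toM).all (inCosets a) || (rList'.map toM).all (inCosets a))
    64 = true := by decide +kernel

theorem lists_nodup : (rList.map toM).Nodup ∧ (rList'.map toM).Nodup ∧ rList.length = 64 ∧ rList'.length = 64 ∧
    (rList.all fun c => Nat.blt c 1536) = true ∧ (rList'.all fun c => Nat.blt c 1536) = true := by decide +kernel

theorem faithful : allUpTo (fun x => allUpTo (fun y => Nat.beq x y ||
    !onUnits fun a => Nat.beq (actL x a) (actL y a)) 168) 168 = true := by decide +kernel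

end Cfsg.Agent.HSUniq.LocM
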