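import Cfsg.Agent.Lib.HSUniq.LocalMMod
import Cfsg.Agent.Lib.HSUniq.LocalMCheck

/-!
The standard frame of the second local subgroup: the action of the elements of order seven and three.
-/

set_option autoImplicit false
set_option maxRecDepth 30000

namespace Cfsg.Agent.HSUniq.LocM

variable {G : Type*} [Group G] [Finite G]

/-- A start with the standard polynomial for the element of order seven. -/
structure Frame (t : G) (A V M : Subgroup G) (v g s : G) : Prop extends Start t A V M v g s where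
  cg : g ^ 3 * v * (g ^ 3)⁻¹ = v * (g * v * g⁻¹) ^ 3 * (g ^ 2 * v * (g ^ 2)⁻¹) ^ 2

omit [Finite G] in
theorem Acts.congr {v g x : G} {f f' : ℕ → ℕ} (h : Acts v g x f) (e : ∀ a < 64, f' a = f a) : Acts v g x f' :=
  fun a ha => by rw [e a ha]; exact h a ha

variable {t : G} {R Cy A V M : Subgroup G} (L : Loc t R Cy A V M)
include L

theorem exists_frame : ∃ v g s, Frame t A V M v g s := by
  obtain ⟨v, g, s, S⟩ := exists_start L
  obtain ⟨u0, u16, u4, u1⟩ := mvec_units v g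
  obtain ⟨c, hc, ec⟩ := S.code L (S.conjA L 3)
  have hA : Acts v g g (linC 4 1 c) := S.acts_lin L (by norm_num) (by norm_num) hc
    (by rw [u4]; group) (by rw [u1, pow_two]; group) (by rw [ec]; simp [pow_succ, mul_assoc])
  have h7 := hA.iter 7
  rw [S.g7] at h7
  have e7 : (linC 4 1 c)^[7] 16 = 16 := S.acts_eq L h7 (Acts.one v g) (by norm_num)
  have hk := allUpTo_spec poly_ok hc
  simp only [e7, Bool.or_eq_true, Bool.not_eq_true', Nat.beq_eq] at hk
  rcases hk with (hk | hk) | hk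
  · exact absurd hk (by decide)
  swap
  · subst hk
    exact ⟨v, g, s, ⟨S, by rw [← ec]; simp [mvec]⟩⟩
  subst hk
  have hinv : ∀ n, (g⁻¹) ^ n = (g ^ n)⁻¹ := fun n => inv_pow g n
  refine ⟨v, g⁻¹, s, ⟨⟨M.inv_mem S.gM, S.sM, S.vA, by rw [inv_pow, S.g7, inv_one], S.s3, S.sA, ?_, S.v2, S.sv,
    fun y hy h => S.fix y hy ((show Commute g⁻¹ y from h).inv_left.eq |> fun e => by rwa [inv_inv] at e)⟩, ?_⟩⟩
  · rw [inv_pow]
    exact ((show SemiconjBy s g (g ^ 2) from S.sg).inv_right).eq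
  · have e25 : g ^ 3 * v * (g ^ 3)⁻¹ = v * (g * v * g⁻¹) ^ 2 * (g ^ 2 * v * (g ^ 2)⁻¹) := by
      rw [← ec]; simp [mvec]
    set P := g⁻¹ ^ 3 * v * (g⁻¹ ^ 3)⁻¹ with hP
    set Q := g⁻¹ ^ 2 * v * (g⁻¹ ^ 2)⁻¹ with hQ
    set T := g⁻¹ * v * g⁻¹⁻¹ with hT
    have hmem : ∀ n, g⁻¹ ^ n * v * (g⁻¹ ^ n)⁻¹ ∈ A := fun n => L.normA _ (M.pow_mem (M.inv_mem S.gM) n) v S.vA
    have hQA : Q ∈ A := hmem 2
    have hTA : T ∈ A := by have := hmem 1; rwa [pow_one] at this
    have e : v = P * Q ^ 2 * T := by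
      rw [hP, hQ, hT, conj_pow]
      calc v = (g ^ 3)⁻¹ * (g ^ 3 * v * (g ^ 3)⁻¹) * g ^ 3 := by group
        _ = (g ^ 3)⁻¹ * (v * (g * v * g⁻¹) ^ 2 * (g ^ 2 * v * (g ^ 2)⁻¹)) * g ^ 3 := by rw [e25]
        _ = _ := by rw [conj_pow]; simp [pow_succ, mul_assoc]
    calc P = P * Q ^ 2 * T * (T ^ 3 * Q ^ 2) := by
          rw [show P * Q ^ 2 * T * (T ^ 3 * Q ^ 2) = P * Q ^ 2 * (T ^ 4) * Q ^ 2 by simp [pow_succ, mul_assoc],
            L.expA T hTA, mul_one, mul_assoc, ← pow_add, L.expA Q hQA, mul_one]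
      _ = v * T ^ 3 * Q ^ 2 := by rw [← e, mul_assoc]

variable {v g s : G} (F : Frame t A V M v g s)
include F

theorem Frame.cg' : mvec v g 30 = g ^ 3 * v * (g ^ 3)⁻¹ := by rw [F.cg]; simp [mvec]

theorem Frame.act_g : Acts v g g (actL 3) := by
  refine (F.acts_lin L (i := 4) (j := 1) (k := 30) (by norm_num) (by norm_num) (by norm_num) ?_ ?_ ?_).congr fun a ha => ?_
  · rw [(mvec_units v g).2.2.1]; group
  · rw [(mvec_units v g).2.2.2, pow_two]; group
  · rw [F.cg' L]; simp [pow_succ, mul_assoc]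
  · have h := allUpTo_spec gen_ok.1 ha
    simp only [Bool.and_eq_true, Nat.beq_eq] at h
    exact h.1.1

theorem Frame.code_lt : actL 1 1 < 64 ∧ mvec v g (actL 1 1) = g ^ 4 * v * (g ^ 4)⁻¹ := by
  obtain ⟨h1, h2⟩ := F.act_g L 30 (by norm_num)
  have h3 := allUpTo_spec gen_ok.1 (show 30 < 64 by norm_num)
  simp only [Bool.and_eq_true, Nat.beq_eq] at h3
  rw [h3.1.1, gen_ok.2.1] at h1 h2
  refine ⟨h1, ?_⟩
  rw [F.cg' L] at h2
  rw [← mul_inv_eq_iff_eq_mul] at h2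
  rw [← h2]
  simp [pow_succ, mul_assoc]

theorem Frame.act_s : Acts v g s (actL 1) := by
  obtain ⟨hlt, hk⟩ := F.code_lt L
  refine (F.acts_lin L (i := 16) (j := 1) (k := actL 1 1) (by norm_num) (by norm_num) hlt ?_ ?_ ?_).congr fun a ha => ?_
  · rw [(mvec_units v g).2.1, F.sv]
  · rw [(mvec_units v g).2.2.2]
    have c : SemiconjBy s (g * v * g⁻¹) (g ^ 2 * v * (g ^ 2)⁻¹) :=
      ((show SemiconjBy s g (g ^ 2) from F.sg).mul_right F.sv).mul_right (show SemiconjBy s g (g ^ 2) from F.sg).inv_right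
    exact c
  · rw [hk]
    have c2 : SemiconjBy s (g ^ 2) (g ^ 4) := by
      have := (show SemiconjBy s g (g ^ 2) from F.sg).pow_right 2
      rwa [← pow_mul] at this
    exact (c2.mul_right F.sv).mul_right c2.inv_right
  · have h := allUpTo_spec gen_ok.1 ha
    simp only [Bool.and_eq_true, Nat.beq_eq] at h
    exact h.1.2

end Cfsg.Agent.HSUniq.LocM
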