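import Cfsg.Agent.Lib.HSUniq.LocalMBase
import Cfsg.Agent.Lib.Classical.SL
import Cfsg.Prelude.Def_CaseTheorems
import Mathlib.GroupTheory.Perm.Cycle.Type

/-!
The second local subgroup as a group: the abelian normal subgroup, its centraliser, elements of order seven and
three.
-/

set_option autoImplicit false

namespace Cfsg.Agent.HSUniq.LocM

variable {G : Type*} [Group G] [Finite G]

theorem linear_simple : IsSimpleGroup (GL (Fin 3) (ZMod 2)) ∧ Nat.card (GL (Fin 3) (ZMod 2)) = 168 := by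
  haveI : Fact (Nat.Prime 2) := ⟨Nat.prime_two⟩
  have h2 : Nat.card (ZMod 2) = 2 := by rw [Nat.card_eq_fintype_card, ZMod.card]
  have hgl : Nat.card (GL (Fin 3) (ZMod 2)) = 168 := by
    rw [ClassicalSL.card_gl_fin h2 3]; decide
  have hsl : Nat.card (Matrix.SpecialLinearGroup (Fin 3) (ZMod 2)) = 168 := by
    have h := ClassicalSL.card_sl_mul (ι := Fin 3) (F := ZMod 2)
    rw [h2, hgl] at h
    omega
  have hz : Subgroup.center (Matrix.SpecialLinearGroup (Fin 3) (ZMod 2)) = ⊥ :=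
    Subgroup.card_eq_one.1 (by rw [ClassicalSL.card_center_sl, h2]; simp)
  haveI := ClassicalSL.isSimpleGroup_psl (ι := Fin 3) (F := ZMod 2) (by simp)
  have hinj : Function.Injective
      (QuotientGroup.mk' (Subgroup.center (Matrix.SpecialLinearGroup (Fin 3) (ZMod 2)))) := by
    rw [← MonoidHom.ker_eq_bot_iff, QuotientGroup.ker_mk', hz]
  haveI : IsSimpleGroup (Matrix.SpecialLinearGroup (Fin 3) (ZMod 2)) :=
    (MulEquiv.ofBijective _ ⟨hinj, QuotientGroup.mk'_surjective _⟩ :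
      Matrix.SpecialLinearGroup (Fin 3) (ZMod 2) ≃*
        Matrix.ProjectiveSpecialLinearGroup (Fin 3) (ZMod 2)).isSimpleGroup
  have hb : Function.Bijective (Matrix.SpecialLinearGroup.toGL (n := Fin 3) (R := ZMod 2)) :=
    (Fintype.bijective_iff_injective_and_card _).2 ⟨Matrix.SpecialLinearGroup.toGL_injective,
      by rw [← Nat.card_eq_fintype_card, ← Nat.card_eq_fintype_card, hsl, hgl]⟩
  exact ⟨(MulEquiv.ofBijective _ hb).symm.isSimpleGroup, hgl⟩

theorem abelian_le {t : G} {R Cy : Subgroup G} (f : RFacts t R Cy) {P : Subgroup G} (hP : P ≤ R)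
    (hc : ∀ x ∈ P, ∀ y ∈ P, x * y = y * x) : Nat.card P ≤ 16 := by
  by_contra hlt
  push Not at hlt
  have hd : Nat.card P ∣ 2 ^ 6 := by
    have := Subgroup.card_dvd_of_le hP
    rwa [f.card] at this
  obtain ⟨k, hk, e⟩ := (Nat.dvd_prime_pow Nat.prime_two).1 hd
  have hne : P ≠ R := fun h => by
    have : R ≤ Cy := fun x hx => f.centre x hx fun y hy => hc x (h ▸ hx) y (h ▸ hy)
    have := Subgroup.card_le_of_le this
    rw [f.card, f.card_cy] at this
    omega
  have h32 : Nat.card P = 32 := by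
    have h64 : Nat.card P ≠ 64 := fun h => hne (Subgroup.eq_of_le_of_card_ge hP (by rw [f.card, h]))
    interval_cases k <;> simp_all
  obtain ⟨x, hxR, hxP⟩ := SetLike.exists_of_lt (lt_of_le_of_ne hP hne)
  have htc : ∀ y ∈ R, t * y = y * t := fun y hy => by
    obtain ⟨c, -, hc2, hcc⟩ := f.four
    rw [← hc2]; exact ((show Commute c y from hcc y hy).mul_left (hcc y hy)).eq
  have hval : ∀ p ∈ P, x * p * x⁻¹ * p⁻¹ = 1 ∨ x * p * x⁻¹ * p⁻¹ = t := fun p hp => by
    rcases f.comm x hxR p (hP hp) with h | h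
    · exact Or.inl (by rw [h]; group)
    · refine Or.inr ?_
      calc x * p * x⁻¹ * p⁻¹ = p * (x * t) * x⁻¹ * p⁻¹ := by rw [h]; group
        _ = p * (t * x) * x⁻¹ * p⁻¹ := by rw [htc x hxR]
        _ = p * t * p⁻¹ := by group
        _ = t * p * p⁻¹ := by rw [htc p (hP hp)]
        _ = t := by group
  let φ : P →* G := MonoidHom.mk' (fun p => x * (p : G) * x⁻¹ * (p : G)⁻¹) fun p q => by
    have hq : Commute ((p : G)⁻¹) (x * (q : G) * x⁻¹ * (q : G)⁻¹) := by
      rcases hval q q.2 with h | h <;> rw [h]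
      · exact Commute.one_right _
      · exact (show Commute t (p : G)⁻¹ from (show Commute t (p : G) from htc p (hP p.2)).inv_right).symm
    calc x * ((p : G) * q) * x⁻¹ * ((p : G) * q)⁻¹
        = x * (p : G) * x⁻¹ * ((x * (q : G) * x⁻¹ * (q : G)⁻¹) * (p : G)⁻¹) := by group
      _ = x * (p : G) * x⁻¹ * ((p : G)⁻¹ * (x * (q : G) * x⁻¹ * (q : G)⁻¹)) := by rw [hq.eq]
      _ = _ := by group
  have hr : Nat.card φ.range ≤ 2 := by
    have hsub : (φ.range : Set G) ⊆ {1, t} := by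
      rintro _ ⟨p, rfl⟩
      exact hval p p.2
    refine le_trans (Nat.card_mono (Set.toFinite _) hsub) ?_
    rw [Nat.card_coe_set_eq]
    exact le_trans (Set.ncard_insert_le _ _) (by simp)
  have hk2 : 16 ≤ Nat.card φ.ker := by
    have h := φ.ker.card_mul_index
    rw [Subgroup.index_ker, h32] at h
    nlinarith
  let P' := P.subgroupOf R
  have hidx : P'.index = 2 := by
    have h := P'.card_mul_index
    rw [Nat.card_congr (Subgroup.subgroupOfEquivOfLe hP).toEquiv, h32, f.card] at h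
    omega
  have hker : φ.ker.map P.subtype ≤ Cy := by
    rintro _ ⟨p, hp, rfl⟩
    have hpx : x * (p : G) = (p : G) * x := mul_inv_eq_iff_eq_mul.1 (mul_inv_eq_one.1 hp)
    refine f.centre _ (hP p.2) fun y hy => ?_
    by_cases hyP : y ∈ P
    · exact hc _ p.2 _ hyP
    · have h := (Subgroup.mul_mem_iff_of_index_two hidx (a := ⟨x⁻¹, R.inv_mem hxR⟩) (b := ⟨y, hy⟩)).2
        (by simp only [P', Subgroup.mem_subgroupOf, inv_mem_iff]; exact iff_of_false hxP hyP)
      simp only [P', Subgroup.mem_subgroupOf, Subgroup.coe_mul] at h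
      show (p : G) * y = y * p
      calc (p : G) * y = (p : G) * x * (x⁻¹ * y) := by group
        _ = x * ((p : G) * (x⁻¹ * y)) := by rw [← hpx]; group
        _ = x * (x⁻¹ * y * (p : G)) := by rw [hc _ p.2 _ h]
        _ = y * p := by group
  have := Subgroup.card_le_of_le hker
  rw [Subgroup.card_map_of_injective Subtype.val_injective, f.card_cy] at this
  omega

/-- The facts used on the second local subgroup. -/
structure Loc (t : G) (R Cy A V M : Subgroup G) : Prop where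
  f : RFacts t R Cy
  RM : R ≤ M
  AM : A ≤ M
  VA : V ≤ A
  VR : V ≤ R
  cardA : Nat.card A = 64
  cardV : Nat.card V = 8
  cardM : Nat.card M = 10752
  commA : ∀ x ∈ A, ∀ y ∈ A, x * y = y * x
  expA : ∀ x ∈ A, x ^ 4 = 1
  sqA : ∀ x ∈ A, x * x ∈ V
  sqV : ∀ y ∈ V, ∃ x ∈ A, x * x = y
  sq_one : ∀ y ∈ V, y * y = 1
  tV : t ∈ V
  centA : ∀ x ∈ M, (∀ y ∈ V, x * y = y * x) → x ∈ A
  normV : ∀ x ∈ M, ∀ y ∈ V, x * y * x⁻¹ ∈ V
  normA : ∀ x ∈ M, ∀ a ∈ A, x * a * x⁻¹ ∈ A
  fixR : ∀ x, x * t = t * x → ∀ r ∈ R, x * r * x⁻¹ ∈ R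

theorem exponent_four : ∀ x : Multiplicative (ZMod 4 × ZMod 4 × ZMod 4), x ^ 4 = 1 ∧ x * x * (x * x) = 1 := by
  decide +kernel

theorem squares : ∀ x : Multiplicative (ZMod 4 × ZMod 4 × ZMod 4), x * x = 1 → ∃ y, y * y = x := by
  decide +kernel

theorem involutions : Fintype.card {x : Multiplicative (ZMod 4 × ZMod 4 × ZMod 4) // x * x = 1} = 8 := by
  decide +kernel

theorem loc {t : G} {R Cy : Subgroup G} (f : RFacts t R Cy) {H : Subgroup G}
    (hH : H = Subgroup.centralizer ({t} : Set G)) (hR : R = (Cfsg.pCore 2 H).map H.subtype)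
    (hcy : ∀ c ∈ Cy, c ∈ R ∧ ∀ y ∈ R, c * y = y * c)
    (hHcard : Nat.card H = 7680) {V : Subgroup G} (hVcomm : ∀ x ∈ V, ∀ y ∈ V, x * y = y * x)
    (hVexp : ∀ v ∈ V, v ^ 2 = 1) (hVcard : Nat.card V = 8) (hVR : V ≤ R) {M : Subgroup G}
    (hM : M = Subgroup.normalizer (V : Set G)) (eOM : Cfsg.pCore 2 M ≃* Multiplicative (ZMod 4 × ZMod 4 × ZMod 4))
    (eM : M ⧸ Cfsg.pCore 2 M ≃* GL (Fin 3) (ZMod 2)) :
    Loc t R Cy ((Cfsg.pCore 2 M).map M.subtype) V M := by
  classical
  haveI := Fact.mk Nat.prime_two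
  haveI := linear_simple.1
  have htV : t ∈ V := by
    by_contra ht
    let φ : ↥V × ↥Cy →* G :=
      { toFun := fun p => (p.1 : G) * (p.2 : G)
        map_one' := by simp
        map_mul' := fun p q => by
          show ((p.1 : G) * q.1) * ((p.2 : G) * q.2) = (p.1 : G) * p.2 * ((q.1 : G) * q.2)
          calc ((p.1 : G) * q.1) * ((p.2 : G) * q.2) = (p.1 : G) * ((q.1 : G) * p.2) * q.2 := by group
            _ = (p.1 : G) * ((p.2 : G) * q.1) * q.2 := by rw [(hcy p.2 p.2.2).2 _ (hVR q.1.2)]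
            _ = _ := by group }
    have hinj : Function.Injective φ := by
      rw [← MonoidHom.ker_eq_bot_iff, Subgroup.eq_bot_iff_forall]
      intro p hp
      have h : (p.1 : G) * (p.2 : G) = 1 := hp
      have hc2 : (p.2 : G) ∈ V := by
        rw [eq_inv_of_mul_eq_one_right h]; exact V.inv_mem p.1.2
      have hsq : (p.2 : G) * p.2 = 1 := by rw [← pow_two]; exact hVexp _ hc2
      rcases f.cy_sq _ p.2.2 hsq with e | e
      · rw [e, mul_one] at h
        exact Prod.ext (Subtype.ext h) (Subtype.ext e)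
      · exact absurd (e ▸ hc2) ht
    have hle : φ.range ≤ R := by
      rintro _ ⟨p, rfl⟩
      exact mul_mem (hVR p.1.2) (hcy p.2 p.2.2).1
    have hcomm : ∀ x ∈ φ.range, ∀ y ∈ φ.range, x * y = y * x := by
      rintro _ ⟨p, rfl⟩ _ ⟨q, rfl⟩
      rw [← map_mul, ← map_mul]
      exact congrArg φ (Prod.ext (Subtype.ext (hVcomm _ p.1.2 _ q.1.2))
        (Subtype.ext ((hcy p.2 p.2.2).2 _ (hcy q.2 q.2.2).1)))
    have h := abelian_le f hle hcomm
    rw [← Nat.card_congr (MonoidHom.ofInjective hinj).toEquiv, Nat.card_prod, hVcard, f.card_cy] at h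
    omega
  have hsq1 : ∀ y ∈ V, y * y = 1 := fun y hy => by rw [← pow_two]; exact hVexp y hy
  have hRM : R ≤ M := fun r hr => by
    have key : ∀ r ∈ R, ∀ y ∈ V, r * y * r⁻¹ ∈ V := fun r hr y hy => by
      rcases f.comm r hr y (hVR hy) with e | e
      · rwa [e, mul_inv_cancel_right]
      · have htr : t * r = r * t := by
          obtain ⟨c, -, hc2, hcc⟩ := f.four
          rw [← hc2]; exact ((show Commute c r from hcc r hr).mul_left (hcc r hr)).eq
        have e' : r * y * r⁻¹ = y * t := by rw [e, mul_assoc y r t, ← htr]; group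
        rw [e']
        exact V.mul_mem hy htV
    rw [hM, Subgroup.mem_normalizer_iff]
    exact fun y => ⟨key r hr y, fun h => by
      have := key r⁻¹ (R.inv_mem hr) _ h
      rwa [show r⁻¹ * (r * y * r⁻¹) * r⁻¹⁻¹ = y by group] at this⟩
  have hVM : V ≤ M := hM ▸ Subgroup.le_normalizer
  have hnormV : ∀ x ∈ M, ∀ y ∈ V, x * y * x⁻¹ ∈ V := fun x hx y hy =>
    (Subgroup.mem_normalizer_iff.1 (hM ▸ hx) y).1 hy
  set O := Cfsg.pCore 2 M with hO
  haveI hOn : O.Normal := Cfsg.pCore_normal 2 _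
  have hcardA : Nat.card O = 64 := by
    rw [Nat.card_congr eOM.toEquiv, Nat.card_eq_fintype_card]
    rfl
  have hcardM : Nat.card M = 10752 := by
    rw [Subgroup.card_eq_card_quotient_mul_card_subgroup O, Nat.card_congr eM.toEquiv, linear_simple.2, hcardA]
  have hexp : ∀ x : O, x ^ 4 = 1 ∧ x * x * (x * x) = 1 := fun x => by
    obtain ⟨h1, h2⟩ := exponent_four (eOM x)
    exact ⟨eOM.injective (by rw [map_pow, h1, map_one]), eOM.injective (by rw [map_mul, map_mul, h2, map_one])⟩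
  have hcommO : ∀ x y : O, x * y = y * x := fun x y => eOM.injective (by rw [map_mul, map_mul, mul_comm])
  -- V lies in the 2-core
  have hV2 : V.subgroupOf M ≤ O := by
    refine le_sSup (show _ ∈ {N : Subgroup M | N.Normal ∧ IsPGroup 2 N} from ⟨⟨fun n hn x => ?_⟩, ?_⟩)
    · exact hnormV x x.2 n hn
    · exact IsPGroup.of_card (n := 3) (by rw [Nat.card_congr (Subgroup.subgroupOfEquivOfLe hVM).toEquiv, hVcard]; rfl)
  have hVA : V ≤ O.map M.subtype := fun y hy => ⟨⟨y, hVM hy⟩, hV2 hy, rfl⟩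
  -- the involutions of the 2-core are exactly those of V
  let j : V → {x : O // x * x = 1} := fun y => ⟨⟨⟨y, hVM y.2⟩, hV2 y.2⟩, Subtype.ext (Subtype.ext (hsq1 y y.2))⟩
  have hj : Function.Bijective j := by
    refine (Nat.bijective_iff_injective_and_card j).2 ⟨fun a b e => Subtype.ext ?_, ?_⟩
    · exact congrArg (fun w : {x : O // x * x = 1} => ((w.1 : M) : G)) e
    · rw [hVcard, ← involutions, ← Nat.card_eq_fintype_card]
      exact (Nat.card_congr (eOM.toEquiv.subtypeEquiv fun x => by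
        rw [MulEquiv.toEquiv_eq_coe, EquivLike.coe_coe, ← map_mul, MulEquiv.map_eq_one_iff])).symm
  have hsqA : ∀ x : O, ((x * x : O) : M).1 ∈ V := fun x => by
    obtain ⟨y, hy⟩ := hj.2 ⟨x * x, (hexp x).2⟩
    have := congrArg (fun w : {x : O // x * x = 1} => ((w.1 : M) : G)) hy
    simp only [j] at this
    exact this ▸ y.2
  -- the centraliser of V in M
  let q : M →* GL (Fin 3) (ZMod 2) := eM.toMonoidHom.comp (QuotientGroup.mk' O)
  have hq : Function.Surjective q := eM.surjective.comp (QuotientGroup.mk'_surjective O)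
  have hqk : q.ker = O := by
    ext x; simp [q, MonoidHom.mem_ker, QuotientGroup.eq_one_iff]
  let C : Subgroup M := (Subgroup.centralizer (V : Set G)).subgroupOf M
  have hCn : C.Normal := by
    refine ⟨fun n hn x => Subgroup.mem_centralizer_iff.2 fun y hy => ?_⟩
    have hy' := hnormV _ (M.inv_mem x.2) y hy
    have h := Subgroup.mem_centralizer_iff.1 hn _ hy'
    simp only [Subgroup.coe_subtype, inv_inv] at h
    show y * ((x : G) * n * (x : G)⁻¹) = (x : G) * n * (x : G)⁻¹ * y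
    calc y * ((x : G) * n * (x : G)⁻¹) = (x : G) * (((x : G)⁻¹ * y * x) * n) * (x : G)⁻¹ := by group
      _ = (x : G) * ((n : G) * ((x : G)⁻¹ * y * x)) * (x : G)⁻¹ := by rw [h]
      _ = _ := by group
  have hOC : O ≤ C := fun x hx => Subgroup.mem_centralizer_iff.2 fun y hy => by
    exact congrArg (fun w : O => ((w : M) : G)) (hcommO ⟨⟨y, hVM hy⟩, hV2 hy⟩ ⟨x, hx⟩)
  have hC : C = O := by
    rcases (hCn.map q hq).eq_bot_or_eq_top with h | h
    · exact le_antisymm (fun x hx => hqk ▸ (Subgroup.mem_bot.1 (h ▸ Subgroup.mem_map_of_mem q hx))) hOC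
    · exfalso
      have htop : C = ⊤ := by
        rw [← Subgroup.comap_map_eq_self (f := q) (H := C) (hqk.symm ▸ hOC), h, Subgroup.comap_top]
      have hMH : M ≤ H := fun x hx => by
        have := Subgroup.mem_centralizer_iff.1 (show (⟨x, hx⟩ : M) ∈ C from htop ▸ Subgroup.mem_top _) t htV
        rw [hH, Subgroup.mem_centralizer_singleton_iff]
        exact this.symm
      have := Subgroup.card_le_of_le hMH
      omega
  refine ⟨f, hRM, Subgroup.map_subtype_le _, hVA, hVR, ?_, hVcard, hcardM, ?_, ?_, ?_, ?_, hsq1, htV, ?_, hnormV,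
    ?_, ?_⟩
  · rw [Subgroup.card_map_of_injective Subtype.val_injective, hcardA]
  · rintro _ ⟨x, hx, rfl⟩ _ ⟨y, hy, rfl⟩
    exact congrArg (fun w : O => ((w : M) : G)) (hcommO ⟨x, hx⟩ ⟨y, hy⟩)
  · rintro _ ⟨x, hx, rfl⟩
    exact congrArg (fun w : O => ((w : M) : G)) (hexp ⟨x, hx⟩).1
  · rintro _ ⟨x, hx, rfl⟩
    exact hsqA ⟨x, hx⟩
  · intro y hy
    obtain ⟨z, hz⟩ := squares (eOM ⟨⟨y, hVM hy⟩, hV2 hy⟩) (by
      rw [← map_mul, MulEquiv.map_eq_one_iff]; exact (j ⟨y, hy⟩).2)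
    refine ⟨((eOM.symm z : M) : G), ⟨_, (eOM.symm z).2, rfl⟩, ?_⟩
    have := congrArg eOM.symm hz
    rw [map_mul, MulEquiv.symm_apply_apply] at this
    exact congrArg (fun w : O => ((w : M) : G)) this
  · intro x hx h
    exact ⟨⟨x, hx⟩, hC ▸ Subgroup.mem_centralizer_iff.2 fun y hy => (h y hy).symm, rfl⟩
  · rintro x hx _ ⟨a, ha, rfl⟩
    exact ⟨⟨x, hx⟩ * a * ⟨x, hx⟩⁻¹, hOn.conj_mem a ha _, rfl⟩
  · intro x hx r hr
    have hxH : x ∈ H := hH ▸ Subgroup.mem_centralizer_singleton_iff.2 hx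
    rw [hR] at hr ⊢
    obtain ⟨y, hy, rfl⟩ := hr
    exact ⟨⟨x, hxH⟩ * y * ⟨x, hxH⟩⁻¹, (Cfsg.pCore_normal 2 _).conj_mem y hy _, rfl⟩

end Cfsg.Agent.HSUniq.LocM
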