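import Cfsg.Agent.Lib.HSUniq.LocalMTrans

/-!
An involution of the second local subgroup inverting the element of order three, with the standard action.
-/

set_option autoImplicit false
set_option maxRecDepth 30000

namespace Cfsg.Agent.HSUniq.LocM

variable {G : Type*} [Group G] [Finite G] {t : G} {R Cy A V M : Subgroup G} (L : Loc t R Cy A V M)
  {v g s : G} (F : Frame t A V M v g s)

/-- An involution inverting the element of order three. -/
structure Inv2 (M : Subgroup G) (s w : G) : Prop where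
  wM : w ∈ M
  w2 : w * w = 1
  ws : w * s = s ^ 2 * w

include L F

attribute [local irreducible] linC actL qPow

theorem Frame.exists_swap : ∃ r ∈ R, r * r = 1 ∧ ActsSq v g r rC := by
  obtain ⟨r, hr, h2, h3⟩ := (F.trans L).2 true false
  rcases L.f.sq r hr with e | e
  · exact ⟨r, hr, e, F.pattern L hr h2 h3⟩
  obtain ⟨c, hc, hc2, hcc⟩ := L.f.four
  obtain ⟨hy, hz⟩ := F.ye_mem L
  have hrc : r * c * (r * c) = 1 := by
    calc r * c * (r * c) = r * (c * r) * c := by group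
      _ = r * (r * c) * c := by rw [hcc r hr]
      _ = r * r * (c * c) := by group
      _ = 1 := by rw [e, hc2, L.f.t2]
  refine ⟨r * c, R.mul_mem hr hc, hrc, F.pattern L (b := true) (c := false) (R.mul_mem hr hc) ?_ ?_⟩
  · rw [mul_assoc, hcc _ (L.VR hy), ← mul_assoc, h2, mul_assoc]
  · rw [mul_assoc, hcc _ (L.VR hz), ← mul_assoc, h3, mul_assoc]

theorem Frame.exists_inverted : ∃ r ∈ M, r * r = 1 ∧ ∃ d ∈ M, orderOf d = 3 ∧ r * d * r = d⁻¹ := by
  haveI : _root_.Fact (Nat.Prime 3) := ⟨by norm_num⟩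
  obtain ⟨r, hr, r2, hact⟩ := F.exists_swap L
  have hrM := L.RM hr
  have g4 : g ^ 4 = (g ^ 3)⁻¹ := (inv_eq_of_mul_eq_one_right (by rw [← pow_add]; exact F.g7)).symm
  set q := g ^ 3 * (r * g ^ 4) with hq
  set u := r * q with hu
  have huM : u ∈ M := M.mul_mem hrM (M.mul_mem (M.pow_mem F.gM 3) (M.mul_mem hrM (M.pow_mem F.gM 4)))
  have q2 : q * q = 1 := by
    calc q * q = g ^ 3 * (r * (g ^ 4 * g ^ 3) * r) * g ^ 4 := by rw [hq]; group
      _ = 1 := by rw [← pow_add, F.g7, mul_one, r2, mul_one, g4, mul_inv_cancel]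
  have hA : ActsSq v g u uC := hact.comp (((F.act_g L).sq.iter 3).comp (hact.comp ((F.act_g L).sq.iter 4)))
  have hu3 : u ^ 3 ∈ A := by
    refine F.mem_of_sq L (M.pow_mem huM 3) (hA.iter 3) fun a ha => ?_
    have h := (onUnits_spec).1 u_ok.1
    simp only [Nat.beq_eq] at h
    simp only [List.mem_cons, List.not_mem_nil, or_false] at ha
    rcases ha with rfl | rfl | rfl
    · exact h.1
    · exact h.2.1
    · exact h.2.2
  have huA : u ∉ A := by
    intro hmem
    have key : ∀ {a}, a < 64 → qPow (uC a) 2 = qPow a 2 := fun {a} ha => by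
      obtain ⟨hlt, he⟩ := hA a ha
      refine F.sq_eq L hlt ha (mul_right_cancel (b := u) ?_)
      rw [← he]
      exact L.commA u hmem _ (A.pow_mem (F.mvec_mem L a) 2)
    have hb := u_ok.2
    rw [Bool.eq_false_iff] at hb
    refine hb (onUnits_spec.2 ?_)
    simp only [Nat.beq_eq]
    exact ⟨key (by norm_num), key (by norm_num), key (by norm_num)⟩
  have hru : r * u * r = u⁻¹ := by
    have h : u⁻¹ = q⁻¹ * r⁻¹ := by rw [hu, mul_inv_rev]
    rw [h, inv_eq_of_mul_eq_one_right q2, inv_eq_of_mul_eq_one_right r2, hu, ← mul_assoc r r q, r2, one_mul]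
  refine ⟨r, hrM, r2, u ^ 4, M.pow_mem huM 4, orderOf_eq_prime ?_ fun h => huA ?_, ?_⟩
  · rw [← pow_mul, show 4 * 3 = 3 * 4 from rfl, pow_mul, L.expA _ hu3]
  · rw [show u = u ^ 4 * (u ^ 3)⁻¹ by group, h, one_mul]
    exact A.inv_mem hu3
  · have hr' : r⁻¹ = r := inv_eq_of_mul_eq_one_right r2
    calc r * u ^ 4 * r = r * u ^ 4 * r⁻¹ := by rw [hr']
      _ = (r * u * r⁻¹) ^ 4 := (conj_pow).symm
      _ = (u ^ 4)⁻¹ := by rw [hr', hru, inv_pow]

theorem Frame.exists_inv2 : ∃ w, Inv2 M s w := by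
  haveI : _root_.Fact (Nat.Prime 3) := ⟨by norm_num⟩
  obtain ⟨r, hrM, r2, d, hdM, hd, hrd⟩ := F.exists_inverted L
  have hs : orderOf s = 3 := orderOf_eq_prime F.s3 fun e => F.sA (e ▸ A.one_mem)
  have syl : ∀ x : M, orderOf x = 3 → ∃ P : Sylow 3 M, (P : Subgroup M) = Subgroup.zpowers x := by
    intro x hx
    obtain ⟨P, hP⟩ := (IsPGroup.of_card (n := 1) (show Nat.card (Subgroup.zpowers x) = 3 ^ 1 by
      rw [Nat.card_zpowers, hx, pow_one])).exists_le_sylow
    refine ⟨P, (Subgroup.eq_of_le_of_card_ge hP ?_).symm⟩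
    rw [Nat.card_zpowers, hx]
    obtain ⟨k, hk⟩ := IsPGroup.iff_card.1 P.isPGroup'
    have hdd := Subgroup.card_subgroup_dvd_card (P : Subgroup M)
    rw [hk, L.cardM] at hdd
    rw [hk]
    by_contra hlt
    have : 2 ≤ k := by
      by_contra hk2
      interval_cases k <;> norm_num at hlt
    exact absurd (dvd_trans (pow_dvd_pow 3 this) hdd) (by norm_num)
  obtain ⟨P, hP⟩ := syl ⟨s, F.sM⟩ (by rw [Subgroup.orderOf_mk, hs])
  obtain ⟨Q, hQ⟩ := syl ⟨d, hdM⟩ (by rw [Subgroup.orderOf_mk, hd])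
  obtain ⟨m, hm⟩ := MulAction.exists_smul_eq M P Q
  have hmem : m * ⟨s, F.sM⟩ * m⁻¹ ∈ (Q : Subgroup M) := by
    rw [← hm, Sylow.coe_subgroup_smul]
    exact ⟨⟨s, F.sM⟩, hP ▸ Subgroup.mem_zpowers _, rfl⟩
  rw [hQ] at hmem
  obtain ⟨k, hk⟩ := hmem
  have hk' : d ^ k = (m : G) * s * (m : G)⁻¹ := by simpa using congrArg Subtype.val hk
  set w := (m : G)⁻¹ * r * m with hw
  have hwM : w ∈ M := M.mul_mem (M.mul_mem (M.inv_mem m.2) hrM) m.2
  have w2 : w * w = 1 := by
    calc w * w = (m : G)⁻¹ * (r * r) * m := by rw [hw]; group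
      _ = 1 := by rw [r2]; group
  have hr' : r⁻¹ = r := inv_eq_of_mul_eq_one_right r2
  have hrk : r * d ^ k * r = (d ^ k)⁻¹ := by
    calc r * d ^ k * r = r * d ^ k * r⁻¹ := by rw [hr']
      _ = (r * d * r⁻¹) ^ k := (conj_zpow).symm
      _ = (d ^ k)⁻¹ := by rw [hr', hrd, inv_zpow]
  have s2 : s⁻¹ = s ^ 2 := inv_eq_of_mul_eq_one_right (by rw [← pow_succ', F.s3])
  refine ⟨w, hwM, w2, ?_⟩
  have hws : w * s * w = s⁻¹ := by
    calc w * s * w = (m : G)⁻¹ * (r * ((m : G) * s * (m : G)⁻¹) * r) * m := by rw [hw]; group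
      _ = (m : G)⁻¹ * ((m : G) * s * (m : G)⁻¹)⁻¹ * m := by rw [← hk', hrk]
      _ = s⁻¹ := by group
  rw [← s2, ← hws, mul_assoc (w * s), w2, mul_one]

theorem Frame.act_inv2 {w : G} (W : Inv2 M s w) : ∃ i j, i < 64 ∧ j < 64 ∧ isI i = true ∧ condW i j = true ∧
    mvec v g i = w * v * w⁻¹ ∧ mvec v g j = w * (g * v * g⁻¹) * w⁻¹ ∧ Acts v g w (wC i j) := by
  obtain ⟨i, j, k, hi, hj, -, ei, ej, ek, -⟩ := F.exists_acts L W.wM
  have w' : w⁻¹ = w := inv_eq_of_mul_eq_one_right W.w2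
  have hsw : s * w = w * s ^ 2 := by
    calc s * w = (s ^ 3) * (s * w) := by rw [F.s3, one_mul]
      _ = s ^ 2 * (s ^ 2 * w) := by simp [pow_succ, mul_assoc]
      _ = s ^ 2 * (w * s) := by rw [W.ws]
      _ = (s ^ 2 * w) * s := by group
      _ = w * s ^ 2 := by rw [← W.ws]; simp [pow_succ, mul_assoc]
  have hs2w : s ^ 2 * w = w * s := W.ws.symm
  have hS := F.act_s L
  have hfix : actL 1 i = i := by
    obtain ⟨hlt, he⟩ := hS i hi
    refine F.mvec_inj L hlt hi (mul_right_cancel (b := s) (he.symm.trans ?_))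
    rw [ei, w']
    calc s * (w * v * w) = s * w * v * w := by group
      _ = w * (s ^ 2 * v) * w := by rw [hsw]; group
      _ = w * (v * s ^ 2) * w := by rw [((show Commute s v from F.sv).pow_left 2).eq]
      _ = w * v * (s ^ 2 * w) := by group
      _ = w * v * w * s := by rw [hs2w]; group
  have hm := F.modRel L
  have hwt : w * t * w⁻¹ = mvec v g (qPow i 2) := by
    rw [(hm.mvec_pow hi 2).1, ei, conj_pow, pow_two, F.v2]
  have hsq : qPow i 2 = 32 := by
    have hlt := (hm.mvec_pow hi 2).2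
    have h32 : mvec v g 32 = t := by simp [mvec, pow_two, F.v2]
    have hfixc : actL 1 (qPow i 2) = qPow i 2 := by
      obtain ⟨hlt', he⟩ := hS _ hlt
      refine F.mvec_inj L hlt' hlt (mul_right_cancel (b := s) (he.symm.trans ?_))
      rw [(hm.mvec_pow hi 2).1]
      have := (hS i hi).2
      rw [hfix] at this
      exact ((show Commute s (mvec v g i) from this).pow_right 2).eq
    have hne : qPow i 2 ≠ 0 := fun e => L.f.t1 (conj_eq_one_iff.1 (by rw [hwt, e]; simp [mvec]))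
    have tab : allUpTo (fun a => !(Nat.beq (actL 1 a) a && Nat.beq a (qPow (a / 2) 2)) || Nat.beq a 0 || Nat.beq a 32) 64 =
        true := by decide +kernel
    have h2 : qPow i 2 = qPow (qPow i 2 / 2) 2 := by
      have tab2 : allUpTo (fun a => Nat.beq (qPow a 2) (qPow (qPow a 2 / 2) 2)) 64 = true := by decide +kernel
      exact Nat.eq_of_beq_eq_true (allUpTo_spec tab2 hi)
    have h := allUpTo_spec tab hlt
    simp only [hfixc, ← h2, Nat.beq_refl, Bool.and_self, Bool.not_true, Bool.false_or, Bool.or_eq_true,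
      Nat.beq_eq] at h
    exact h.resolve_left hne
  have hI : isI i = true := by
    have h := allUpTo_spec fixed_s hi
    simp only [hfix, hsq, Nat.beq_refl, Bool.and_self, Bool.not_true, Bool.false_or] at h
    exact h
  have ek' : w * (g ^ 2 * v * (g ^ 2)⁻¹) * w⁻¹ = mvec v g (actL 1 (actL 1 j)) := by
    obtain ⟨h1, e1⟩ := hS j hj
    obtain ⟨h2, e2⟩ := hS _ h1
    have e3 : s * (g * v * g⁻¹) * s⁻¹ = g ^ 2 * v * (g ^ 2)⁻¹ := by
      obtain ⟨_, e⟩ := hS 4 (by norm_num)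
      rw [(mvec_units v g).2.2.1] at e
      have k4 : actL 1 4 = 1 := by decide +kernel
      rw [e, k4, (mvec_units v g).2.2.2, mul_inv_cancel_right]
    have f1 : mvec v g (actL 1 j) = s * mvec v g j * s⁻¹ := by rw [e1, mul_inv_cancel_right]
    have f2 : mvec v g (actL 1 (actL 1 j)) = s ^ 2 * mvec v g j * (s ^ 2)⁻¹ := by
      rw [eq_mul_inv_iff_mul_eq.2 e2.symm, f1]; rw [pow_two]; group
    rw [f2, ej, ← e3]
    calc w * (s * (g * v * g⁻¹) * s⁻¹) * w⁻¹ = w * s * (g * v * g⁻¹) * (w * s)⁻¹ := by group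
      _ = _ := by rw [W.ws]; group
  have hk2 : actL 1 (actL 1 j) < 64 := (hS _ (hS j hj).1).1
  have hW : Acts v g w (wC i j) := F.acts_lin L hi hj hk2 (by rw [ei]; group) (by rw [ej]; group)
    (by rw [← ek']; group)
  refine ⟨i, j, hi, hj, hI, ?_, ei, ej, hW⟩
  have c1 : ∀ a < 64, wC i j (wC i j a) = a := fun a ha => by
    have := hW.comp hW
    rw [W.w2] at this
    exact F.acts_eq L this (Acts.one v g) ha
  have c2 : ∀ a < 64, wC i j (actL 1 a) = actL 1 (actL 1 (wC i j a)) := fun a ha => by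
    have h1 := hW.comp hS
    rw [W.ws] at h1
    have h2 := (hS.iter 2).comp hW
    exact F.acts_eq L h1 h2 ha
  exact onUnits_spec.2 (by simp [Nat.beq_eq, c1, c2])

theorem Frame.exists_standard : ∃ w, Inv2 M s w ∧ w * v = v ^ 3 * w ∧
    w * (g * v * g⁻¹) = g ^ 2 * v * (g ^ 2)⁻¹ * w ∧ (w * g) ^ 3 ∈ A := by
  obtain ⟨w0, W0⟩ := F.exists_inv2 L
  obtain ⟨i, j, hi, hj, hI, hc, -, -, hW⟩ := F.act_inv2 L W0
  have h := allUpTo_spec adjust_ok hi
  rw [hI] at h
  simp only [Bool.not_true, Bool.false_or] at h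
  have h := allUpTo_spec h hj
  rw [hc] at h
  simp only [Bool.not_true, Bool.false_or, List.any_eq_true, List.mem_range] at h
  obtain ⟨n, hn, hu⟩ := h
  set w := s ^ n * (w0 * s ^ (3 - n)) with hw
  have hs3 : s ^ (3 - n) * s ^ n = 1 := by rw [← pow_add, Nat.sub_add_cancel hn.le, F.s3]
  have hs3' : s ^ n * s ^ (3 - n) = 1 := by rw [← pow_add, Nat.add_sub_cancel' hn.le, F.s3]
  have hwM : w ∈ M := M.mul_mem (M.pow_mem F.sM n) (M.mul_mem W0.wM (M.pow_mem F.sM _))
  have w2 : w * w = 1 := by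
    calc w * w = s ^ n * (w0 * (s ^ (3 - n) * s ^ n) * w0) * s ^ (3 - n) := by rw [hw]; group
      _ = 1 := by rw [hs3, mul_one, W0.w2, mul_one, hs3']
  have hws : w * s = s ^ 2 * w := by
    calc w * s = s ^ n * (w0 * (s ^ (3 - n) * s)) := by rw [hw]; group
      _ = s ^ n * ((w0 * s) * s ^ (3 - n)) := by rw [(Commute.pow_self s _).eq]; group
      _ = s ^ n * s ^ 2 * (w0 * s ^ (3 - n)) := by rw [W0.ws]; group
      _ = s ^ 2 * w := by rw [(Commute.pow_pow_self s n 2).eq, mul_assoc]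
  have W : Inv2 M s w := ⟨hwM, w2, hws⟩
  have hwA : Acts v g w (fun a => (actL 1)^[n] (wC i j ((actL 1)^[3 - n] a))) :=
    ((F.act_s L).iter n).comp (hW.comp ((F.act_s L).iter (3 - n)))
  have hT : Acts v g (w * g) (tC i j n) := hwA.comp (F.act_g L)
  have hmem : (w * g) ^ 3 ∈ A := by
    refine F.mem_of_sq L (M.pow_mem (M.mul_mem hwM F.gM) 3) (hT.iter 3).sq fun a ha => ?_
    have h := onUnits_spec.1 hu
    simp only [Nat.beq_eq] at h
    simp only [List.mem_cons, List.not_mem_nil, or_false] at ha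
    rcases ha with rfl | rfl | rfl
    · exact h.1
    · exact h.2.1
    · exact h.2.2
  -- the exact action
  obtain ⟨i', j', hi', hj', hI', hc', ei', ej', hW'⟩ := F.act_inv2 L W
  have hT' : Acts v g (w * g) (tC i' j' 0) := by
    refine (hW'.comp (F.act_g L)).congr fun a ha => ?_
    show tC i' j' 0 a = wC i' j' (actL 3 a)
    have e := F.acts_eq L ((F.act_s L).iter 3) (F.s3.symm ▸ Acts.one v g) ((F.act_g L) a ha).1
    simp only [tC, Function.iterate_zero, id_eq, Nat.sub_zero, e]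
  have hexact : ∀ a < 64, tC i' j' 0 (tC i' j' 0 (tC i' j' 0 a)) = a := fun a ha => by
    have h3 := hT'.iter 3
    have hfix : Acts v g ((w * g) ^ 3) id := fun a ha =>
      ⟨ha, L.commA _ hmem _ (F.mvec_mem L a)⟩
    exact F.acts_eq L h3 hfix ha
  have h := allUpTo_spec exact_ok hi'
  rw [hI'] at h
  simp only [Bool.not_true, Bool.false_or] at h
  have h := allUpTo_spec h hj'
  have hu' : (onUnits fun a => Nat.beq (tC i' j' 0 (tC i' j' 0 (tC i' j' 0 a))) a) = true := by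
    refine onUnits_spec.2 ?_
    simp only [Nat.beq_eq]
    exact ⟨hexact 16 (by norm_num), hexact 4 (by norm_num), hexact 1 (by norm_num)⟩
  rw [hc', hu'] at h
  simp only [Bool.and_self, Bool.not_true, Bool.false_or, Bool.and_eq_true, Nat.beq_eq] at h
  obtain ⟨rfl, rfl⟩ := h
  refine ⟨w, W, ?_, ?_, hmem⟩
  · rw [show v ^ 3 = mvec v g 48 by simp [mvec], ei']; group
  · rw [← (mvec_units v g).2.2.2, ej']; group

end Cfsg.Agent.HSUniq.LocM
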