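import Cfsg.Agent.Lib.HSUniq.LRules

/-!
The relations of the second local subgroup give a homomorphism from its model.
-/

set_option autoImplicit false
set_option maxRecDepth 30000

namespace Cfsg.Agent.HSUniq

variable {G : Type*} [Group G]

/-- The relations of `4^3` by the linear group of order `168`. -/
structure MRel (v g s w : G) : Prop where
  l : LRel g s w
  v4 : v ^ 4 = 1
  c12 : v * (g * v * g⁻¹) = g * v * g⁻¹ * v
  c13 : v * (g ^ 2 * v * (g ^ 2)⁻¹) = g ^ 2 * v * (g ^ 2)⁻¹ * v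
  cg : g ^ 3 * v * (g ^ 3)⁻¹ = v * (g * v * g⁻¹) ^ 3 * (g ^ 2 * v * (g ^ 2)⁻¹) ^ 2
  cs : s * v = v * s
  cw : w * v = v ^ 3 * w
  cw2 : w * (g * v * g⁻¹) = g ^ 2 * v * (g ^ 2)⁻¹ * w

/-- The element of the module with a given code. -/
def mvec (v g : G) (a : ℕ) : G :=
  v ^ (a / 16) * (g * v * g⁻¹) ^ (a / 4 % 4) * (g ^ 2 * v * (g ^ 2)⁻¹) ^ (a % 4)

/-- Multiples of an element of the module. -/
def qPow (a n : ℕ) : ℕ := (fun x => byte qTab (64 * a + x))^[n] 0

/-- The image of a code when the images of the basis are given. -/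
def linC (i j k a : ℕ) : ℕ :=
  byte qTab (64 * byte qTab (64 * qPow i (a / 16) + qPow j (a / 4 % 4)) + qPow k (a % 4))

theorem q_spec : allUpTo (fun a => allUpTo (fun b => Nat.beq (byte qTab (64 * a + b))
    ((a / 16 + b / 16) % 4 * 16 + (a / 4 % 4 + b / 4 % 4) % 4 * 4 + (a % 4 + b % 4) % 4)) 64) 64 = true := by
  decide +kernel

theorem act_gen : allUpTo (fun a => Nat.beq (actL 3 a) (linC 4 1 (byte qTab (64 * byte qTab (64 * 16 + 12) + 2)) a) &&
    Nat.beq (actL 1 a) (linC 16 1 (actL 1 1) a) && Nat.beq (actL 21 a) (linC 48 1 4 a) &&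
    Nat.blt (actL 1 1) 64) 64 = true := by decide +kernel

theorem act_comp : allUpTo (fun h => allUpTo (fun a =>
    Nat.beq (actL (mulL 3 h) a) (actL 3 (actL h a)) && Nat.beq (actL (mulL 1 h) a) (actL 1 (actL h a)) &&
      Nat.beq (actL (mulL 21 h) a) (actL 21 (actL h a)) && Nat.blt (actL h a) 64 && Nat.beq (actL 0 a) a) 64) 168 = true := by
  decide +kernel

/-- The element with a given code. -/
def emM (v g s w : G) (c : ℕ) : G := mvec v g (c / 168) * sig g s w (c % 168)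

variable {v g s w : G} (h : MRel v g s w)
include h

theorem MRel.c23 : g * v * g⁻¹ * (g ^ 2 * v * (g ^ 2)⁻¹) = g ^ 2 * v * (g ^ 2)⁻¹ * (g * v * g⁻¹) := by
  calc g * v * g⁻¹ * (g ^ 2 * v * (g ^ 2)⁻¹) = g * (v * (g * v * g⁻¹)) * g⁻¹ := by rw [pow_two]; group
    _ = g * (g * v * g⁻¹ * v) * g⁻¹ := by rw [h.c12]
    _ = _ := by rw [pow_two]; group

theorem MRel.mvec_mul {a b : ℕ} (ha : a < 64) (hb : b < 64) :
    mvec v g (byte qTab (64 * a + b)) = mvec v g a * mvec v g b ∧ byte qTab (64 * a + b) < 64 := by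
  rw [Nat.eq_of_beq_eq_true (allUpTo_spec (allUpTo_spec q_spec ha) hb)]
  refine ⟨?_, by omega⟩
  set y := g * v * g⁻¹ with hy
  set z := g ^ 2 * v * (g ^ 2)⁻¹ with hz
  have hxy : Commute v y := h.c12
  have hxz : Commute v z := h.c13
  have hyz : Commute y z := h.c23
  have hy4 : y ^ 4 = 1 := by rw [hy, conj_pow, h.v4]; group
  have hz4 : z ^ 4 = 1 := by rw [hz, conj_pow, h.v4]; group
  simp only [mvec, ← hy, ← hz]
  clear_value y z
  have p1 : ∀ n, v ^ (n % 4) = v ^ n := fun n => (pow_eq_pow_mod n h.v4).symm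
  have p2 : ∀ n, y ^ (n % 4) = y ^ n := fun n => (pow_eq_pow_mod n hy4).symm
  have p3 : ∀ n, z ^ (n % 4) = z ^ n := fun n => (pow_eq_pow_mod n hz4).symm
  rw [show ∀ i j k : ℕ, i < 4 → j < 4 → k < 4 → (i * 16 + j * 4 + k) / 16 = i from fun i j k _ _ _ => by omega,
    show ∀ i j k : ℕ, i < 4 → j < 4 → k < 4 → (i * 16 + j * 4 + k) / 4 % 4 = j from fun i j k _ _ _ => by omega,
    show ∀ i j k : ℕ, i < 4 → j < 4 → k < 4 → (i * 16 + j * 4 + k) % 4 = k from fun i j k _ _ _ => by omega,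
    p1, p2, p3, pow_add v, pow_add y, pow_add z]
  · calc v ^ (a / 16) * v ^ (b / 16) * (y ^ (a / 4 % 4) * y ^ (b / 4 % 4)) * (z ^ (a % 4) * z ^ (b % 4))
        = v ^ (a / 16) * (v ^ (b / 16) * y ^ (a / 4 % 4)) * (y ^ (b / 4 % 4) * z ^ (a % 4)) * z ^ (b % 4) := by
          group
      _ = v ^ (a / 16) * (y ^ (a / 4 % 4) * v ^ (b / 16)) * (z ^ (a % 4) * y ^ (b / 4 % 4)) * z ^ (b % 4) := by
          rw [(hxy.pow_pow _ _).eq, (hyz.pow_pow _ _).eq]
      _ = v ^ (a / 16) * y ^ (a / 4 % 4) * (v ^ (b / 16) * z ^ (a % 4)) * y ^ (b / 4 % 4) * z ^ (b % 4) := by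
          group
      _ = _ := by rw [(hxz.pow_pow _ _).eq]; group
  all_goals omega

theorem MRel.mvec_pow {a : ℕ} (ha : a < 64) (n : ℕ) : mvec v g (qPow a n) = mvec v g a ^ n ∧ qPow a n < 64 := by
  induction n with
  | zero => exact ⟨by simp [qPow, mvec], by simp [qPow]⟩
  | succ n ih =>
    have := h.mvec_mul ha ih.2
    simp only [qPow, Function.iterate_succ_apply'] at this ih ⊢
    exact ⟨by rw [this.1, ih.1, ← pow_succ'], this.2⟩

theorem MRel.mvec_lin {x : G} {i j k : ℕ} (hi : i < 64) (hj : j < 64) (hk : k < 64)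
    (ei : x * v = mvec v g i * x) (ej : x * (g * v * g⁻¹) = mvec v g j * x)
    (ek : x * (g ^ 2 * v * (g ^ 2)⁻¹) = mvec v g k * x) (a : ℕ) :
    x * mvec v g a = mvec v g (linC i j k a) * x := by
  have p1 := h.mvec_pow hi (a / 16)
  have p2 := h.mvec_pow hj (a / 4 % 4)
  have p3 := h.mvec_pow hk (a % 4)
  have q1 := h.mvec_mul p1.2 p2.2
  have q2 := h.mvec_mul q1.2 p3.2
  rw [linC, q2.1, q1.1, p1.1, p2.1, p3.1]
  have c1 : SemiconjBy x v (mvec v g i) := ei
  have c2 : SemiconjBy x (g * v * g⁻¹) (mvec v g j) := ej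
  have c3 : SemiconjBy x (g ^ 2 * v * (g ^ 2)⁻¹) (mvec v g k) := ek
  exact ((c1.pow_right _).mul_right (c2.pow_right _)).mul_right (c3.pow_right _)

theorem MRel.gen_act {a : ℕ} (ha : a < 64) : g * mvec v g a = mvec v g (actL 3 a) * g ∧
    s * mvec v g a = mvec v g (actL 1 a) * s ∧ w * mvec v g a = mvec v g (actL 21 a) * w := by
  have hk := allUpTo_spec act_gen ha
  simp only [Bool.and_eq_true, Nat.beq_eq, Nat.blt_eq] at hk
  obtain ⟨⟨⟨h1, h2⟩, h3⟩, h4⟩ := hk
  have e1 : mvec v g 16 = v := by simp [mvec]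
  have e2 : mvec v g 4 = g * v * g⁻¹ := by simp [mvec]
  have e3 : mvec v g 1 = g ^ 2 * v * (g ^ 2)⁻¹ := by simp [mvec]
  have e12 : mvec v g 12 = (g * v * g⁻¹) ^ 3 := by simp [mvec]
  have e22 : mvec v g 2 = (g ^ 2 * v * (g ^ 2)⁻¹) ^ 2 := by simp [mvec]
  have e48 : mvec v g 48 = v ^ 3 := by simp [mvec]
  have m1 := h.mvec_mul (a := 16) (b := 12) (by norm_num) (by norm_num)
  have m2 := h.mvec_mul (b := 2) m1.2 (by norm_num)
  rw [h1, h2, h3]
  refine ⟨?_, ?_, ?_⟩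
  · refine h.mvec_lin (by norm_num) (by norm_num) m2.2 (by rw [e2]; group) (by rw [e3, pow_two]; group) ?_ a
    rw [m2.1, m1.1, e1, e12, e22, ← h.cg]; group
  · refine h.mvec_lin (by norm_num) (by norm_num) h4 (by rw [e1, h.cs]) ?_ ?_ a
    · rw [e3]
      calc s * (g * v * g⁻¹) = (s ^ 1 * g ^ 1) * v * g⁻¹ := by group
        _ = g ^ 2 * (s * v) * g⁻¹ := by rw [h.l.s_pow_g]; group
        _ = g ^ 2 * v * (s * g⁻¹) := by rw [h.cs]; group
        _ = g ^ 2 * v * ((g ^ 2)⁻¹ * s) := by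
          congr 1
          calc s * g⁻¹ = (g ^ 2)⁻¹ * (g ^ 2 * s) * g⁻¹ := by group
            _ = (g ^ 2)⁻¹ * (s * g) * g⁻¹ := by rw [h.l.sg]
            _ = _ := by group
        _ = _ := by group
    · have e : s * (g ^ 2 * v * (g ^ 2)⁻¹) = g ^ 4 * v * (g ^ 4)⁻¹ * s := by
        calc s * (g ^ 2 * v * (g ^ 2)⁻¹) = (s ^ 1 * g ^ 2) * v * (g ^ 2)⁻¹ := by group
          _ = g ^ 4 * (s * v) * (g ^ 2)⁻¹ := by rw [h.l.s_pow_g]; group
          _ = g ^ 4 * v * (s * (g ^ 2)⁻¹) := by rw [h.cs]; group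
          _ = g ^ 4 * v * ((g ^ 4)⁻¹ * s) := by
            congr 1
            calc s * (g ^ 2)⁻¹ = (g ^ 4)⁻¹ * (g ^ (2 ^ 1 * 2) * s ^ 1) * (g ^ 2)⁻¹ := by group
              _ = (g ^ 4)⁻¹ * (s ^ 1 * g ^ 2) * (g ^ 2)⁻¹ := by rw [h.l.s_pow_g]
              _ = _ := by group
          _ = _ := by group
      rw [e]
      congr 1
      have k1 : actL 1 1 = byte qTab (64 * byte qTab (64 * 4 + qPow 1 3) + qPow (byte qTab (64 * byte qTab (64 * 16 + 12) + 2)) 2) := by
        decide +kernel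
      have p3 := h.mvec_pow (a := 1) (by norm_num) 3
      have q1 := h.mvec_mul (a := 4) (by norm_num) p3.2
      have p2 := h.mvec_pow m2.2 2
      have q2 := h.mvec_mul q1.2 p2.2
      rw [k1, q2.1, q1.1, p3.1, p2.1, m2.1, m1.1, e1, e2, e3, e12, e22, ← h.cg]
      have hd : ∀ a b c : G, g * (a * b ^ 3 * c ^ 2) * g⁻¹ =
          g * a * g⁻¹ * (g * b * g⁻¹) ^ 3 * (g * c * g⁻¹) ^ 2 := fun a b c => by
        rw [conj_pow, conj_pow]; group
      have c := (congrArg (fun X : G => g * X * g⁻¹) h.cg).trans (hd _ _ _)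
      rw [show g * (g ^ 3 * v * (g ^ 3)⁻¹) * g⁻¹ = g ^ 4 * v * (g ^ 4)⁻¹ by simp [pow_succ, mul_assoc],
        show g * (g * v * g⁻¹) * g⁻¹ = g ^ 2 * v * (g ^ 2)⁻¹ by simp [pow_succ, mul_assoc],
        show g * (g ^ 2 * v * (g ^ 2)⁻¹) * g⁻¹ = g ^ 3 * v * (g ^ 3)⁻¹ by simp [pow_succ, mul_assoc]] at c
      exact c
  · refine h.mvec_lin (by norm_num) (by norm_num) (by norm_num) (by rw [e48, h.cw]) (by rw [e3]; exact h.cw2) ?_ a
    rw [e2]
    calc w * (g ^ 2 * v * (g ^ 2)⁻¹) = w * (g ^ 2 * v * (g ^ 2)⁻¹ * w) * w := by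
          simp only [mul_assoc, h.l.w2, mul_one]
      _ = w * (w * (g * v * g⁻¹)) * w := by rw [h.cw2]
      _ = _ := by simp only [← mul_assoc, h.l.w2, one_mul]

theorem MRel.sig_act {x : ℕ} (hx : x < 168) {a : ℕ} (ha : a < 64) :
    sig g s w x * mvec v g a = mvec v g (actL x a) * sig g s w x := by
  let P : ℕ → G → Prop := fun x y => ∀ a, a < 64 → y * mvec v g a = mvec v g (actL x a) * y
  have hb : ∀ x a, x < 168 → a < 64 → actL x a < 64 ∧ actL (mulL 3 x) a = actL 3 (actL x a) ∧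
      actL (mulL 1 x) a = actL 1 (actL x a) ∧ actL (mulL 21 x) a = actL 21 (actL x a) ∧ actL 0 a = a :=
    fun x a hx ha => by
      have hk := allUpTo_spec (allUpTo_spec act_comp hx) ha
      simp only [Bool.and_eq_true, Nat.beq_eq, Nat.blt_eq] at hk
      exact ⟨hk.1.2, hk.1.1.1.1, hk.1.1.1.2, hk.1.1.2, hk.2⟩
  have step : ∀ {y z : G} {x x' : ℕ}, x < 168 → P x' y → (∀ a, a < 64 → actL x' a < 64) →
      (P x z) → ∀ a, a < 64 → y * z * mvec v g a = mvec v g (actL x' (actL x a)) * (y * z) := by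
    intro y z x x' hx hy _ hz a ha
    rw [mul_assoc, hz a ha, ← mul_assoc, hy _ (hb x a hx ha).1, mul_assoc]
  have hg : P 3 g := fun a ha => (h.gen_act ha).1
  have hs : P 1 s := fun a ha => (h.gen_act ha).2.1
  have hw : P 21 w := fun a ha => (h.gen_act ha).2.2
  have e3 : sig g s w 3 = g := by simp [sig, frob]
  have e1 : sig g s w 1 = s := by simp [sig, frob]
  have e21 : sig g s w 21 = w := by simp [sig, frob]
  have stepP : ∀ {q : ℕ}, q = 3 ∨ q = 1 ∨ q = 21 → ∀ {x}, x < 168 → P x (sig g s w x) →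
      P (mulL q x) (sig g s w (mulL q x)) ∧ mulL q x < 168 := by
    intro q hq x hx hP
    have hh := h.l.sig_hom (a := q) (by omega) hx
    refine ⟨fun a ha => ?_, hh.2⟩
    rw [hh.1]
    obtain ⟨b0, b1, b2, b3, -⟩ := hb x a hx ha
    rcases hq with rfl | rfl | rfl
    · rw [b1, e3]; exact step hx hg (fun a ha => (hb 3 a (by norm_num) ha).1) hP a ha
    · rw [b2, e1]; exact step hx hs (fun a ha => (hb 1 a (by norm_num) ha).1) hP a ha
    · rw [b3, e21]; exact step hx hw (fun a ha => (hb 21 a (by norm_num) ha).1) hP a ha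
  have iter : ∀ {q : ℕ}, q = 3 ∨ q = 1 ∨ q = 21 → ∀ n {x}, x < 168 → P x (sig g s w x) →
      P ((mulL q)^[n] x) (sig g s w ((mulL q)^[n] x)) ∧ (mulL q)^[n] x < 168 := by
    intro q hq n
    induction n with
    | zero => exact fun hx hP => ⟨hP, hx⟩
    | succ n ih =>
      intro x hx hP
      rw [Function.iterate_succ_apply']
      exact stepP hq (ih hx hP).2 (ih hx hP).1
  have h0 : P 0 (sig g s w 0) := fun a ha => by
    rw [(hb 0 a (by norm_num) ha).2.2.2.2]; simp [sig, frob]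
  have cover : allUpTo (fun x => Nat.beq x (if x < 21 then (mulL 3)^[x / 3] ((mulL 1)^[x % 3] 0) else
      (mulL 3)^[x / 21 - 1] (mulL 21 ((mulL 3)^[x % 21 / 3] ((mulL 1)^[x % 21 % 3] 0))))) 168 = true := by
    decide +kernel
  have hc := Nat.eq_of_beq_eq_true (allUpTo_spec cover hx)
  rw [hc]
  by_cases h1 : x < 21
  · simp only [if_pos h1]
    have e := iter (Or.inr (Or.inl rfl)) (x % 3) (show 0 < 168 by norm_num) h0
    exact (iter (Or.inl rfl) (x / 3) e.2 e.1).1 a ha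
  · simp only [if_neg h1]
    have e := iter (Or.inr (Or.inl rfl)) (x % 21 % 3) (show 0 < 168 by norm_num) h0
    have e' := iter (Or.inl rfl) (x % 21 / 3) e.2 e.1
    have e'' := stepP (q := 21) (Or.inr (Or.inr rfl)) e'.2 e'.1
    exact (iter (Or.inl rfl) (x / 21 - 1) e''.2 e''.1).1 a ha

/-- The relations give a homomorphism from the model. -/
theorem MRel.hom {a b : ℕ} (ha : a < 10752) (hb : b < 10752) :
    emM v g s w (mulM a b) = emM v g s w a * emM v g s w b ∧ mulM a b < 10752 := by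
  have hk := allUpTo_spec (allUpTo_spec act_comp (show a % 168 < 168 by omega)) (show b / 168 < 64 by omega)
  simp only [Bool.and_eq_true, Nat.blt_eq] at hk
  have m := h.mvec_mul (show a / 168 < 64 by omega) hk.1.2
  have l := h.l.sig_hom (show a % 168 < 168 by omega) (show b % 168 < 168 by omega)
  refine ⟨?_, by unfold mulM; omega⟩
  rw [emM, emM, emM, mulM]
  rw [show ∀ p q : ℕ, q < 168 → (p * 168 + q) / 168 = p from fun p q hq => by omega,
    show ∀ p q : ℕ, q < 168 → (p * 168 + q) % 168 = q from fun p q hq => by omega, m.1, l.1]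
  · rw [mul_assoc, mul_assoc, ← mul_assoc (sig g s w (a % 168)) (mvec v g (b / 168)),
      h.sig_act (by omega) (by omega)]
    simp only [mul_assoc]
  · exact l.2
  · exact l.2

end Cfsg.Agent.HSUniq
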