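import Cfsg.Agent.Lib.HSUniq.LocalMOrd
import Cfsg.Agent.Lib.HSUniq.MHom

/-!
Codes for the abelian normal subgroup of the second local subgroup, with the elements of order seven and three.
-/

set_option autoImplicit false
set_option maxRecDepth 30000

namespace Cfsg.Agent.HSUniq.LocM

variable {G : Type*} [Group G]

/-- The relations of the module. -/
structure ModRel (v g : G) : Prop where
  v4 : v ^ 4 = 1
  c12 : Commute v (g * v * g⁻¹)
  c13 : Commute v (g ^ 2 * v * (g ^ 2)⁻¹)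
  c23 : Commute (g * v * g⁻¹) (g ^ 2 * v * (g ^ 2)⁻¹)

theorem mvec_units (v g : G) : mvec v g 0 = 1 ∧ mvec v g 16 = v ∧ mvec v g 4 = g * v * g⁻¹ ∧
    mvec v g 1 = g ^ 2 * v * (g ^ 2)⁻¹ := by simp [mvec]

section Module

variable {v g : G} (h : ModRel v g)
include h

theorem ModRel.mvec_mul {a b : ℕ} (ha : a < 64) (hb : b < 64) :
    mvec v g (byte qTab (64 * a + b)) = mvec v g a * mvec v g b ∧ byte qTab (64 * a + b) < 64 := by
  rw [Nat.eq_of_beq_eq_true (allUpTo_spec (allUpTo_spec q_spec ha) hb)]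
  refine ⟨?_, by omega⟩
  set y := g * v * g⁻¹ with hy
  set z := g ^ 2 * v * (g ^ 2)⁻¹ with hz
  have hxy : Commute v y := h.c12
  have hxz : Commute v z := h.c13
  have hyz : Commute y z := h.c23
  have hy4 : y ^ 4 = 1 := by rw [hy, conj_pow, h.v4]; group
  have hz4 : z ^ 4 = 1 := by rw [hz, conj_pow, h.v4]; group
  simp only [mvec, ← hy, ← hz]
  clear_value y z
  have p1 : ∀ n, v ^ (n % 4) = v ^ n := fun n => (pow_eq_pow_mod n h.v4).symm
  have p2 : ∀ n, y ^ (n % 4) = y ^ n := fun n => (pow_eq_pow_mod n hy4).symm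
  have p3 : ∀ n, z ^ (n % 4) = z ^ n := fun n => (pow_eq_pow_mod n hz4).symm
  rw [show ∀ i j k : ℕ, i < 4 → j < 4 → k < 4 → (i * 16 + j * 4 + k) / 16 = i from fun i j k _ _ _ => by omega,
    show ∀ i j k : ℕ, i < 4 → j < 4 → k < 4 → (i * 16 + j * 4 + k) / 4 % 4 = j from fun i j k _ _ _ => by omega,
    show ∀ i j k : ℕ, i < 4 → j < 4 → k < 4 → (i * 16 + j * 4 + k) % 4 = k from fun i j k _ _ _ => by omega,
    p1, p2, p3, pow_add v, pow_add y, pow_add z]
  · calc v ^ (a / 16) * v ^ (b / 16) * (y ^ (a / 4 % 4) * y ^ (b / 4 % 4)) * (z ^ (a % 4) * z ^ (b % 4))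
        = v ^ (a / 16) * (v ^ (b / 16) * y ^ (a / 4 % 4)) * (y ^ (b / 4 % 4) * z ^ (a % 4)) * z ^ (b % 4) := by
          group
      _ = v ^ (a / 16) * (y ^ (a / 4 % 4) * v ^ (b / 16)) * (z ^ (a % 4) * y ^ (b / 4 % 4)) * z ^ (b % 4) := by
          rw [(hxy.pow_pow _ _).eq, (hyz.pow_pow _ _).eq]
      _ = v ^ (a / 16) * y ^ (a / 4 % 4) * (v ^ (b / 16) * z ^ (a % 4)) * y ^ (b / 4 % 4) * z ^ (b % 4) := by
          group
      _ = _ := by rw [(hxz.pow_pow _ _).eq]; group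
  all_goals omega

theorem ModRel.mvec_pow {a : ℕ} (ha : a < 64) (n : ℕ) : mvec v g (qPow a n) = mvec v g a ^ n ∧ qPow a n < 64 := by
  induction n with
  | zero => exact ⟨by simp [qPow, mvec], by simp [qPow]⟩
  | succ n ih =>
    have := h.mvec_mul ha ih.2
    simp only [qPow, Function.iterate_succ_apply'] at this ih ⊢
    exact ⟨by rw [this.1, ih.1, ← pow_succ'], this.2⟩

theorem ModRel.mvec_linC {i j k : ℕ} (hi : i < 64) (hj : j < 64) (hk : k < 64) (a : ℕ) :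
    mvec v g (linC i j k a) = mvec v g i ^ (a / 16) * mvec v g j ^ (a / 4 % 4) * mvec v g k ^ (a % 4) ∧
      linC i j k a < 64 := by
  have p1 := h.mvec_pow hi (a / 16)
  have p2 := h.mvec_pow hj (a / 4 % 4)
  have p3 := h.mvec_pow hk (a % 4)
  have q1 := h.mvec_mul p1.2 p2.2
  have q2 := h.mvec_mul q1.2 p3.2
  exact ⟨by rw [linC, q2.1, q1.1, p1.1, p2.1, p3.1], by rw [linC]; exact q2.2⟩

theorem ModRel.sq3 {p q r : G} (hpq : Commute p q) (hpr : Commute p r) (hqr : Commute q r) (i j k : ℕ) :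
    (p ^ i * q ^ j * r ^ k) ^ 2 = (p ^ 2) ^ i * (q ^ 2) ^ j * (r ^ 2) ^ k := by
  rw [((hpr.pow_pow i k).mul_left (hqr.pow_pow j k)).mul_pow, (hpq.pow_pow i j).mul_pow]
  simp only [← pow_mul, Nat.mul_comm 2]

theorem ModRel.mvec_comm {a b : ℕ} (ha : a < 64) (hb : b < 64) : Commute (mvec v g a) (mvec v g b) := by
  have h1 : ∀ a, Commute v (mvec v g a) := fun a =>
    (((Commute.refl v).pow_right _).mul_right (h.c12.pow_right _)).mul_right (h.c13.pow_right _)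
  have h2 : ∀ a, Commute (g * v * g⁻¹) (mvec v g a) := fun a =>
    ((h.c12.symm.pow_right _).mul_right ((Commute.refl _).pow_right _)).mul_right (h.c23.pow_right _)
  have h3 : ∀ a, Commute (g ^ 2 * v * (g ^ 2)⁻¹) (mvec v g a) := fun a =>
    ((h.c13.symm.pow_right _).mul_right (h.c23.symm.pow_right _)).mul_right ((Commute.refl _).pow_right _)
  exact (((h1 b).pow_left _).mul_left ((h2 b).pow_left _)).mul_left ((h3 b).pow_left _)

end Module

/-- An element acts on the module by a map of codes. -/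
def Acts (v g x : G) (L : ℕ → ℕ) : Prop := ∀ a < 64, L a < 64 ∧ x * mvec v g a = mvec v g (L a) * x

/-- An element acts on the squares by a map of codes. -/
def ActsSq (v g x : G) (L : ℕ → ℕ) : Prop := ∀ a < 64, L a < 64 ∧ x * mvec v g a ^ 2 = mvec v g (L a) ^ 2 * x

theorem Acts.sq {v g x : G} {L : ℕ → ℕ} (h : Acts v g x L) : ActsSq v g x L := fun a ha =>
  ⟨(h a ha).1, (show SemiconjBy x (mvec v g a) (mvec v g (L a)) from (h a ha).2).pow_right 2⟩

theorem Acts.comp {v g x y : G} {L L' : ℕ → ℕ} (h : Acts v g x L) (h' : Acts v g y L') :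
    Acts v g (x * y) (fun a => L (L' a)) := fun a ha =>
  ⟨(h _ (h' a ha).1).1, by rw [mul_assoc, (h' a ha).2, ← mul_assoc, (h _ (h' a ha).1).2, mul_assoc]⟩

theorem ActsSq.comp {v g x y : G} {L L' : ℕ → ℕ} (h : ActsSq v g x L) (h' : ActsSq v g y L') :
    ActsSq v g (x * y) (fun a => L (L' a)) := fun a ha =>
  ⟨(h _ (h' a ha).1).1, by rw [mul_assoc, (h' a ha).2, ← mul_assoc, (h _ (h' a ha).1).2, mul_assoc]⟩

theorem Acts.one (v g : G) : Acts v g 1 id := fun a ha => ⟨ha, by simp⟩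

theorem ActsSq.one (v g : G) : ActsSq v g 1 id := (Acts.one v g).sq

theorem Acts.iter {v g x : G} {L : ℕ → ℕ} (h : Acts v g x L) : ∀ n, Acts v g (x ^ n) (L^[n])
  | 0 => by rw [pow_zero]; exact Acts.one v g
  | n + 1 => by
    rw [pow_succ', Function.iterate_succ']
    exact h.comp (Acts.iter h n)

theorem ActsSq.iter {v g x : G} {L : ℕ → ℕ} (h : ActsSq v g x L) : ∀ n, ActsSq v g (x ^ n) (L^[n])
  | 0 => by rw [pow_zero]; exact ActsSq.one v g
  | n + 1 => by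
    rw [pow_succ', Function.iterate_succ']
    exact h.comp (ActsSq.iter h n)

variable [Finite G] {t : G} {R Cy A V M : Subgroup G} (L : Loc t R Cy A V M) {v g s : G} (S : Start t A V M v g s)
include L S

theorem Start.v4 : v ^ 4 = 1 := L.expA v S.vA

theorem Start.conjA (n : ℕ) : g ^ n * v * (g ^ n)⁻¹ ∈ A := L.normA _ (M.pow_mem S.gM n) v S.vA

theorem Start.modRel : ModRel v g where
  v4 := L.expA v S.vA
  c12 := L.commA v S.vA _ (L.normA g S.gM v S.vA)
  c13 := L.commA v S.vA _ (S.conjA L 2)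
  c23 := L.commA _ (L.normA g S.gM v S.vA) _ (S.conjA L 2)

theorem Start.mvec_mem (a : ℕ) : mvec v g a ∈ A :=
  A.mul_mem (A.mul_mem (A.pow_mem S.vA _) (A.pow_mem (L.normA g S.gM v S.vA) _)) (A.pow_mem (S.conjA L 2) _)

theorem Start.st : s * t = t * s := by
  rw [← S.v2]; exact ((show Commute s v from S.sv).mul_right S.sv).eq

theorem Start.mvec_inj {a b : ℕ} (ha : a < 64) (hb : b < 64) (e : mvec v g a = mvec v g b) : a = b := by
  have hm := S.modRel L
  set y := g * v * g⁻¹ with hy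
  set z := g ^ 2 * v * (g ^ 2)⁻¹ with hz
  have eg : ∀ n, g ^ n * t * (g ^ n)⁻¹ = (g ^ n * v * (g ^ n)⁻¹) * (g ^ n * v * (g ^ n)⁻¹) := fun n => by
    rw [← S.v2]; group
  have ht2 : g * t * g⁻¹ = y * y := by rw [hy, ← S.v2]; group
  have ht3 : g ^ 2 * t * (g ^ 2)⁻¹ = z * z := eg 2
  have hgt : ∀ {x : G}, x ∈ V → g * x * g⁻¹ = x → x = 1 := fun hx h => S.fix _ hx (mul_inv_eq_iff_eq_mul.1 h)
  have hV1 : g * t * g⁻¹ ∈ V := L.normV g S.gM t L.tV
  have hV2 : g ^ 2 * t * (g ^ 2)⁻¹ ∈ V := L.normV _ (M.pow_mem S.gM 2) t L.tV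
  have n1 : t ≠ 1 := L.f.t1
  have n2 : g * t * g⁻¹ ≠ 1 := fun h => n1 (conj_eq_one_iff.1 h)
  have n3 : g ^ 2 * t * (g ^ 2)⁻¹ ≠ 1 := fun h => n1 (conj_eq_one_iff.1 h)
  have q : ∀ {x y : G}, x ∈ V → y ∈ V → x * y = 1 → x = y := fun {x y} _ hy h => by
    rw [eq_inv_of_mul_eq_one_left h]; exact inv_eq_of_mul_eq_one_right (L.sq_one y hy)
  have n12 : t * (g * t * g⁻¹) ≠ 1 := fun h => n1 (hgt L.tV (q L.tV hV1 h).symm)
  have n23 : g * t * g⁻¹ * (g ^ 2 * t * (g ^ 2)⁻¹) ≠ 1 := fun h => by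
    have h' := q hV1 hV2 h
    refine n1 (hgt L.tV ?_)
    calc g * t * g⁻¹ = g⁻¹ * (g ^ 2 * t * (g ^ 2)⁻¹) * g := by rw [pow_two]; group
      _ = g⁻¹ * (g * t * g⁻¹) * g := by rw [← h']
      _ = t := by group
  have n13 : t * (g ^ 2 * t * (g ^ 2)⁻¹) ≠ 1 := fun h => by
    have h' := q L.tV hV2 h
    refine n1 (S.fix _ L.tV ?_)
    have h2 : Commute (g ^ 2) t := mul_inv_eq_iff_eq_mul.1 h'.symm
    have hg1 : (g ^ 2) ^ 4 = g := by rw [← pow_mul, pow_succ, S.g7, one_mul]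
    exact hg1 ▸ (h2.pow_left 4).eq
  have n123 : t * (g * t * g⁻¹) * (g ^ 2 * t * (g ^ 2)⁻¹) ≠ 1 := fun h => by
    have hab : t * (g * t * g⁻¹) = g ^ 2 * t * (g ^ 2)⁻¹ := q (V.mul_mem L.tV hV1) hV2 h
    have h3 : g ^ 3 * t * (g ^ 3)⁻¹ = t := by
      calc g ^ 3 * t * (g ^ 3)⁻¹ = g * (t * (g * t * g⁻¹)) * g⁻¹ := by
            rw [hab]; simp [pow_succ, mul_assoc]
        _ = g * t * g⁻¹ * (g ^ 2 * t * (g ^ 2)⁻¹) := by rw [pow_two]; group
        _ = g * t * g⁻¹ * (t * (g * t * g⁻¹)) := by rw [hab]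
        _ = g * t * g⁻¹ * (g * t * g⁻¹ * t) := by
            rw [L.commA t (L.VA L.tV) _ (L.VA hV1)]
        _ = t := by rw [← mul_assoc, L.sq_one _ hV1, one_mul]
    refine n1 (S.fix _ L.tV ?_)
    have h2 : Commute (g ^ 3) t := mul_inv_eq_iff_eq_mul.1 h3
    have hg1 : (g ^ 3) ^ 5 = g := by rw [← pow_mul, show 3 * 5 = 7 * 2 + 1 from rfl, pow_succ, pow_mul, S.g7, one_pow, one_mul]
    exact hg1 ▸ (h2.pow_left 5).eq
  -- the kernel is trivial
  have hker : ∀ c < 64, mvec v g c = 1 → c = 0 := by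
    intro c hc h
    have hsq : t ^ (c / 16) * (g * t * g⁻¹) ^ (c / 4 % 4) * (g ^ 2 * t * (g ^ 2)⁻¹) ^ (c % 4) = 1 := by
      have := hm.sq3 (p := v) (q := y) (r := z) hm.c12 hm.c13 hm.c23 (c / 16) (c / 4 % 4) (c % 4)
      rw [show v ^ (c / 16) * y ^ (c / 4 % 4) * z ^ (c % 4) = mvec v g c from rfl, h, one_pow,
        pow_two v, S.v2, pow_two y, ← ht2, pow_two z, ← ht3] at this
      exact this.symm
    have par : ∀ {x : G}, x ∈ V → ∀ n, x ^ n = x ^ (n % 2) := fun hx n =>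
      pow_eq_pow_mod n (by rw [pow_two]; exact L.sq_one _ hx)
    rw [par L.tV, par hV1, par hV2] at hsq
    have hev : c / 16 % 2 = 0 ∧ c / 4 % 4 % 2 = 0 ∧ c % 4 % 2 = 0 := by
      rcases Nat.mod_two_eq_zero_or_one (c / 16) with e1 | e1 <;>
        rcases Nat.mod_two_eq_zero_or_one (c / 4 % 4) with e2 | e2 <;>
        rcases Nat.mod_two_eq_zero_or_one (c % 4) with e3 | e3 <;>
        simp only [e1, e2, e3, pow_zero, pow_one, one_mul, mul_one] at hsq <;>
        first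
          | exact ⟨e1, e2, e3⟩
          | exact absurd hsq n1
          | exact absurd hsq n2
          | exact absurd hsq n3
          | exact absurd hsq n12
          | exact absurd hsq n13
          | exact absurd hsq n23
          | exact absurd hsq n123
    obtain ⟨i, hi⟩ := Nat.dvd_of_mod_eq_zero hev.1
    obtain ⟨j, hj⟩ := Nat.dvd_of_mod_eq_zero hev.2.1
    obtain ⟨k, hk⟩ := Nat.dvd_of_mod_eq_zero hev.2.2
    have h' : t ^ i * (g * t * g⁻¹) ^ j * (g ^ 2 * t * (g ^ 2)⁻¹) ^ k = 1 := by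
      rw [← h, mvec, hi, hj, hk, pow_mul v, pow_mul (g * v * g⁻¹), pow_mul (g ^ 2 * v * (g ^ 2)⁻¹), pow_two v, S.v2,
        pow_two (g * v * g⁻¹), ← hy, ← ht2, pow_two (g ^ 2 * v * (g ^ 2)⁻¹), ← hz, ← ht3]
    have hi2 : i < 2 := by omega
    have hj2 : j < 2 := by omega
    have hk2 : k < 2 := by omega
    interval_cases i <;> interval_cases j <;> interval_cases k <;>
      simp only [pow_zero, pow_one, one_mul, mul_one] at h' <;>
      first
        | omega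
        | exact absurd h' n1
        | exact absurd h' n2
        | exact absurd h' n3
        | exact absurd h' n12
        | exact absurd h' n13
        | exact absurd h' n23
        | exact absurd h' n123
  have hneg := hm.mvec_pow ha 3
  have hd := hm.mvec_mul hneg.2 hb
  have h0 : byte qTab (64 * qPow a 3 + b) = 0 := by
    refine hker _ hd.2 ?_
    rw [hd.1, hneg.1, e, ← pow_succ]
    exact L.expA _ (S.mvec_mem L b)
  have tab : allUpTo (fun a => allUpTo (fun b => !Nat.beq (byte qTab (64 * qPow a 3 + b)) 0 || Nat.beq a b) 64) 64 =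
      true := by decide +kernel
  have := allUpTo_spec (allUpTo_spec tab ha) hb
  rw [h0] at this
  exact Nat.eq_of_beq_eq_true (by simpa using this)

theorem Start.code {x : G} (hx : x ∈ A) : ∃ a < 64, mvec v g a = x := by
  have hf : Function.Bijective (fun a : Fin 64 => (⟨mvec v g a, S.mvec_mem L a⟩ : A)) := by
    refine (Nat.bijective_iff_injective_and_card _).2 ⟨fun a b e => Fin.ext ?_, by simp [L.cardA]⟩
    exact S.mvec_inj L a.2 b.2 (congrArg Subtype.val e)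
  obtain ⟨a, ha⟩ := hf.2 ⟨x, hx⟩
  exact ⟨a, a.2, congrArg Subtype.val ha⟩

theorem Start.acts_lin {x : G} {i j k : ℕ} (hi : i < 64) (hj : j < 64) (hk : k < 64)
    (ei : x * v = mvec v g i * x) (ej : x * (g * v * g⁻¹) = mvec v g j * x)
    (ek : x * (g ^ 2 * v * (g ^ 2)⁻¹) = mvec v g k * x) : Acts v g x (linC i j k) := fun a _ => by
  obtain ⟨e, hlt⟩ := (S.modRel L).mvec_linC hi hj hk a
  refine ⟨hlt, ?_⟩
  rw [e]
  exact (((show SemiconjBy x v _ from ei).pow_right _).mul_right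
    ((show SemiconjBy x _ _ from ej).pow_right _)).mul_right ((show SemiconjBy x _ _ from ek).pow_right _)

theorem Start.actsSq_lin {x : G} {i j k : ℕ} (hi : i < 64) (hj : j < 64) (hk : k < 64)
    (ei : x * v ^ 2 = mvec v g i ^ 2 * x) (ej : x * (g * v * g⁻¹) ^ 2 = mvec v g j ^ 2 * x)
    (ek : x * (g ^ 2 * v * (g ^ 2)⁻¹) ^ 2 = mvec v g k ^ 2 * x) : ActsSq v g x (linC i j k) := fun a ha => by
  have hm := S.modRel L
  obtain ⟨e, hlt⟩ := hm.mvec_linC hi hj hk a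
  refine ⟨hlt, ?_⟩
  rw [e, hm.sq3 (hm.mvec_comm hi hj) (hm.mvec_comm hi hk) (hm.mvec_comm hj hk), mvec,
    hm.sq3 hm.c12 hm.c13 hm.c23]
  exact (((show SemiconjBy x _ _ from ei).pow_right _).mul_right
    ((show SemiconjBy x _ _ from ej).pow_right _)).mul_right ((show SemiconjBy x _ _ from ek).pow_right _)

theorem Start.exists_acts {x : G} (hx : x ∈ M) : ∃ i j k, i < 64 ∧ j < 64 ∧ k < 64 ∧
    mvec v g i = x * v * x⁻¹ ∧ mvec v g j = x * (g * v * g⁻¹) * x⁻¹ ∧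
    mvec v g k = x * (g ^ 2 * v * (g ^ 2)⁻¹) * x⁻¹ ∧ Acts v g x (linC i j k) := by
  obtain ⟨i, hi, ei⟩ := S.code L (L.normA x hx v S.vA)
  obtain ⟨j, hj, ej⟩ := S.code L (L.normA x hx _ (L.normA g S.gM v S.vA))
  obtain ⟨k, hk, ek⟩ := S.code L (L.normA x hx _ (S.conjA L 2))
  exact ⟨i, j, k, hi, hj, hk, ei, ej, ek,
    S.acts_lin L hi hj hk (by rw [ei]; group) (by rw [ej]; group) (by rw [ek]; group)⟩

theorem Start.acts_eq {x : G} {L₁ L₂ : ℕ → ℕ} (h₁ : Acts v g x L₁) (h₂ : Acts v g x L₂) {a : ℕ} (ha : a < 64) :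
    L₁ a = L₂ a :=
  S.mvec_inj L (h₁ a ha).1 (h₂ a ha).1 (mul_right_cancel ((h₁ a ha).2.symm.trans (h₂ a ha).2))

theorem Start.sq_eq {a b : ℕ} (ha : a < 64) (hb : b < 64) (e : mvec v g a ^ 2 = mvec v g b ^ 2) :
    qPow a 2 = qPow b 2 := by
  have hm := S.modRel L
  exact S.mvec_inj L (hm.mvec_pow ha 2).2 (hm.mvec_pow hb 2).2 (by rw [(hm.mvec_pow ha 2).1, (hm.mvec_pow hb 2).1, e])

theorem Start.mem_of_sq {x : G} {f : ℕ → ℕ} (hx : x ∈ M) (h : ActsSq v g x f)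
    (hid : ∀ a ∈ [16, 4, 1], qPow (f a) 2 = qPow a 2) : x ∈ A := by
  have hm := S.modRel L
  have key : ∀ a ∈ [16, 4, 1], Commute x (mvec v g a ^ 2) := fun a ha => by
    have ha' : a < 64 := by rcases List.mem_cons.1 ha with rfl | ha <;> simp_all <;> rcases ha with rfl | rfl <;> norm_num
    obtain ⟨hlt, he⟩ := h a ha'
    rw [← (hm.mvec_pow hlt 2).1, hid a ha, (hm.mvec_pow ha' 2).1] at he
    exact he
  have k1 := key 16 (by simp); have k2 := key 4 (by simp); have k3 := key 1 (by simp)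
  rw [(mvec_units v g).2.1] at k1
  rw [(mvec_units v g).2.2.1] at k2
  rw [(mvec_units v g).2.2.2] at k3
  refine L.centA x hx fun y hy => ?_
  obtain ⟨a, ha, hay⟩ := L.sqV y hy
  obtain ⟨c, -, rfl⟩ := S.code L ha
  rw [← hay, ← pow_two, mvec, hm.sq3 hm.c12 hm.c13 hm.c23]
  exact (((k1.pow_right _).mul_right (k2.pow_right _)).mul_right (k3.pow_right _)).eq

end Cfsg.Agent.HSUniq.LocM
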