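import Cfsg.Agent.Lib.HSUniq.LocalMGroup

/-!
Elements of order seven and three in the second local subgroup.
-/

set_option autoImplicit false

namespace Cfsg.Agent.HSUniq.LocM

variable {G : Type*} [Group G] [Finite G]

/-- A Frobenius group of order `21` in the second local subgroup, the element of order three fixing `t`. -/
structure Start (t : G) (A V M : Subgroup G) (v g s : G) : Prop where
  gM : g ∈ M
  sM : s ∈ M
  vA : v ∈ A
  g7 : g ^ 7 = 1
  s3 : s ^ 3 = 1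
  sA : s ∉ A
  sg : s * g = g ^ 2 * s
  v2 : v * v = t
  sv : s * v = v * s
  fix : ∀ y ∈ V, g * y = y * g → y = 1

theorem pow_conj_pow {g : G} (i j : ℕ) (y : G) :
    g ^ i * (g ^ j * y * (g ^ j)⁻¹) * (g ^ i)⁻¹ = g ^ (i + j) * y * (g ^ (i + j))⁻¹ := by
  rw [pow_add, mul_inv_rev]; simp only [mul_assoc]

theorem conj_orbit {t : G} {R Cy A V M : Subgroup G} (L : Loc t R Cy A V M) {g : G} (hgM : g ∈ M)
    (hg : orderOf g = 7) :
    (∀ y ∈ V, g * y = y * g → y = 1) ∧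
      ∀ x ∈ V, x ≠ 1 → ∀ y ∈ V, y ≠ 1 → ∃ i : ℕ, g ^ i * x * (g ^ i)⁻¹ = y := by
  classical
  haveI := Fintype.ofFinite V
  have g7 : g ^ 7 = 1 := hg ▸ pow_orderOf_eq_one g
  have hne : ∃ x ∈ V, g * x ≠ x * g := by
    by_contra h
    push Not at h
    have hA := L.centA g hgM h
    have := Subgroup.orderOf_dvd_natCard A hA
    rw [hg, L.cardA] at this
    norm_num at this
  obtain ⟨x, hx, hxg⟩ := hne
  let f : Fin 7 → {y : V // y ≠ 1} := fun i =>
    ⟨⟨g ^ (i : ℕ) * x * (g ^ (i : ℕ))⁻¹, L.normV _ (M.pow_mem hgM _) x hx⟩, fun e => by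
      have h := congrArg Subtype.val e
      simp only [Subgroup.coe_one, conj_eq_one_iff] at h
      exact hxg (by rw [h, one_mul, mul_one])⟩
  have hinj : Function.Injective f := by
    intro i j e
    by_contra hij
    have h : g ^ (i : ℕ) * x * (g ^ (i : ℕ))⁻¹ = g ^ (j : ℕ) * x * (g ^ (j : ℕ))⁻¹ :=
      congrArg (fun y : {y : V // y ≠ 1} => ((y.1 : V) : G)) e
    set d := ((j : ℕ) + 7 - i) % 7 with hd
    have hd0 : d ≠ 0 := by
      intro hz
      apply hij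
      ext
      omega
    have hfix : g ^ d * x * (g ^ d)⁻¹ = x := by
      have h2 := congrArg (fun z => g ^ (7 - (i : ℕ)) * z * (g ^ (7 - (i : ℕ)))⁻¹) h
      simp only [pow_conj_pow] at h2
      rw [pow_eq_pow_mod _ g7] at h2
      rw [pow_eq_pow_mod (7 - (i : ℕ) + j) g7] at h2
      rw [show (7 - (i : ℕ) + i) % 7 = 0 by omega, show (7 - (i : ℕ) + j) % 7 = d by omega] at h2
      simpa using h2.symm
    obtain ⟨m, hm⟩ : ∃ m, d * m % 7 = 1 := by
      refine ⟨[0, 1, 4, 5, 2, 3, 6].getD d 0, ?_⟩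
      have : d < 7 := Nat.mod_lt _ (by norm_num)
      interval_cases d <;> first | exact absurd rfl hd0 | rfl
    have hc : Commute (g ^ d) x := mul_inv_eq_iff_eq_mul.1 hfix
    have hg1 : (g ^ d) ^ m = g := by rw [← pow_mul, pow_eq_pow_mod _ g7, hm, pow_one]
    exact hxg (hg1 ▸ (hc.pow_left m).eq)
  have hsurj : Function.Surjective f := by
    refine ((Fintype.bijective_iff_injective_and_card f).2 ⟨hinj, ?_⟩).2
    rw [Fintype.card_fin, Fintype.card_subtype_compl, Fintype.card_subtype_eq, ← Nat.card_eq_fintype_card, L.cardV]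
  have hfix : ∀ y ∈ V, g * y = y * g → y = 1 := by
    intro y hy hgy
    by_contra hy1
    obtain ⟨i, hi⟩ := hsurj ⟨⟨y, hy⟩, fun e => hy1 (congrArg Subtype.val e)⟩
    have h : g ^ (i : ℕ) * x * (g ^ (i : ℕ))⁻¹ = y := congrArg (fun y : {y : V // y ≠ 1} => ((y.1 : V) : G)) hi
    have hc : Commute (g ^ (i : ℕ)) y := (show Commute g y from hgy).pow_left _
    have hxy : x = y := by
      calc x = (g ^ (i : ℕ))⁻¹ * (g ^ (i : ℕ) * x * (g ^ (i : ℕ))⁻¹) * g ^ (i : ℕ) := by group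
        _ = y := by rw [h, mul_assoc, ← hc.eq, ← mul_assoc, inv_mul_cancel, one_mul]
    exact hxg (hxy ▸ hgy)
  refine ⟨hfix, fun a ha ha1 b hb hb1 => ?_⟩
  obtain ⟨i, hi⟩ := hsurj ⟨⟨a, ha⟩, fun e => ha1 (congrArg Subtype.val e)⟩
  obtain ⟨j, hj⟩ := hsurj ⟨⟨b, hb⟩, fun e => hb1 (congrArg Subtype.val e)⟩
  have hi' : g ^ (i : ℕ) * x * (g ^ (i : ℕ))⁻¹ = a := congrArg (fun y : {y : V // y ≠ 1} => ((y.1 : V) : G)) hi
  have hj' : g ^ (j : ℕ) * x * (g ^ (j : ℕ))⁻¹ = b := congrArg (fun y : {y : V // y ≠ 1} => ((y.1 : V) : G)) hj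
  refine ⟨(j : ℕ) + 7 - i, ?_⟩
  rw [← hi', pow_conj_pow, show (j : ℕ) + 7 - i + i = j + 7 by omega, pow_add, g7, mul_one, hj']

theorem exists_frob {M : Subgroup G} (hM : Nat.card M = 10752) :
    ∃ g ∈ M, ∃ s ∈ M, orderOf g = 7 ∧ orderOf s = 3 ∧ (s * g = g * s ∨ s * g = g ^ 2 * s) := by
  classical
  haveI : Fact (Nat.Prime 7) := ⟨by norm_num⟩
  haveI : Fact (Nat.Prime 3) := ⟨by norm_num⟩
  obtain ⟨g, hg⟩ := exists_prime_orderOf_dvd_card' (G := M) 7 (by rw [hM]; norm_num)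
  obtain ⟨P, hP⟩ := (IsPGroup.of_card (n := 1) (show Nat.card (Subgroup.zpowers g) = 7 ^ 1 by
    rw [Nat.card_zpowers, hg, pow_one])).exists_le_sylow
  have hP7 : (P : Subgroup M) = Subgroup.zpowers g := by
    refine (Subgroup.eq_of_le_of_card_ge hP ?_).symm
    rw [Nat.card_zpowers, hg]
    obtain ⟨k, hk⟩ := IsPGroup.iff_card.1 P.isPGroup'
    have hd := Subgroup.card_subgroup_dvd_card (P : Subgroup M)
    rw [hk, hM] at hd
    rw [hk]
    by_contra hlt
    have : 2 ≤ k := by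
      by_contra hk2
      interval_cases k <;> norm_num at hlt
    exact absurd (dvd_trans (pow_dvd_pow 7 this) hd) (by norm_num)
  have hn1 : Nat.card (Sylow 7 M) % 7 = 1 := card_sylow_modEq_one 7 M
  have hn2 : Nat.card (Sylow 7 M) ∣ 1536 := by
    have h := P.card_dvd_index
    have hi := (P : Subgroup M).card_mul_index
    rw [hP7, Nat.card_zpowers, hg, hM] at hi
    rwa [hP7, show (Subgroup.zpowers g).index = 1536 by omega] at h
  set N := Subgroup.normalizer ((P : Subgroup M) : Set M) with hN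
  have h3 : 3 ∣ Nat.card N := by
    have h := N.card_mul_index
    rw [hN, hM] at h
    erw [← P.card_eq_index_normalizer] at h
    have h3' : 3 ∣ Nat.card N * Nat.card (Sylow 7 M) := by rw [hN, h]; norm_num
    refine ((Nat.prime_three).dvd_mul.1 h3').resolve_right fun hd => ?_
    obtain ⟨m, hm⟩ := hd
    rw [hm] at hn2 hn1
    have hm2 : m ∣ 2 ^ 9 := Nat.dvd_of_mul_dvd_mul_left (by norm_num : 0 < 3) (by norm_num; exact hn2)
    obtain ⟨k, hk, rfl⟩ := (Nat.dvd_prime_pow Nat.prime_two).1 hm2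
    interval_cases k <;> norm_num at hn1
  obtain ⟨s, hs⟩ := exists_prime_orderOf_dvd_card' (G := N) 3 h3
  have hs3 : orderOf (((s : N) : M) : G) = 3 := by rw [Subgroup.orderOf_coe, Subgroup.orderOf_coe, hs]
  have hsg : (s : M) * g * (s : M)⁻¹ ∈ Subgroup.zpowers g := by
    have := (Subgroup.mem_normalizer_iff.1 s.2 g).1 (hP7.symm ▸ Subgroup.mem_zpowers g)
    rwa [hP7] at this
  obtain ⟨k, hk, ek⟩ := Finset.mem_image.1 (mem_zpowers_iff_mem_range_orderOf.1 hsg)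
  rw [Finset.mem_range, hg] at hk
  set x : G := ((g : M) : G) with hx
  set y : G := (((s : N) : M) : G) with hy
  have e1 : y * x * y⁻¹ = x ^ k := (congrArg Subtype.val ek).symm
  have hxo : orderOf x = 7 := by rw [hx, Subgroup.orderOf_coe, hg]
  have hy3 : y ^ 3 = 1 := hs3 ▸ pow_orderOf_eq_one y
  have e2 : y ^ 2 * x * (y ^ 2)⁻¹ = x ^ (k * k) := by
    calc y ^ 2 * x * (y ^ 2)⁻¹ = y * (y * x * y⁻¹) * y⁻¹ := by rw [pow_two]; group
      _ = y * x ^ k * y⁻¹ := by rw [e1]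
      _ = (y * x * y⁻¹) ^ k := by rw [conj_pow]
      _ = _ := by rw [e1, ← pow_mul]
  have e3 : x ^ (k * k * k) = x := by
    calc x ^ (k * k * k) = (y * x * y⁻¹) ^ (k * k) := by rw [e1, ← pow_mul, Nat.mul_comm (k * k)]
      _ = y * (y ^ 2 * x * (y ^ 2)⁻¹) * y⁻¹ := by rw [conj_pow, e2]
      _ = y ^ 3 * x * (y ^ 3)⁻¹ := by simp [pow_succ, mul_assoc]
      _ = x := by rw [hy3]; group
  have hk3 : k * k * k % 7 = 1 := by
    have h := pow_inj_mod.1 (show x ^ (k * k * k) = x ^ 1 by rw [e3, pow_one])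
    rwa [hxo] at h
  refine ⟨x, (g : M).2, ?_⟩
  interval_cases k <;> norm_num at hk3
  · exact ⟨y, ((s : N) : M).2, hxo, hs3, Or.inl (by rw [pow_one] at e1; exact mul_inv_eq_iff_eq_mul.1 e1)⟩
  · exact ⟨y, ((s : N) : M).2, hxo, hs3, Or.inr (mul_inv_eq_iff_eq_mul.1 e1)⟩
  · refine ⟨y⁻¹, M.inv_mem ((s : N) : M).2, hxo, by rw [orderOf_inv, hs3], Or.inr ?_⟩
    have hinv : y⁻¹ = y ^ 2 := inv_eq_of_mul_eq_one_right (by rw [← pow_succ', hy3])
    rw [hinv, ← mul_inv_eq_iff_eq_mul, e2, show (4 * 4 : ℕ) = 7 * 2 + 2 from rfl, pow_add, pow_mul, ← hxo,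
      pow_orderOf_eq_one, one_pow, one_mul]

theorem exists_start {t : G} {R Cy A V M : Subgroup G} (L : Loc t R Cy A V M) :
    ∃ v g s, Start t A V M v g s := by
  classical
  obtain ⟨g, hgM, s, hsM, hg, hs, hsg⟩ := exists_frob L.cardM
  haveI : Fact (Nat.Prime 3) := ⟨by norm_num⟩
  haveI := Fintype.ofFinite V
  have g7 : g ^ 7 = 1 := hg ▸ pow_orderOf_eq_one g
  have s3 : s ^ 3 = 1 := hs ▸ pow_orderOf_eq_one s
  have hsA : s ∉ A := fun h => by
    have := Subgroup.orderOf_dvd_natCard A h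
    rw [hs, L.cardA] at this
    norm_num at this
  obtain ⟨hfix, horb⟩ := conj_orbit L hgM hg
  -- a fixed point of the element of order three
  let π : Equiv.Perm {y : V // y ≠ 1} :=
    { toFun := fun y => ⟨⟨s * y.1 * s⁻¹, L.normV s hsM _ y.1.2⟩, fun e => y.2 (Subtype.ext (by
        simpa [conj_eq_one_iff] using congrArg Subtype.val e))⟩
      invFun := fun y => ⟨⟨s⁻¹ * y.1 * s, by simpa using L.normV _ (M.inv_mem hsM) _ y.1.2⟩, fun e => y.2 (Subtype.ext (by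
        have h := congrArg Subtype.val e
        simp only [Subgroup.coe_one] at h
        calc ((y.1 : V) : G) = s * (s⁻¹ * y.1 * s) * s⁻¹ := by group
          _ = 1 := by rw [h]; group))⟩
      left_inv := fun y => Subtype.ext (Subtype.ext (show s⁻¹ * (s * ((y.1 : V) : G) * s⁻¹) * s = _ by group))
      right_inv := fun y => Subtype.ext (Subtype.ext (show s * (s⁻¹ * ((y.1 : V) : G) * s) * s⁻¹ = _ by group)) }
  have hπ : π ^ 3 ^ 1 = 1 := by
    ext y
    show s * (s * (s * ((y.1 : V) : G) * s⁻¹) * s⁻¹) * s⁻¹ = ((y.1 : V) : G)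
    calc s * (s * (s * ((y.1 : V) : G) * s⁻¹) * s⁻¹) * s⁻¹ = s ^ 3 * y.1 * (s ^ 3)⁻¹ := by
          simp [pow_succ, mul_assoc]
      _ = _ := by rw [s3]; group
  obtain ⟨⟨⟨x, hxV⟩, hx1⟩, hx⟩ := Equiv.Perm.exists_fixed_point_of_prime (p := 3) (n := 1) (by
    rw [Fintype.card_subtype_compl, Fintype.card_subtype_eq, ← Nat.card_eq_fintype_card, L.cardV]; norm_num) hπ
  have hsx : s * x * s⁻¹ = x := congrArg (fun y : {y : V // y ≠ 1} => ((y.1 : V) : G)) hx
  have hx1' : x ≠ 1 := fun e => hx1 (Subtype.ext e)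
  rcases hsg with hsg | hsg
  · exfalso
    refine hsA (L.centA s hsM fun y hy => ?_)
    by_cases hy1 : y = 1
    · rw [hy1, one_mul, mul_one]
    obtain ⟨i, hi⟩ := horb x hxV hx1' y hy hy1
    have hc : Commute s (g ^ i) := (show Commute s g from hsg).pow_right i
    have hc' : Commute s x := mul_inv_eq_iff_eq_mul.1 hsx
    exact hi ▸ ((hc.mul_right hc').mul_right hc.inv_right).eq
  obtain ⟨i, hi⟩ := horb x hxV hx1' t L.tV L.f.t1
  have hsiM : g ^ i * s * (g ^ i)⁻¹ ∈ M := M.mul_mem (M.mul_mem (M.pow_mem hgM i) hsM) (M.inv_mem (M.pow_mem hgM i))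
  set u := g ^ i * s * (g ^ i)⁻¹ with hu
  have hut : u * t * u⁻¹ = t := by
    rw [hu, ← hi]
    calc g ^ i * s * (g ^ i)⁻¹ * (g ^ i * x * (g ^ i)⁻¹) * (g ^ i * s * (g ^ i)⁻¹)⁻¹
        = g ^ i * (s * x * s⁻¹) * (g ^ i)⁻¹ := by group
      _ = _ := by rw [hsx]
  have hu3 : u ^ 3 = 1 := by rw [hu, conj_pow, s3]; group
  have hug : u * g = g ^ 2 * u := by
    calc g ^ i * s * (g ^ i)⁻¹ * g = g ^ i * (s * g) * (g ^ i)⁻¹ := by
          rw [mul_assoc _ _ g, (show Commute (g ^ i)⁻¹ g from ((Commute.refl g).pow_left i).inv_left).eq]; group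
      _ = g ^ i * g ^ 2 * s * (g ^ i)⁻¹ := by rw [hsg]; group
      _ = g ^ 2 * (g ^ i * s * (g ^ i)⁻¹) := by rw [← pow_add, add_comm, pow_add]; group
  have huA : u ∉ A := fun h => hsA (by
    have := L.normA _ (M.inv_mem (M.pow_mem hgM i)) u h
    rwa [hu, show (g ^ i)⁻¹ * (g ^ i * s * (g ^ i)⁻¹) * (g ^ i)⁻¹⁻¹ = s by group] at this)
  obtain ⟨a, ha, hat⟩ := L.sqV t L.tV
  have hua : ∀ {b}, b ∈ A → u * b * u⁻¹ ∈ A := fun hb => L.normA u hsiM _ hb
  set a1 := u * a * u⁻¹ with ha1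
  set a2 := u * a1 * u⁻¹ with ha2
  have h1 : a1 ∈ A := hua ha
  have h2 : a2 ∈ A := hua h1
  have hback : u * a2 * u⁻¹ = a := by
    rw [ha2, ha1]
    calc u * (u * (u * a * u⁻¹) * u⁻¹) * u⁻¹ = u ^ 3 * a * (u ^ 3)⁻¹ := by simp [pow_succ, mul_assoc]
      _ = a := by rw [hu3]; group
  refine ⟨a * a1 * a2, g, u, hgM, hsiM, A.mul_mem (A.mul_mem ha h1) h2, g7, hu3, huA, hug, ?_, ?_, hfix⟩
  · have c : ∀ {p q : G}, p ∈ A → q ∈ A → Commute p q := fun hp hq => L.commA _ hp _ hq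
    have e : a * a1 * a2 * (a * a1 * a2) = a * a * (a1 * a1) * (a2 * a2) := by
      calc a * a1 * a2 * (a * a1 * a2) = a * ((a1 * a2) * a) * (a1 * a2) := by group
        _ = a * (a * (a1 * a2)) * (a1 * a2) := by rw [(c (A.mul_mem h1 h2) ha).eq]
        _ = a * a * (a1 * (a2 * a1) * a2) := by group
        _ = a * a * (a1 * (a1 * a2) * a2) := by rw [(c h2 h1).eq]
        _ = _ := by group
    have q1 : a1 * a1 = t := by
      rw [ha1, ← hut, ← hat]; group
    have q2 : a2 * a2 = t := by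
      calc a2 * a2 = u * (a1 * a1) * u⁻¹ := by rw [ha2]; group
        _ = t := by rw [q1, hut]
    rw [e, hat, q1, q2, L.sq_one t L.tV, one_mul]
  · rw [← mul_inv_eq_iff_eq_mul]
    calc u * (a * a1 * a2) * u⁻¹ = (u * a * u⁻¹) * (u * a1 * u⁻¹) * (u * a2 * u⁻¹) := by group
      _ = a1 * a2 * a := by rw [hback, ← ha1, ← ha2]
      _ = _ := by rw [L.commA _ (A.mul_mem h1 h2) a ha]; group

end Cfsg.Agent.HSUniq.LocM
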