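import Cfsg.Agent.Lib.HSUniq.LocalMFrame

/-!
The normal 2-subgroup of the centraliser inside the second local subgroup: transvections and translations.
-/

set_option autoImplicit false
set_option maxRecDepth 30000

namespace Cfsg.Agent.HSUniq.LocM

variable {G : Type*} [Group G] [Finite G] {t : G} {R Cy A V M : Subgroup G} (L : Loc t R Cy A V M)
  {v g s : G} (F : Frame t A V M v g s)
include L F

theorem Frame.ye_mem : (g * v * g⁻¹) ^ 2 ∈ V ∧ (g ^ 2 * v * (g ^ 2)⁻¹) ^ 2 ∈ V := by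
  rw [pow_two, pow_two (g ^ 2 * v * (g ^ 2)⁻¹)]
  exact ⟨L.sqA _ (L.normA g F.gM v F.vA), L.sqA _ (F.conjA L 2)⟩

omit F in
theorem Loc.t_comm {r : G} (hr : r ∈ R) : t * r = r * t := by
  obtain ⟨c, -, hc2, hcc⟩ := L.f.four
  rw [← hc2]; exact ((show Commute c r from hcc r hr).mul_left (hcc r hr)).eq

theorem Frame.inf_le : Nat.card ↥(R ⊓ A) ≤ 16 :=
  abelian_le L.f inf_le_left fun x hx y hy => L.commA x hx.2 y hy.2

theorem Frame.fix_mem {r : G} (hr : r ∈ R) (h2 : r * (g * v * g⁻¹) ^ 2 = (g * v * g⁻¹) ^ 2 * r)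
    (h3 : r * (g ^ 2 * v * (g ^ 2)⁻¹) ^ 2 = (g ^ 2 * v * (g ^ 2)⁻¹) ^ 2 * r) : r ∈ A := by
  have h := F.actsSq_lin L (x := r) (i := 16) (j := 4) (k := 1) (by norm_num) (by norm_num) (by norm_num)
    (by rw [(mvec_units v g).2.1, pow_two, F.v2, L.t_comm hr])
    (by rw [(mvec_units v g).2.2.1, h2]) (by rw [(mvec_units v g).2.2.2, h3])
  exact F.mem_of_sq L (L.RM hr) h (by decide +kernel)

theorem Frame.trans : Nat.card ↥(R ⊓ A) = 16 ∧ ∀ b c : Bool, ∃ r ∈ R,
    r * (g * v * g⁻¹) ^ 2 = (if b then t * (g * v * g⁻¹) ^ 2 else (g * v * g⁻¹) ^ 2) * r ∧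
      r * (g ^ 2 * v * (g ^ 2)⁻¹) ^ 2 =
        (if c then t * (g ^ 2 * v * (g ^ 2)⁻¹) ^ 2 else (g ^ 2 * v * (g ^ 2)⁻¹) ^ 2) * r := by
  classical
  obtain ⟨hy, hz⟩ := F.ye_mem L
  set y := (g * v * g⁻¹) ^ 2
  set z := (g ^ 2 * v * (g ^ 2)⁻¹) ^ 2
  have key : ∀ x ∈ V, ∀ r ∈ R, ∃ b : Bool, r * x = (if b then t * x else x) * r := by
    intro x hx r hr
    rcases L.f.comm r hr x (L.VR hx) with h | h
    · exact ⟨false, h⟩
    · refine ⟨true, ?_⟩
      rw [if_pos rfl, h, ← L.t_comm (R.mul_mem (L.VR hx) hr), mul_assoc]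
  choose f hf using key
  have f_eq : ∀ {x} (hx : x ∈ V) {r r'} (hr : r ∈ R) (hr' : r' ∈ R), f x hx r hr = f x hx r' hr' →
      r⁻¹ * r' * x = x * (r⁻¹ * r') := by
    intro x hx r r' hr hr' e
    have h1 := hf x hx r hr
    have h2 := hf x hx r' hr'
    rw [← e] at h2
    set q := if f x hx r hr then t * x else x
    calc r⁻¹ * r' * x = r⁻¹ * (r' * x) := by group
      _ = r⁻¹ * q * r' := by rw [h2]; group
      _ = r⁻¹ * (q * r) * r⁻¹ * r' := by group
      _ = _ := by rw [← h1]; group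
  let φ : R → Bool × Bool := fun r => (f y hy r r.2, f z hz r r.2)
  let rep : Bool × Bool → R := fun p => if h : ∃ r, φ r = p then h.choose else 1
  have hrep : ∀ r, φ (rep (φ r)) = φ r := fun r => by
    have h : ∃ r', φ r' = φ r := ⟨r, rfl⟩
    simp only [rep, dif_pos h]
    exact h.choose_spec
  let j : R → {p // ∃ r, φ r = p} × ↥(R ⊓ A) := fun r =>
    (⟨φ r, r, rfl⟩, ⟨(rep (φ r) : G)⁻¹ * r, R.mul_mem (R.inv_mem (rep (φ r)).2) r.2,
      F.fix_mem L (R.mul_mem (R.inv_mem (rep (φ r)).2) r.2)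
        (f_eq hy (rep (φ r)).2 r.2 (congrArg Prod.fst (hrep r)))
        (f_eq hz (rep (φ r)).2 r.2 (congrArg Prod.snd (hrep r)))⟩)
  have hj : Function.Injective j := by
    intro a b e
    have e1 : φ a = φ b := congrArg (fun q : {p // ∃ r, φ r = p} × ↥(R ⊓ A) => q.1.1) e
    have e2 : (rep (φ a) : G)⁻¹ * a = (rep (φ b) : G)⁻¹ * b :=
      congrArg (fun q : {p // ∃ r, φ r = p} × ↥(R ⊓ A) => (q.2 : G)) e
    rw [e1] at e2
    exact Subtype.ext (mul_left_cancel e2)
  have hle := Nat.card_le_card_of_injective j hj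
  rw [Nat.card_prod, L.f.card] at hle
  have h16 := F.inf_le L
  have h4 : Nat.card {p : Bool × Bool // ∃ r, φ r = p} ≤ 4 :=
    le_trans (Nat.card_le_card_of_injective _ Subtype.val_injective) (by simp)
  refine ⟨by nlinarith, fun b c => ?_⟩
  by_contra hno
  have h3 : Nat.card {p : Bool × Bool // ∃ r, φ r = p} ≤ 3 := by
    refine le_trans (Nat.card_le_card_of_injective (fun p => (⟨p.1, fun e => hno ?_⟩ : {p : Bool × Bool // p ≠ (b, c)}))
      fun p q e => Subtype.ext (congrArg (fun p : {p : Bool × Bool // p ≠ (b, c)} => p.1) e)) ?_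
    · obtain ⟨r, hr⟩ := p.2
      rw [e] at hr
      refine ⟨r, r.2, ?_, ?_⟩
      · rw [hf y hy r r.2, show f y hy r r.2 = b from congrArg Prod.fst hr]
      · rw [hf z hz r r.2, show f z hz r r.2 = c from congrArg Prod.snd hr]
    · rw [Nat.card_eq_fintype_card, Fintype.card_subtype_compl, Fintype.card_subtype_eq]
      simp
  nlinarith

theorem Frame.pattern {r : G} (hr : r ∈ R) {b c : Bool}
    (h2 : r * (g * v * g⁻¹) ^ 2 = (if b then t * (g * v * g⁻¹) ^ 2 else (g * v * g⁻¹) ^ 2) * r)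
    (h3 : r * (g ^ 2 * v * (g ^ 2)⁻¹) ^ 2 =
        (if c then t * (g ^ 2 * v * (g ^ 2)⁻¹) ^ 2 else (g ^ 2 * v * (g ^ 2)⁻¹) ^ 2) * r) :
    ActsSq v g r (linC 16 (if b then 20 else 4) (if c then 17 else 1)) := by
  have hm := F.modRel L
  refine F.actsSq_lin L (by norm_num) (by cases b <;> norm_num) (by cases c <;> norm_num) ?_ ?_ ?_
  · rw [(mvec_units v g).2.1, pow_two, F.v2, L.t_comm hr]
  · cases b
    · simpa [(mvec_units v g).2.2.1] using h2
    · rw [if_pos rfl] at h2 ⊢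
      rw [h2, show mvec v g 20 = v * (g * v * g⁻¹) by simp [mvec], hm.c12.mul_pow, pow_two v, F.v2]
  · cases c
    · simpa [(mvec_units v g).2.2.2] using h3
    · rw [if_pos rfl] at h3 ⊢
      rw [h3, show mvec v g 17 = v * (g ^ 2 * v * (g ^ 2)⁻¹) by simp [mvec], hm.c13.mul_pow, pow_two v, F.v2]

theorem Frame.vcode_mem {c : ℕ} (hc : c ∈ vCodes) : mvec v g c ∈ V := by
  have h : ∀ c ∈ vCodes, qPow (c / 2) 2 = c ∧ c / 2 < 64 := by decide +kernel
  obtain ⟨e, hlt⟩ := h c hc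
  rw [← e, ((F.modRel L).mvec_pow hlt 2).1, pow_two]
  exact L.sqA _ (F.mvec_mem L _)

theorem Frame.mvec_qa {a b : ℕ} (ha : a < 64) (hb : b < 64) :
    mvec v g (qa a b) = mvec v g a * mvec v g b ∧ qa a b < 64 := (F.modRel L).mvec_mul ha hb

theorem Frame.conj_code {x : G} {f : ℕ → ℕ} (h : Acts v g x f) {a : ℕ} (ha : a < 64) :
    x * mvec v g a * x⁻¹ = mvec v g (f a) ∧ f a < 64 :=
  ⟨by rw [(h a ha).2, mul_inv_cancel_right], (h a ha).1⟩

theorem Frame.mem_R {a : ℕ} (ha : a < 64) : mvec v g a ∈ R ↔ inRA a = true := by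
  classical
  have mp : ∀ {a}, a < 64 → mvec v g a ∈ R → inRA a = true := by
    intro a ha hmem
    have hk := allUpTo_spec ra_ok ha
    by_contra hn
    rw [Bool.not_eq_true] at hn
    simp only [hn, Bool.false_or, Bool.and_eq_true, decide_eq_true_eq, List.all_eq_true, Nat.blt_eq] at hk
    obtain ⟨hnd, hlt⟩ := hk
    obtain ⟨es, hsa⟩ := F.conj_code L (F.act_s L) ha
    have hs : mvec v g (actL 1 a) ∈ R := es ▸ L.fixR s (F.st L) _ hmem
    have hv : ∀ {c}, c ∈ vCodes → mvec v g c ∈ R ∧ c < 64 := fun hc =>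
      ⟨L.VR (F.vcode_mem L hc), hlt _ (by simp [spread, hc])⟩
    have hin : ∀ c ∈ spread a, mvec v g c ∈ R := by
      intro c hc
      simp only [spread, List.mem_append, List.mem_map] at hc
      rcases hc with (hc | ⟨d, hd, rfl⟩) | ⟨d, hd, rfl⟩
      · exact (hv hc).1
      · rw [(F.mvec_qa L ha (hv hd).2).1]; exact R.mul_mem hmem (hv hd).1
      · rw [(F.mvec_qa L hsa (hv hd).2).1]; exact R.mul_mem hs (hv hd).1
    have hlen : (spread a).length = 24 := by simp [spread, vCodes]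
    have := Nat.card_le_card_of_injective
      (fun i : Fin (spread a).length =>
        (⟨mvec v g (spread a)[(i : ℕ)], hin _ (List.getElem_mem _), F.mvec_mem L _⟩ : ↥(R ⊓ A)))
      (fun i j e => Fin.ext (hnd.getElem_inj_iff.1 (F.mvec_inj L (hlt _ (List.getElem_mem _))
        (hlt _ (List.getElem_mem _)) (congrArg Subtype.val e))))
    rw [Nat.card_fin, hlen] at this
    have := F.inf_le L
    omega
  refine ⟨mp ha, fun hra => ?_⟩
  have h48 : qPow 16 3 = 48 := by decide +kernel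
  have m48 : mvec v g 48 = v ^ 3 := by simp [mvec]
  have split : ∀ {a}, a < 64 → inRA a = true → mvec v g a ∈ V ∨ mvec v g a * v ^ 3 ∈ V := by
    intro a ha hra
    have hk := allUpTo_spec ra_split.1 ha
    rw [hra] at hk
    simp only [Bool.not_true, Bool.false_or, Bool.or_eq_true, List.contains_iff_mem, h48] at hk
    rcases hk with hk | hk
    · exact Or.inl (F.vcode_mem L hk)
    · right; rw [← m48, ← (F.mvec_qa L ha (by norm_num)).1]; exact F.vcode_mem L hk
  have hv : v ∈ R := by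
    obtain ⟨x, hx, hxV⟩ : ∃ x ∈ R ⊓ A, x ∉ V := by
      by_contra h
      push Not at h
      have := Subgroup.card_le_of_le (H := R ⊓ A) (K := V) h
      rw [(F.trans L).1, L.cardV] at this
      omega
    obtain ⟨a, ha, rfl⟩ := F.code L hx.2
    rcases split ha (mp ha hx.1) with h | h
    · exact absurd h hxV
    · have h3 : v ^ 3 ∈ R := by
        rw [show v ^ 3 = (mvec v g a)⁻¹ * (mvec v g a * v ^ 3) by group]
        exact R.mul_mem (R.inv_mem hx.1) (L.VR h)
      rw [show v = (v ^ 3) ^ 3 by rw [← pow_mul, show 3 * 3 = 4 * 2 + 1 from rfl, pow_succ, pow_mul, L.expA v F.vA, one_pow, one_mul]]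
      exact R.pow_mem h3 3
  rcases split ha hra with h | h
  · exact L.VR h
  · rw [show mvec v g a = mvec v g a * v ^ 3 * v by rw [mul_assoc, ← pow_succ, L.expA v F.vA, mul_one]]
    exact R.mul_mem (L.VR h) hv

end Cfsg.Agent.HSUniq.LocM
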