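import Cfsg.Agent.Lib.HSUniq.HLocal

/-!
A change of the element of order seven in the coordinates of the second local subgroup.
-/

set_option autoImplicit false
set_option maxRecDepth 100000

namespace Cfsg.Agent.HSUniq

/-- The code of a power. -/
def pwM (a n : ℕ) : ℕ := (mulM a)^[n] 0

/-- The code, in new coordinates, of the element with code `c`, the element of order seven being replaced. -/
def phiC (g2 c : ℕ) : ℕ :=
  let e1 := mulM (mulM g2 2688) (pwM g2 6)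
  let e2 := mulM (mulM (pwM g2 2) 2688) (pwM g2 5)
  let a := c / 168
  let h := c % 168
  mulM (mulM (mulM (pwM 2688 (a / 16)) (pwM e1 (a / 4 % 4))) (pwM e2 (a % 4)))
    (if h < 21 then mulM (pwM g2 (h / 3)) (pwM 1 (h % 3))
    else mulM (mulM (pwM g2 (h / 21 - 1)) 21) (mulM (pwM g2 (h % 21 / 3)) (pwM 1 (h % 21 % 3))))

theorem phi_inverse : allUpTo (fun c => Nat.beq (phiC 8739 (phiC 4707 c)) c) 10752 = true := by decide +kernel

theorem phi_R : (rList.all fun c => rList.any fun d => Nat.beq (phiC 4707 (toM c)) (toM d)) = true ∧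
    (rList.all fun d => rList.any fun c => Nat.beq (phiC 4707 (toM c)) (toM d)) = true ∧
    phiC 4707 (toM 192) = toM 192 ∧ phiC 4707 (toM 12) = toM 972 := by decide +kernel

theorem phi_rels : pwM 4707 7 = 0 ∧ mulM 1 4707 = mulM (pwM 4707 2) 1 ∧
    mulM (mulM 21 4707) 21 = mulM (mulM (pwM 4707 6) 21) (pwM 4707 6) ∧
    mulM 2688 (mulM (mulM 4707 2688) (pwM 4707 6)) = mulM (mulM (mulM 4707 2688) (pwM 4707 6)) 2688 ∧
    mulM 2688 (mulM (mulM (pwM 4707 2) 2688) (pwM 4707 5)) =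
      mulM (mulM (mulM (pwM 4707 2) 2688) (pwM 4707 5)) 2688 ∧
    mulM (mulM (pwM 4707 3) 2688) (pwM 4707 4) =
      mulM (mulM 2688 (pwM (mulM (mulM 4707 2688) (pwM 4707 6)) 3))
        (pwM (mulM (mulM (pwM 4707 2) 2688) (pwM 4707 5)) 2) ∧
    mulM 21 (mulM (mulM 4707 2688) (pwM 4707 6)) = mulM (mulM (mulM (pwM 4707 2) 2688) (pwM 4707 5)) 21 := by
  decide +kernel

variable {G : Type*} [Group G] {v g s w : G} (h : MRel v g s w)
include h

theorem MRel.pw {a : ℕ} (ha : a < 10752) (n : ℕ) :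
    emM v g s w (pwM a n) = emM v g s w a ^ n ∧ pwM a n < 10752 := by
  induction n with
  | zero =>
    have := h.eB_zero
    rw [eB, show toM 0 = 0 by decide] at this
    exact ⟨by rw [pow_zero]; exact this, by simp [pwM]⟩
  | succ n ih =>
    have := h.hom ha ih.2
    simp only [pwM, Function.iterate_succ_apply'] at this ih ⊢
    exact ⟨by rw [this.1, ih.1, ← pow_succ'], this.2⟩

theorem MRel.relabel :
    MRel v (emM v g s w 4707) s w ∧
      ∀ c, c < 10752 → emM v (emM v g s w 4707) s w c = emM v g s w (phiC 4707 c) ∧ phiC 4707 c < 10752 := by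
  obtain ⟨hv, hs, hw, -⟩ := eB_v v g s w
  rw [eB, toM_gens.2.1] at hv
  rw [eB, toM_gens.2.2.1] at hs
  rw [eB, toM_gens.2.2.2] at hw
  have bv : 2688 < 10752 := by norm_num
  have b1 : 1 < 10752 := by norm_num
  have bw : 21 < 10752 := by norm_num
  have bg : 4707 < 10752 := by norm_num
  rw [show 16 * 168 = 2688 by rfl] at hv
  set g2 := emM v g s w 4707 with hg2
  have g7 : g2 ^ 7 = 1 := by
    rw [hg2, ← (h.pw bg 7).1, phi_rels.1]
    have := h.eB_zero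
    rwa [eB, show toM 0 = 0 by decide] at this
  have gi : ∀ a b, a + b = 7 → (g2 ^ a)⁻¹ = g2 ^ b := fun a b hab =>
    inv_eq_of_mul_eq_one_right (by rw [← pow_add, hab, g7])
  have gi1 : g2⁻¹ = g2 ^ 6 := by simpa using gi 1 6 rfl
  obtain ⟨p6, q6⟩ := h.pw bg 6
  obtain ⟨p5, q5⟩ := h.pw bg 5
  obtain ⟨p4, q4⟩ := h.pw bg 4
  obtain ⟨p3, q3⟩ := h.pw bg 3
  obtain ⟨p2, q2⟩ := h.pw bg 2
  obtain ⟨a1, c1⟩ := h.hom bg bv
  obtain ⟨e1, d1⟩ := h.hom c1 q6
  rw [a1, hv, p6, ← hg2, ← gi1] at e1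
  obtain ⟨a2, c2⟩ := h.hom q2 bv
  obtain ⟨e2, d2⟩ := h.hom c2 q5
  rw [a2, hv, p2, p5, ← hg2, ← gi 2 5 rfl] at e2
  obtain ⟨a3, c3⟩ := h.hom q3 bv
  obtain ⟨e3, d3⟩ := h.hom c3 q4
  rw [a3, hv, p3, p4, ← hg2, ← gi 3 4 rfl] at e3
  have mul : ∀ {a b : ℕ}, a < 10752 → b < 10752 → emM v g s w a * emM v g s w b = emM v g s w (mulM a b) :=
    fun ha hb => (h.hom ha hb).1.symm
  have r := phi_rels
  refine ⟨⟨⟨g7, h.l.s3, ?_, h.l.w2, h.l.ws, ?_⟩, h.v4, ?_, ?_, ?_, h.cs, h.cw, ?_⟩, fun c hc => ?_⟩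
  · have q := congrArg (emM v g s w) r.2.1
    rwa [(h.hom b1 bg).1, (h.hom q2 b1).1, p2, hs, ← hg2] at q
  · have q := congrArg (emM v g s w) r.2.2.1
    rwa [(h.hom (h.hom bw bg).2 bw).1, (h.hom bw bg).1, (h.hom (h.hom q6 bw).2 q6).1, (h.hom q6 bw).1, p6, hw,
      ← hg2] at q
  · have q := congrArg (emM v g s w) r.2.2.2.1
    rwa [(h.hom bv d1).1, (h.hom d1 bv).1, e1, hv] at q
  · have q := congrArg (emM v g s w) r.2.2.2.2.1
    rwa [(h.hom bv d2).1, (h.hom d2 bv).1, e2, hv] at q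
  · obtain ⟨f1, g1'⟩ := h.pw d1 3
    obtain ⟨f2, g2'⟩ := h.pw d2 2
    have q := congrArg (emM v g s w) r.2.2.2.2.2.1
    rwa [(h.hom (h.hom bv g1').2 g2').1, (h.hom bv g1').1, f1, f2, e1, e2, e3, hv] at q
  · have q := congrArg (emM v g s w) r.2.2.2.2.2.2
    rwa [(h.hom bw d1).1, (h.hom d2 bw).1, e1, e2, hw] at q
  · obtain ⟨x1, y1⟩ := h.pw bv (c / 168 / 16)
    obtain ⟨x2, y2⟩ := h.pw d1 (c / 168 / 4 % 4)
    obtain ⟨x3, y3⟩ := h.pw d2 (c / 168 % 4)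
    obtain ⟨z1, w1⟩ := h.hom y1 y2
    obtain ⟨z2, w2⟩ := h.hom w1 y3
    by_cases hh : c % 168 < 21
    · obtain ⟨x4, y4⟩ := h.pw bg (c % 168 / 3)
      obtain ⟨x5, y5⟩ := h.pw b1 (c % 168 % 3)
      obtain ⟨z3, w3⟩ := h.hom y4 y5
      obtain ⟨z4, w4⟩ := h.hom w2 w3
      refine ⟨?_, by simp only [phiC, if_pos hh]; exact w4⟩
      simp only [phiC, if_pos hh]
      rw [z4, z2, z1, z3, x1, x2, x3, x4, x5, e1, e2, hv, hs, ← hg2]
      simp only [emM, mvec, sig, frob, if_pos hh]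
    · obtain ⟨x6, y6⟩ := h.pw bg (c % 168 / 21 - 1)
      obtain ⟨z5, w5⟩ := h.hom y6 bw
      obtain ⟨x4, y4⟩ := h.pw bg (c % 168 % 21 / 3)
      obtain ⟨x5, y5⟩ := h.pw b1 (c % 168 % 21 % 3)
      obtain ⟨z3, w3⟩ := h.hom y4 y5
      obtain ⟨z6, w6⟩ := h.hom w5 w3
      obtain ⟨z4, w4⟩ := h.hom w2 w6
      refine ⟨?_, by simp only [phiC, if_neg hh]; exact w4⟩
      simp only [phiC, if_neg hh]
      rw [z4, z2, z1, z6, z5, z3, x1, x2, x3, x4, x5, x6, e1, e2, hv, hs, hw, ← hg2]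
      simp only [emM, mvec, sig, frob, if_neg hh]

omit h in
/-- The new coordinates describe the same subgroups. -/
theorem MData.relabel {t : G} {R : Subgroup G} (hM : MData t R v g s w rList) :
    MData t R v (emM v g s w 4707) s w rList ∧
      eB v (emM v g s w 4707) s w 192 = eB v g s w 192 ∧ eB v (emM v g s w 4707) s w 12 = eB v g s w 972 := by
  obtain ⟨hm, he⟩ := hM.m.relabel
  obtain ⟨r1, r2, h192, h12⟩ := phi_R
  have bl : ∀ c ∈ rList, c < 1536 := fun c hc =>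
    hM.mem_lt wf_first (((RData.wf_spec wf_first).2.2.2.2.2.1 c).2 hc)
  have eBphi : ∀ c, c < 1536 → eB v (emM v g s w 4707) s w c = emM v g s w (phiC 4707 (toM c)) := fun c hc =>
    (he _ (toM_lt hc)).1
  refine ⟨⟨hm, hM.vv, fun a b ha hb e => ?_, fun x => ?_⟩, ?_, ?_⟩
  · rw [(he a ha).1, (he b hb).1] at e
    have h1 := hM.inj _ _ (he a ha).2 (he b hb).2 e
    rw [← Nat.eq_of_beq_eq_true (allUpTo_spec phi_inverse ha), h1,
      Nat.eq_of_beq_eq_true (allUpTo_spec phi_inverse hb)]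
  · rw [hM.memR]
    constructor
    · rintro ⟨d, hd, rfl⟩
      have h1 := List.all_eq_true.1 r2 d hd
      simp only [List.any_eq_true, Nat.beq_eq] at h1
      obtain ⟨c, hc, e⟩ := h1
      exact ⟨c, hc, by rw [eBphi c (bl c hc), e]; rfl⟩
    · rintro ⟨c, hc, rfl⟩
      have h1 := List.all_eq_true.1 r1 c hc
      simp only [List.any_eq_true, Nat.beq_eq] at h1
      obtain ⟨d, hd, e⟩ := h1
      exact ⟨d, hd, by rw [eBphi c (bl c hc), e]; rfl⟩
  · rw [eBphi 192 (by norm_num), h192]; rfl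
  · rw [eBphi 12 (by norm_num), h12]; rfl

end Cfsg.Agent.HSUniq
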