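import Cfsg.Agent.Lib.HSUniq.HLocal
import Cfsg.Prelude.Def_Solvable
import Cfsg.Prelude.Def_CaseTheorems
import Cfsg.Prelude.Def_Transfer
import Mathlib.GroupTheory.NoncommCoprod

/-!
The hypotheses on the centraliser in the form used by the local arguments.
-/

set_option autoImplicit false

namespace Cfsg.Agent.HSUniq

variable {G : Type*} [Group G] [Finite G]

/-- The quotient by the normal 2-subgroup as a homomorphism onto the symmetric group. -/
theorem exists_centQuot (t : G) (H : Subgroup G) (hH : H = Subgroup.centralizer ({t} : Set G))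
    (R : Subgroup G) (hR : R = (Cfsg.pCore 2 H).map H.subtype)
    (eH : H ⧸ Cfsg.pCore 2 H ≃* Equiv.Perm (Fin 5)) :
    ∃ π : ↥(Subgroup.centralizer ({t} : Set G)) →* Equiv.Perm (Fin 5), CentQuot t R π := by
  subst hH
  refine ⟨eH.toMonoidHom.comp (QuotientGroup.mk' _),
    ⟨hR ▸ Subgroup.map_subtype_le _, eH.surjective.comp (QuotientGroup.mk'_surjective _), fun h => ?_⟩⟩
  rw [hR, MonoidHom.comp_apply, MulEquiv.coe_toMonoidHom, MulEquiv.map_eq_one_iff, QuotientGroup.mk'_apply,
    QuotientGroup.eq_one_iff]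
  exact (Subgroup.mem_map_iff_mem (Subgroup.subtype_injective _)).symm

/-- The order of the central product. -/
theorem card_centralProduct {R Cy E : Subgroup G} (hCycard : Nat.card Cy = 4)
    (hCyle : Cy ≤ R ⊓ Subgroup.centralizer (R : Set G)) (hEle : E ≤ R) (hEex : Cfsg.IsExtraspecial 2 E)
    (hEcard : Nat.card E = 32) (hprod : Cy ⊔ E = R) (hmeet : Cy ⊓ E = E ⊓ Subgroup.centralizer (E : Set G)) :
    Nat.card R = 64 := by
  have comm : ∀ (c : Cy) (e : E), Commute (Cy.subtype c) (E.subtype e) := fun c e =>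
    ((Subgroup.mem_inf.1 (hCyle c.2)).2 e (hEle e.2)).symm
  let f := MonoidHom.noncommCoprod Cy.subtype E.subtype comm
  have hr : f.range = R := by
    rw [MonoidHom.noncommCoprod_range, Subgroup.range_subtype, Subgroup.range_subtype, hprod]
  have hz : Nat.card (↥(E ⊓ Subgroup.centralizer (E : Set G))) = 2 := by
    rw [← hEex.2]
    refine Nat.card_congr ⟨fun z => ⟨⟨z, z.2.1⟩, Subgroup.mem_center_iff.2 fun e => Subtype.ext (z.2.2 e e.2)⟩,
      fun z => ⟨((z : E) : G), (z : E).2, fun e he => congrArg Subtype.val (Subgroup.mem_center_iff.1 z.2 ⟨e, he⟩)⟩,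
      fun z => rfl, fun z => rfl⟩
  have hk : Nat.card f.ker = 2 := by
    rw [← hz, ← hmeet]
    have key : ∀ z : f.ker, ((z : Cy × E).1 : G) = ((z : Cy × E).2 : G)⁻¹ := fun z =>
      eq_inv_of_mul_eq_one_left (MonoidHom.mem_ker.1 z.2)
    refine Nat.card_congr ⟨fun z => ⟨((z : Cy × E).1 : G), (z : Cy × E).1.2, by rw [key z]; exact E.inv_mem (z : Cy × E).2.2⟩,
      fun x => ⟨(⟨x, x.2.1⟩, ⟨x, x.2.2⟩⁻¹), MonoidHom.mem_ker.2 (show (x : G) * (x : G)⁻¹ = 1 by group)⟩,
      fun z => ?_, fun x => rfl⟩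
    refine Subtype.ext (Prod.ext rfl (Subtype.ext ?_))
    show (((z : Cy × E).1 : G))⁻¹ = _
    rw [key z, inv_inv]
  have e := f.ker.card_mul_index
  rw [Subgroup.index_ker, hr, hk, Nat.card_prod, hCycard, hEcard] at e
  omega

end Cfsg.Agent.HSUniq
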